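import Cfsg.Agent.Lib.Chev.All
import Cfsg.Agent.Lib.Chev.SL2
import Cfsg.Agent.Lib.Chev.Order
import Cfsg.Agent.Lib.Chev.Reflection
import Mathlib.NumberTheory.LegendreSymbol.QuadraticChar.Basic

/-!
# Involutions of a Chevalley group over a finite field of odd order: elementary moves

An involution is conjugate to a monomial one. A monomial involution inverting a root `r` loses the
reflection of `r` when its parameter at `r` is a square, and the parameters change by a conjugation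
in a rank one subgroup of another inverted root.
-/

set_option autoImplicit false

namespace CfsgLib.Chev.OddInvol

open Cfsg.Lie

universe v

variable {D : ChevalleyDatum} {co : ℕ → ℕ → ℤ} {F : Type v} [Field F]

/-- Conjugacy by an element of the group. -/
def Conj (D : ChevalleyDatum) (F : Type v) [Field F] (t m : GL D.Idx F) : Prop :=
  ∃ z ∈ D.group F, z * t * z⁻¹ = m

theorem Conj.trans {t m n : GL D.Idx F} (h1 : Conj D F t m) (h2 : Conj D F m n) : Conj D F t n := by
  obtain ⟨z, hz, rfl⟩ := h1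
  obtain ⟨z', hz', rfl⟩ := h2
  exact ⟨z' * z, Subgroup.mul_mem _ hz' hz, by group⟩

theorem Conj.sq_eq_one {t m : GL D.Idx F} (h : Conj D F t m) (ht : t * t = 1) : m * m = 1 := by
  obtain ⟨z, -, rfl⟩ := h
  calc z * t * z⁻¹ * (z * t * z⁻¹) = z * (t * t) * z⁻¹ := by group
    _ = 1 := by rw [ht, mul_one, mul_inv_cancel]

/-- An element of odd order inverted by an involution is absorbed by conjugation. -/
theorem absorb {G : Type*} [Group G] {m u : G} (hm : m * m = 1) (hu : m * u * m = u⁻¹)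
    (ho : Odd (orderOf u)) : ∃ v ∈ Subgroup.zpowers u, v * (m * u) * v⁻¹ = m := by
  obtain ⟨k, hk⟩ := ho
  refine ⟨u ^ (k + 1), Subgroup.pow_mem _ (Subgroup.mem_zpowers u) _, ?_⟩
  set v := u ^ (k + 1) with hv
  have hsq : v * v = u := by
    rw [hv, ← pow_add, show k + 1 + (k + 1) = orderOf u + 1 by omega, pow_succ,
      pow_orderOf_eq_one, one_mul]
  have hinv : m⁻¹ = m := inv_eq_of_mul_eq_one_right hm
  have hc : m * v * m = v⁻¹ := by
    rw [hv]
    nth_rewrite 2 [← hinv]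
    rw [← conj_pow, hinv, hu, inv_pow]
  have hmv : m * v = v⁻¹ * m := by
    rw [← hc]
    calc m * v = m * v * (m * m) := by rw [hm, mul_one]
      _ = _ := by group
  calc v * (m * u) * v⁻¹ = v * (m * v) * (v * v⁻¹) := by rw [← hsq]; group
    _ = m := by rw [hmv, mul_inv_cancel, mul_one]; group

variable (hF : Facts D co)
include hF

theorem permAct_nU (w : List (Fin D.rank)) (i : Fin D.rank) {t : F} (ht : t ≠ 0) :
    nU D (sW D w (hF.simpleFin i)).val t ∈ D.monomialSubgroup F ∧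
      PermAct (nU D (sW D w (hF.simpleFin i)).val t) (sW D w * sP D i * (sW D w)⁻¹) := by
  obtain ⟨e, he, hc⟩ := hF.nW_conj_nU (F := F) w (hF.simpleFin i)
  have hee : (e : F) * ((e : F) * t) = t := by rcases he with rfl | rfl <;> simp
  have hne : (e : F) * t ≠ 0 := by rcases he with rfl | rfl <;> simpa using ht
  have h := hc ((e : F) * t)
  rw [hee] at h
  have hp := hF.simple_lt' i.isLt
  have hs : nU D (hF.simpleFin i).val ((e : F) * t) =
      hU D (D.simple i.val) ((e : F) * t) * nS D F i := by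
    show nU D (D.simple i.val) _ = _
    rw [hU, ← hF.nU_inv hp, nS]; group
  have hd := hF.hU_mem_diagonal hp hne
  rw [← h, hs]
  refine ⟨Subgroup.mul_mem _ (Subgroup.mul_mem _ (hF.nW_mem w)
    (Subgroup.mul_mem _ (Subgroup.mem_sup_left hd) (hF.nS_mem i))) (Subgroup.inv_mem _ (hF.nW_mem w)),
    ?_⟩
  have h1 := hF.permAct_mul (hF.permAct_diagonal hd) (hF.permAct_nS (F := F) i)
  rw [one_mul] at h1
  exact hF.permAct_mul (hF.permAct_mul (hF.permAct_nW w) h1)
    (hF.permAct_inv (hF.nW_mem w) (hF.permAct_nW w))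

/-- The reflection of a root does not depend on the word reaching it. -/
theorem refl_eq {a b : List (Fin D.rank)} {i j : Fin D.rank}
    (h : sW D a (hF.simpleFin i) = sW D b (hF.simpleFin j)) :
    sW D a * sP D i * (sW D a)⁻¹ = sW D b * sP D j * (sW D b)⁻¹ := by
  have h1 := (permAct_nU (F := ℚ) hF a i one_ne_zero).2
  rw [h] at h1
  exact hF.permAct_unique h1 (permAct_nU (F := ℚ) hF b j one_ne_zero).2

theorem nU_mem_group {r : ℕ} (hr : r < D.nroots) (t : F) : nU D r t ∈ D.group F := by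
  rw [hF.group_eq]
  exact hF.nU_mem (fun u => xU_mem_rootClosure hr (P := fun _ => True) trivial u)
    (fun u => xU_mem_rootClosure (hF.neg_lt hr) trivial u) t

theorem xU_mem_group {r : ℕ} (hr : r < D.nroots) (t : F) : xU D r t ∈ D.group F := by
  rw [hF.group_eq]
  exact xU_mem_rootClosure hr (P := fun _ => True) trivial t

theorem eq_one_of_pos_monomial {g : GL D.Idx F} (hu : g ∈ rootClosure D F (D.nroots / 2 ≤ ·))
    (hn : g ∈ D.monomialSubgroup F) : g = 1 := by
  have h1 : g ∈ D.borelSubgroup F ⊓ D.monomialSubgroup F := ⟨hF.pos_le_borel hu, hn⟩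
  rw [hF.borel_inf_monomial] at h1
  have h2 : g ∈ rootClosure D F (D.nroots / 2 ≤ ·) ⊓ D.diagonalSubgroup F := ⟨hu, h1⟩
  rwa [hF.pos_inf_diagonal, Subgroup.mem_bot] at h2

/-- Two parameters of a monomial involution at an inverted root. -/
theorem exists_param {m : GL D.Idx F} {σ : Equiv.Perm (Fin D.nroots)} (hσ : PermAct m σ)
    (hm2 : m * m = 1) {r : Fin D.nroots} (hr : σ r = hF.negFin r) :
    ∃ d : F, d ≠ 0 ∧ (∀ t, m * xU D r.val t * m⁻¹ = xU D (D.neg r.val) (d * t)) ∧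
      (∀ t, m * xU D (D.neg r.val) t * m⁻¹ = xU D r.val (d⁻¹ * t)) := by
  obtain ⟨d, hd, h1, -⟩ := hσ r
  rw [hr] at h1
  refine ⟨d, hd, h1, fun t => ?_⟩
  have h := h1 (d⁻¹ * t)
  rw [← mul_assoc, mul_inv_cancel₀ hd, one_mul] at h
  have hinv : m⁻¹ = m := inv_eq_of_mul_eq_one_right hm2
  rw [← show (hF.negFin r).val = D.neg r.val from rfl, ← h, hinv]
  calc m * (m * xU D r.val (d⁻¹ * t) * m) * m
      = (m * m) * xU D r.val (d⁻¹ * t) * (m * m) := by group
    _ = _ := by rw [hm2, one_mul, mul_one]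

variable (hC : CommF.{v} D)
include hC

theorem odd_orderOf_pos [Finite F] (hq : Odd (Nat.card F)) {u : GL D.Idx F}
    (hu : u ∈ rootClosure D F (D.nroots / 2 ≤ ·)) : Odd (orderOf u) := by
  have h := orderOf_dvd_natCard (⟨u, hu⟩ : ↥(rootClosure D F (D.nroots / 2 ≤ ·)))
  rw [Subgroup.orderOf_mk, hF.card_pos_unipotent hC] at h
  exact Odd.of_dvd_nat hq.pow h

/-- An involution is conjugate to a monomial one. -/
theorem exists_monomial [Finite F] (hq : Odd (Nat.card F)) {t : GL D.Idx F} (ht : t ∈ D.group F)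
    (ht2 : t * t = 1) : ∃ m ∈ D.monomialSubgroup F, m * m = 1 ∧ Conj D F t m := by
  obtain ⟨b, hb, n, hn, σ, hσ, u, hu, e⟩ := hF.bruhat_exists hC ht
  obtain ⟨u1, hu1, h, hh, rfl⟩ := hF.mem_borel_iff.1 hb
  set m := h * n
  have hm : m ∈ D.monomialSubgroup F := Subgroup.mul_mem _ (Subgroup.mem_sup_left hh) hn
  have hmσ : PermAct m σ := by
    have := hF.permAct_mul (hF.permAct_diagonal hh) hσ
    rwa [one_mul] at this
  have hu' : u ∈ rootClosure D F (D.nroots / 2 ≤ ·) := rootClosure_mono (fun _ _ h => h.2.1) hu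
  have e1 : t = u1 * m * u := by rw [e, mul_assoc u1 h n]
  have hti : t⁻¹ = t := inv_eq_of_mul_eq_one_right ht2
  have hsq : m⁻¹ * m⁻¹ ∈ D.diagonalSubgroup F := by
    refine hF.bruhat_eqv hC (hF.pos_le_borel hu1) (hF.pos_le_borel (Subgroup.inv_mem _ hu')) hm
      (Subgroup.inv_mem _ hm) (hF.pos_le_borel hu') (hF.pos_le_borel (Subgroup.inv_mem _ hu1)) ?_
    rw [← e1]
    nth_rewrite 1 [← hti]
    rw [e1]; group
  set w := u * u1
  have hw : w ∈ rootClosure D F (D.nroots / 2 ≤ ·) := Subgroup.mul_mem _ hu' hu1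
  have hsq1 : m * w * (m * w) = 1 := by
    rw [show m * w * (m * w) = u1⁻¹ * ((u1 * m * u) * (u1 * m * u)) * u1 by simp only [w]; group,
      ← e1, ht2]
    group
  have hwi : w⁻¹ = m * w * m := by
    refine inv_eq_of_mul_eq_one_left ?_
    rw [← hsq1]; group
  have hmw : m * w * m⁻¹ = w⁻¹ * (m⁻¹ * m⁻¹) := by rw [hwi]; group
  obtain ⟨a, ha, c, hc, e3⟩ := hF.flip_decomp hC (σ := σ) (m := D.nroots / 2) (k := D.nroots / 2)
    (by have := hF.nroots_even; omega) le_rfl hw
  have hma : m * a * m⁻¹ ∈ rootClosure D F (D.nroots / 2 ≤ ·) :=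
    hF.conj_rootClosure hmσ (Q := (D.nroots / 2 ≤ ·)) (fun s hs => hs.2.2) ha
  have hmc : m * c * m⁻¹ ∈ D.borelSubgroup F ⊓ D.negUnipotent F := by
    refine ⟨?_, ?_⟩
    · rw [show m * c * m⁻¹ = (m * a * m⁻¹)⁻¹ * (m * (a * c) * m⁻¹) by group, ← e3, hmw]
      exact Subgroup.mul_mem _ (Subgroup.inv_mem _ (hF.pos_le_borel hma))
        (Subgroup.mul_mem _ (hF.pos_le_borel (Subgroup.inv_mem _ hw)) (hF.diagonal_le_borel hsq))
    · rw [hF.negUnipotent_eq]
      exact hF.conj_rootClosure hmσ (fun s hs => hs.2.2) hc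
  rw [hF.borel_inf_neg, Subgroup.mem_bot, conj_eq_one_iff] at hmc
  rw [hmc, mul_one] at e3
  rw [← e3, hmw] at hma
  have hm1 : m⁻¹ * m⁻¹ = 1 := eq_one_of_pos_monomial hF
    (by simpa [mul_assoc] using Subgroup.mul_mem _ hw hma)
    (Subgroup.mul_mem _ (Subgroup.inv_mem _ hm) (Subgroup.inv_mem _ hm))
  have hm2 : m * m = 1 := by
    rw [← mul_inv_rev, inv_eq_one] at hm1
    exact hm1
  obtain ⟨v, hv, ev⟩ := absorb hm2 hwi.symm (odd_orderOf_pos hF hC hq hw)
  refine ⟨m, hm, hm2, v * u1⁻¹, Subgroup.mul_mem _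
    (hF.pos_le_group ((Subgroup.zpowers_le.2 hw) hv))
    (Subgroup.inv_mem _ (hF.pos_le_group hu1)), ?_⟩
  calc v * u1⁻¹ * t * (v * u1⁻¹)⁻¹ = v * (m * w) * v⁻¹ := by rw [e1]; simp only [w]; group
    _ = m := ev

/-- Stripping a reflection whose parameter is a square, for a negative root. -/
theorem strip_neg [Finite F] (hq : Odd (Nat.card F)) {m : GL D.Idx F}
    {σ : Equiv.Perm (Fin D.nroots)} (hm : m ∈ D.monomialSubgroup F) (hσ : PermAct m σ)
    (hm2 : m * m = 1) {r : Fin D.nroots} (hneg : r.val < D.nroots / 2) (hr : σ r = hF.negFin r)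
    (w : List (Fin D.rank)) (i : Fin D.rank) (hw : sW D w (hF.simpleFin i) = r)
    {d s : F} (hd : d ≠ 0) (hd1 : ∀ t, m * xU D r.val t * m⁻¹ = xU D (D.neg r.val) (d * t))
    (hs : d = s * s) :
    ∃ m' ∈ D.monomialSubgroup F, PermAct m' (sW D w * sP D i * (sW D w)⁻¹ * σ) ∧ m' * m' = 1 ∧
      Conj D F m m' := by
  have hs0 : s ≠ 0 := fun e => hd (by rw [hs, e, mul_zero])
  set q := hF.negFin r
  have hq0 : D.nroots / 2 ≤ q.val := (hF.negFin_pos r).2 hneg
  set v := s⁻¹
  have hv0 : -v ≠ 0 := by simpa [v] using hs0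
  obtain ⟨hn, hnp⟩ := permAct_nU (F := F) hF w i hv0
  rw [hw] at hn hnp
  set σs := sW D w * sP D i * (sW D w)⁻¹
  set m' := nU D r.val (-v) * m
  have hm' : m' ∈ D.monomialSubgroup F := Subgroup.mul_mem _ hn hm
  have hσ' : PermAct m' (σs * σ) := hF.permAct_mul hnp hσ
  have hσσ : σ * σ = 1 := hF.permAct_unique (hF.permAct_mul hσ hσ)
    (by rw [hm2]; exact hF.permAct_diagonal (Subgroup.one_mem _))
  have hq' : (σs * σ) q = q := by
    have h1 : σ q = r := by rw [← hr, ← Equiv.Perm.mul_apply, hσσ, Equiv.Perm.one_apply]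
    rw [Equiv.Perm.mul_apply, h1]
    simp only [σs, Equiv.Perm.mul_apply]
    rw [← hw, ← Equiv.Perm.mul_apply (sW D w)⁻¹, inv_mul_cancel, Equiv.Perm.one_apply,
      hF.sP_simple, hF.sW_neg, hw]
  obtain ⟨e, -, he1, -⟩ := hσ' q
  rw [hq'] at he1
  have hinv : m⁻¹ = m := inv_eq_of_mul_eq_one_right hm2
  set y := (xU D r.val v)⁻¹ * m * xU D r.val v
  have hy2 : y * y = 1 := Conj.sq_eq_one ⟨(xU D r.val v)⁻¹,
    Subgroup.inv_mem _ (xU_mem_group hF r.isLt v), by simp only [y, inv_inv]⟩ hm2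
  have hdv : d * v = s := by simp only [v, hs]; field_simp
  have hy : y = m' * xU D q.val s := by
    have h1 : m * xU D r.val v = xU D q.val s * m := by
      rw [← mul_inv_eq_iff_eq_mul, hd1, hdv]; rfl
    have h2 : xU D r.val (-v) * xU D q.val s = nU D r.val (-v) * xU D r.val v := by
      rw [nU, show -(-v)⁻¹ = s by simp [v], mul_assoc (_ * _) (xU D r.val (-v)), hF.xU_add r.isLt,
        neg_add_cancel, hF.xU_zero r.isLt, mul_one]
      rfl
    have h3 : xU D r.val v * m = m * xU D q.val s := by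
      rw [← hdv, show xU D q.val (d * v) = m * xU D r.val v * m⁻¹ from (hd1 v).symm, hinv]
      rw [← mul_assoc, ← mul_assoc, hm2, one_mul]
    simp only [y, m']
    rw [hF.xU_inv r.isLt, mul_assoc, h1, ← mul_assoc, h2, mul_assoc, h3, mul_assoc]
  rw [hy] at hy2
  have hq2 : m' * m' = xU D q.val (-(e * s) + -s) := by
    have h1 : xU D q.val (e * s) * (m' * m') * xU D q.val s = 1 := by
      rw [← he1, ← hy2]; group
    rw [← hF.xU_add q.isLt, ← hF.xU_inv q.isLt, ← hF.xU_inv q.isLt]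
    calc m' * m' = (xU D q.val (e * s))⁻¹ * (xU D q.val (e * s) * (m' * m') * xU D q.val s) *
          (xU D q.val s)⁻¹ := by group
      _ = _ := by rw [h1, mul_one]
  have hq1 : m' * m' = 1 := eq_one_of_pos_monomial hF
    (hq2 ▸ xU_mem_rootClosure q.isLt hq0 _) (Subgroup.mul_mem _ hm' hm')
  have he : e * s = -s := by
    rw [hq1] at hq2
    have := hF.xU_eq_one q.isLt hq2.symm
    linear_combination -this
  have hinv' : m'⁻¹ = m' := inv_eq_of_mul_eq_one_right hq1
  have hxi : m' * xU D q.val s * m' = (xU D q.val s)⁻¹ := by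
    nth_rewrite 2 [← hinv']
    rw [he1, he, hF.xU_inv q.isLt]
  obtain ⟨z, hz, ez⟩ := absorb hq1 hxi
    (odd_orderOf_pos hF hC hq (xU_mem_rootClosure q.isLt (P := (D.nroots / 2 ≤ ·)) hq0 s))
  refine ⟨m', hm', hσ', hq1, Conj.trans ⟨(xU D r.val v)⁻¹,
    Subgroup.inv_mem _ (xU_mem_group hF r.isLt v), by rw [inv_inv]⟩
    ⟨z, (Subgroup.zpowers_le.2 (xU_mem_group hF q.isLt s)) hz, by
      rw [show (xU D r.val v)⁻¹ * m * xU D r.val v = y from rfl, hy, ez]⟩⟩

/-- Stripping a reflection whose parameter is a square. -/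
theorem strip [Finite F] (hq : Odd (Nat.card F)) {m : GL D.Idx F}
    {σ : Equiv.Perm (Fin D.nroots)} (hm : m ∈ D.monomialSubgroup F) (hσ : PermAct m σ)
    (hm2 : m * m = 1) {r : Fin D.nroots} (hr : σ r = hF.negFin r)
    (w : List (Fin D.rank)) (i : Fin D.rank) (hw : sW D w (hF.simpleFin i) = r)
    {d : F} (hd : d ≠ 0) (hd1 : ∀ t, m * xU D r.val t * m⁻¹ = xU D (D.neg r.val) (d * t))
    (hs : IsSquare d) :
    ∃ m' ∈ D.monomialSubgroup F, PermAct m' (sW D w * sP D i * (sW D w)⁻¹ * σ) ∧ m' * m' = 1 ∧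
      Conj D F m m' := by
  obtain ⟨s, rfl⟩ := hs
  by_cases hneg : r.val < D.nroots / 2
  · exact strip_neg hF hC hq hm hσ hm2 hneg hr w i hw hd hd1 rfl
  set q := hF.negFin r
  have hqn : q.val < D.nroots / 2 := by
    have : ¬ D.nroots / 2 ≤ q.val := fun h => hneg ((hF.negFin_pos r).1 h)
    omega
  have hσσ : σ * σ = 1 := hF.permAct_unique (hF.permAct_mul hσ hσ)
    (by rw [hm2]; exact hF.permAct_diagonal (Subgroup.one_mem _))
  have hnn : hF.negFin q = r := Fin.ext (hF.neg_neg r.isLt)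
  have hrq : σ q = hF.negFin q := by
    rw [hnn, show q = σ r from hr.symm, ← Equiv.Perm.mul_apply, hσσ, Equiv.Perm.one_apply]
  obtain ⟨d', -, h1, h2⟩ := exists_param hF hσ hm2 hr
  have hdd : d' = s * s := by
    have := hF.xU_left_inj (hF.neg_lt r.isLt) ((h1 1).symm.trans (hd1 1))
    simpa using this
  subst hdd
  have hperm : sW D (w ++ [i]) * sP D i * (sW D (w ++ [i]))⁻¹ = sW D w * sP D i * (sW D w)⁻¹ := by
    rw [sW_append, sW_cons, sW_nil, mul_one, mul_inv_rev, mul_assoc (sW D w) (sP D i), hF.sP_sq,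
      mul_one, inv_eq_of_mul_eq_one_right (hF.sP_sq i), ← mul_assoc]
  obtain ⟨m', h3, h4, h5, h6⟩ := strip_neg hF hC hq hm hσ hm2 hqn hrq (w ++ [i]) i (by
    rw [sW_append, sW_cons, sW_nil, mul_one, Equiv.Perm.mul_apply, hF.sP_simple, hF.sW_neg, hw])
    (d := (s * s)⁻¹) (s := s⁻¹) (inv_ne_zero hd)
    (fun t => by
      show m * xU D (D.neg r.val) t * m⁻¹ = xU D (D.neg (D.neg r.val)) _
      rw [hF.neg_neg r.isLt, h2])
    (mul_inv _ _)
  exact ⟨m', h3, hperm ▸ h4, h5, h6⟩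

omit hC

theorem xU_mul_neg {r : ℕ} (hr : r < D.nroots) {α β : F} (hc : 1 + α * β ≠ 0) :
    xU D r α * xU D (D.neg r) β = xU D (D.neg r) (β / (1 + α * β)) * hU D r (1 + α * β) *
      xU D r (α / (1 + α * β)) := by
  set c := 1 + α * β with hcd
  obtain ⟨φ, -, hv⟩ := (hF.rankOne (F := F) hr).exists_hom
  let up : F → Matrix.SpecialLinearGroup (Fin 2) F := fun t =>
    ⟨!![1, t; 0, 1], by simp [Matrix.det_fin_two]⟩
  let lo : F → Matrix.SpecialLinearGroup (Fin 2) F := fun t =>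
    ⟨!![1, 0; t, 1], by simp [Matrix.det_fin_two]⟩
  have hup : ∀ t, (up t : Matrix (Fin 2) (Fin 2) F) = !![1, t; 0, 1] := fun t => rfl
  have hlo : ∀ t, (lo t : Matrix (Fin 2) (Fin 2) F) = !![1, 0; t, 1] := fun t => rfl
  have hu : ∀ t, φ (up t) = xU D r t := fun t => (hv _ t).1 rfl
  have hl : ∀ t, φ (lo t) = xU D (D.neg r) t := fun t => (hv _ t).2 rfl
  have key : up α * lo β = lo (β / c) *
      ((up c * lo (-c⁻¹) * up c) * (up (-1) * lo (-(-1)⁻¹) * up (-1))) * up (α / c) := by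
    ext a b
    fin_cases a <;> fin_cases b <;>
      simp [hup, hlo, Matrix.SpecialLinearGroup.coe_mul, Matrix.mul_apply, Fin.sum_univ_two] <;>
      field_simp <;> (try simp only [hcd]) <;> ring
  have := congrArg φ key
  simpa only [map_mul, hu, hl, hU, nU] using this

/-- A conjugation in the rank one subgroup of an inverted root with nonsquare parameter multiplies a
monomial involution by a torus element with nonsquare parameter. -/
theorem exists_flip [Finite F] (hq : Odd (Nat.card F)) {m : GL D.Idx F}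
    {σ : Equiv.Perm (Fin D.nroots)} (hσ : PermAct m σ)
    (hm2 : m * m = 1) {p : Fin D.nroots} (hp : σ p = hF.negFin p)
    {d : F} (hd1 : ∀ t, m * xU D p.val t * m⁻¹ = xU D (D.neg p.val) (d * t))
    (hns : ¬ IsSquare d) :
    ∃ c : Fˣ, ¬ IsSquare (c : F) ∧ Conj D F m (hU D p.val (c : F) * m) := by
  classical
  obtain ⟨d', hd0, h1, -⟩ := exists_param hF hσ hm2 hp
  obtain rfl : d' = d := by
    simpa using hF.xU_left_inj (hF.neg_lt p.isLt) ((h1 1).symm.trans (hd1 1))
  obtain ⟨v, hv⟩ : ∃ v : F, ¬ IsSquare (1 - d' * v ^ 2) := by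
    by_contra hall
    push Not at hall
    let S := {x : F // IsSquare x}
    let g : S → S := fun x => ⟨1 - d' * x.1, by obtain ⟨y, hy⟩ := x.2; simpa [hy, sq] using hall y⟩
    have hinj : Function.Injective g := fun x y hxy => by
      have := congrArg Subtype.val hxy
      simp only [g, sub_right_inj] at this
      exact Subtype.ext (mul_left_cancel₀ hd0 this)
    obtain ⟨⟨x, hx⟩, he⟩ := Finite.injective_iff_surjective.1 hinj ⟨0, IsSquare.zero⟩
    have he' : 1 - d' * x = 0 := congrArg Subtype.val he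
    refine hns ?_
    rw [show d' = x⁻¹ from eq_inv_of_mul_eq_one_left (by linear_combination -he')]
    exact hx.inv
  set c := 1 - d' * v ^ 2 with hc
  have hc0 : c ≠ 0 := fun e => hv (e ▸ IsSquare.zero)
  have hcab : 1 + -v * (d' * v) = c := by rw [hc]; ring
  refine ⟨Units.mk0 c hc0, hv, ?_⟩
  have hinv : m⁻¹ = m := inv_eq_of_mul_eq_one_right hm2
  have key := xU_mul_neg (F := F) hF p.isLt (α := -v) (β := d' * v) (by rw [hcab]; exact hc0)
  rw [hcab] at key
  have h2 : ∀ z, xU D p.val z * m = m * xU D (D.neg p.val) (d' * z) := fun z => by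
    rw [← hd1, hinv, ← mul_assoc, ← mul_assoc, hm2, one_mul]
  have h3 : m * xU D p.val v = xU D (D.neg p.val) (d' * v) * m := by
    rw [← hd1]; group
  have hn := hF.neg_lt p.isLt
  refine ⟨(xU D (D.neg p.val) (d' * v / c))⁻¹ * xU D p.val (-v), Subgroup.mul_mem _
    (Subgroup.inv_mem _ (xU_mem_group hF hn _)) (xU_mem_group hF p.isLt _), ?_⟩
  have h4 : xU D p.val (-v) * m * (xU D p.val (-v))⁻¹ =
      xU D (D.neg p.val) (d' * v / c) * (hU D p.val c * m) *
        (xU D (D.neg p.val) (d' * v / c))⁻¹ := by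
    rw [hF.xU_inv p.isLt, _root_.neg_neg, mul_assoc, h3, ← mul_assoc, key, mul_assoc, h2,
      hF.xU_inv hn, show d' * (-v / c) = -(d' * v / c) by ring]
    group
  rw [show ((xU D (D.neg p.val) (d' * v / c))⁻¹ * xU D p.val (-v)) * m *
      ((xU D (D.neg p.val) (d' * v / c))⁻¹ * xU D p.val (-v))⁻¹ =
    (xU D (D.neg p.val) (d' * v / c))⁻¹ * (xU D p.val (-v) * m * (xU D p.val (-v))⁻¹) *
      xU D (D.neg p.val) (d' * v / c) by group, h4]
  rw [Units.val_mk0]
  group

theorem isSquare_mul_of_not [Finite F] {a b : F} (ha : ¬ IsSquare a) (hb : ¬ IsSquare b) :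
    IsSquare (a * b) := by
  classical
  have := Fintype.ofFinite F
  have _ := hF
  have ha0 : a ≠ 0 := fun e => ha (e ▸ IsSquare.zero)
  have hb0 : b ≠ 0 := fun e => hb (e ▸ IsSquare.zero)
  rw [← quadraticChar_one_iff_isSquare (mul_ne_zero ha0 hb0), map_mul,
    quadraticChar_neg_one_iff_not_isSquare.2 ha, quadraticChar_neg_one_iff_not_isSquare.2 hb]
  norm_num

end CfsgLib.Chev.OddInvol
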