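import Cfsg.Agent.Lib.Chev.Order
import Cfsg.Agent.Lib.Chev.Reflection

/-!
# The order of the centraliser of a torus element

An element of the group commutes with `t` in the torus exactly when the factors of its Bruhat normal
form do; the Weyl elements involved are those fixing the character of `t`, and the unipotent
factors have coordinates only at the roots where the character is trivial.
-/

set_option autoImplicit false

namespace CfsgLib.Chev.OddInvol

open Cfsg.Lie

universe v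

variable {D : ChevalleyDatum} {co : ℕ → ℕ → ℤ} {F : Type v} [Field F]

/-- The character of `hT c` at a root. -/
noncomputable def chi (D : ChevalleyDatum) (c : ℕ → Fˣ) (s : ℕ) : Fˣ :=
  ∏ i ∈ Finset.range D.rank, c i ^ D.cartan i s

open Classical in
/-- The Weyl elements fixing the character. -/
noncomputable def stabFin (D : ChevalleyDatum) (c : ℕ → Fˣ) : Finset (Equiv.Perm (Fin D.nroots)) :=
  (wFin D D.rank).filter fun σ => ∀ r : Fin D.nroots, chi D c (σ r).val = chi D c r.val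

open Classical in
/-- The number of fixed positive roots made negative. -/
noncomputable def flipT (c : ℕ → Fˣ) (σ : Equiv.Perm (Fin D.nroots)) : ℕ :=
  (Finset.univ.filter fun r : Fin D.nroots =>
    chi D c r.val = 1 ∧ D.nroots / 2 ≤ r.val ∧ (σ r).val < D.nroots / 2).card

open Classical in
/-- The number of fixed positive roots. -/
noncomputable def posT (D : ChevalleyDatum) (c : ℕ → Fˣ) : ℕ :=
  (Finset.univ.filter fun r : Fin D.nroots => chi D c r.val = 1 ∧ D.nroots / 2 ≤ r.val).card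

variable (hF : Facts D co)
include hF

theorem hT_mem_group (c : ℕ → Fˣ) : hT D c ∈ D.group F :=
  hF.diagonal_le_group (hF.mem_diagonal_iff.2 ⟨c, rfl⟩)

theorem conj_hT_xU (c : ℕ → Fˣ) {r : ℕ} (hr : r < D.nroots) (a : F) :
    hT D c * xU D r a * (hT D c)⁻¹ = xU D r ((chi D c r : F) * a) :=
  hF.hT_conj_xU c hr a

theorem fixed_closure (c : ℕ → Fˣ) {P : ℕ → Prop} :
    rootClosure D F (fun r => P r ∧ chi D c r = 1) ≤
      rootClosure D F P ⊓ Subgroup.centralizer ({hT D c} : Set (GL D.Idx F)) := by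
  refine le_inf (rootClosure_mono fun _ _ h => h.1) ((Subgroup.closure_le _).2 ?_)
  rintro _ ⟨r, a, hr, ⟨-, h⟩, rfl⟩
  rw [SetLike.mem_coe, Subgroup.mem_centralizer_singleton_iff]
  have := conj_hT_xU hF c hr a
  rw [h, Units.val_one, one_mul, mul_inv_eq_iff_eq_mul] at this
  exact this.symm

theorem conj_wU (c : ℕ → Fˣ) : ∀ (L : List ℕ), (∀ r ∈ L, r < D.nroots) → ∀ a : ℕ → F,
    hT D c * wU D (L.map fun r => (r, a r)) * (hT D c)⁻¹ =
      wU D (L.map fun r => (r, (chi D c r : F) * a r)) := by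
  intro L
  induction L with
  | nil => intro _ a; simp [wU]
  | cons r L ih =>
    intro hL a
    rw [List.map_cons, List.map_cons, wU_cons, wU_cons, ← ih (fun x hx => hL x (by simp [hx])) a,
      ← conj_hT_xU hF c (hL r (by simp)) (a r)]
    group

theorem conj_monomial_diag {n d : GL D.Idx F} (hn : n ∈ D.monomialSubgroup F)
    (hd : d ∈ D.diagonalSubgroup F) : n * d * n⁻¹ ∈ D.diagonalSubgroup F := by
  obtain ⟨σ, hσ⟩ := hF.exists_permAct hn
  refine hF.mem_diagonal_of_permAct (Subgroup.mul_mem _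
    (Subgroup.mul_mem _ hn (Subgroup.mem_sup_left hd)) (Subgroup.inv_mem _ hn)) ?_
  have := hF.permAct_mul (hF.permAct_mul hσ (hF.permAct_diagonal hd)) (hF.permAct_inv hn hσ)
  simpa using this

/-- A monomial element moves the character along its permutation. -/
theorem conj_chi (c : ℕ → Fˣ) {n : GL D.Idx F} {σ : Equiv.Perm (Fin D.nroots)}
    (hn : n ∈ D.monomialSubgroup F) (hσ : PermAct n σ) :
    ∃ c' : ℕ → Fˣ, n * hT D c * n⁻¹ = hT D c' ∧
      ∀ r : Fin D.nroots, chi D c' (σ r).val = chi D c r.val := by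
  obtain ⟨c', hc'⟩ := hF.mem_diagonal_iff.1
    (conj_monomial_diag hF hn (hF.mem_diagonal_iff.2 ⟨c, rfl⟩ : hT D c ∈ D.diagonalSubgroup F))
  refine ⟨c', hc', fun r => ?_⟩
  obtain ⟨e, he, h1, -⟩ := hσ r
  have h2 := conj_hT_xU hF c' (σ r).isLt (e * 1)
  rw [← hc', ← h1, show n * hT D c * n⁻¹ * (n * xU D r.val 1 * n⁻¹) * (n * hT D c * n⁻¹)⁻¹ =
    n * (hT D c * xU D r.val 1 * (hT D c)⁻¹) * n⁻¹ by group, conj_hT_xU hF c r.isLt, h1] at h2
  have := hF.xU_left_inj (σ r).isLt h2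
  exact Units.ext (mul_left_cancel₀ he (by linear_combination -this))

theorem commute_of_stab (c : ℕ → Fˣ) {n : GL D.Idx F} {σ : Equiv.Perm (Fin D.nroots)}
    (hn : n ∈ D.monomialSubgroup F) (hσ : PermAct n σ)
    (hs : ∀ r : Fin D.nroots, chi D c (σ r).val = chi D c r.val) : Commute n (hT D c) := by
  obtain ⟨c', hc', key⟩ := conj_chi hF c hn hσ
  have he : hT D c' = hT D c := by
    rw [hT, hT]
    refine dU_congr fun r hr => ?_
    have := key (σ⁻¹ ⟨r, hr⟩)
    rw [← hs (σ⁻¹ ⟨r, hr⟩), ← Equiv.Perm.mul_apply, mul_inv_cancel, Equiv.Perm.one_apply] at this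
    exact this
  rw [he] at hc'
  exact mul_inv_eq_iff_eq_mul.1 hc'

theorem stab_of_commute (c : ℕ → Fˣ) {n : GL D.Idx F} {σ : Equiv.Perm (Fin D.nroots)}
    (hσ : PermAct n σ) (hc : Commute n (hT D c)) (r : Fin D.nroots) :
    chi D c (σ r).val = chi D c r.val := by
  obtain ⟨e, he, h1, -⟩ := hσ r
  have h2 := conj_hT_xU hF c (σ r).isLt (e * 1)
  rw [← h1, show hT D c * (n * xU D r.val 1 * n⁻¹) * (hT D c)⁻¹ =
      n * (hT D c * xU D r.val 1 * (hT D c)⁻¹) * n⁻¹ by
    rw [← mul_assoc, ← mul_assoc, ← hc.eq]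
    calc n * hT D c * xU D r.val 1 * n⁻¹ * (hT D c)⁻¹
        = n * hT D c * xU D r.val 1 * (hT D c * n)⁻¹ := by group
      _ = n * hT D c * xU D r.val 1 * (n * hT D c)⁻¹ := by rw [hc.eq]
      _ = _ := by group, conj_hT_xU hF c r.isLt, h1] at h2
  have := hF.xU_left_inj (σ r).isLt h2
  exact Units.ext (mul_left_cancel₀ he (by linear_combination -this))

variable (hC : CommF.{v} D) [Finite F]
include hC

theorem card_fixed_pos_le (c : ℕ → Fˣ) :
    Nat.card ↥(rootClosure D F (D.nroots / 2 ≤ ·) ⊓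
        Subgroup.centralizer ({hT D c} : Set (GL D.Idx F))) ≤ Nat.card F ^ posT D c := by
  classical
  have hev := hF.nroots_even
  have hco : ∀ g : ↥(rootClosure D F (D.nroots / 2 ≤ ·) ⊓
      Subgroup.centralizer ({hT D c} : Set (GL D.Idx F))), ∃ a : ℕ → F,
      (g : GL D.Idx F) = wU D ((List.range' (D.nroots / 2) (D.nroots / 2)).map fun r => (r, a r)) :=
    fun g => hF.exists_ordered hC (by omega) le_rfl g.2.1
  choose a ha using hco
  have hzero : ∀ g r, D.nroots / 2 ≤ r → r < D.nroots → chi D c r ≠ 1 → a g r = 0 := by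
    intro g r h1 h2 h3
    have e := conj_wU hF c (List.range' (D.nroots / 2) (D.nroots / 2))
      (fun x hx => by rw [List.mem_range'_1] at hx; omega) (a g)
    rw [← ha, show hT D c * (g : GL D.Idx F) * (hT D c)⁻¹ = g by
      rw [← Subgroup.mem_centralizer_singleton_iff.1 g.2.2, mul_inv_cancel_right]] at e
    have := hF.ordered_unique (by omega) le_rfl ((ha g).symm.trans e) r h1 h2
    by_contra h0
    exact h3 (Units.ext ((mul_eq_right₀ h0).1 this.symm))
  have hinj : Function.Injective fun g => fun r : {r : Fin D.nroots //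
      chi D c r.val = 1 ∧ D.nroots / 2 ≤ r.val} => a g r.1.val := by
    intro g g' h
    refine Subtype.ext ?_
    rw [ha, ha]
    refine congrArg (wU D) (List.map_congr_left fun r hr => ?_)
    rw [List.mem_range'_1] at hr
    have hlt : r < D.nroots := by omega
    by_cases h1 : chi D c r = 1
    · exact Prod.ext rfl (congrFun h ⟨⟨r, hlt⟩, h1, hr.1⟩)
    · rw [hzero g r hr.1 hlt h1, hzero g' r hr.1 hlt h1]
  refine (Nat.card_le_card_of_injective _ hinj).trans (le_of_eq ?_)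
  rw [Nat.card_fun, Nat.card_eq_fintype_card (α := {r : Fin D.nroots //
    chi D c r.val = 1 ∧ D.nroots / 2 ≤ r.val}), Fintype.card_subtype]
  rfl

theorem card_fixed (c : ℕ → Fˣ) (σ : Equiv.Perm (Fin D.nroots)) {n : GL D.Idx F}
    (hn : PermAct n σ) :
    Nat.card ↥(rootClosure D F (PosFlip σ) ⊓ Subgroup.centralizer ({hT D c} : Set (GL D.Idx F))) =
        Nat.card F ^ flipT c σ ∧
      Nat.card ↥(rootClosure D F (D.nroots / 2 ≤ ·) ⊓
        Subgroup.centralizer ({hT D c} : Set (GL D.Idx F))) = Nat.card F ^ posT D c := by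
  classical
  set Z := Subgroup.centralizer ({hT D c} : Set (GL D.Idx F))
  have l1 : Nat.card F ^ (Finset.univ.filter fun r : Fin D.nroots =>
      chi D c r.val = 1 ∧ D.nroots / 2 ≤ r.val ∧ ¬ (σ r).val < D.nroots / 2).card ≤
      Nat.card ↥(rootClosure D F (PosKeep σ) ⊓ Z) := by
    have h := hF.card_le_rootClosure (K := F) (P := fun r => PosKeep σ r ∧ chi D c r = 1)
      fun _ _ h => h.1.2.1
    refine le_trans (le_of_eq ?_) (h.trans (Subgroup.card_le_of_le (fixed_closure hF c)))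
    refine congrArg (_ ^ ·) (congrArg Finset.card (Finset.filter_congr fun r _ => ?_))
    exact ⟨fun ⟨a, b, e⟩ => ⟨⟨r.isLt, b, not_lt.1 e⟩, a⟩, fun ⟨⟨_, b, e⟩, a⟩ => ⟨a, b, not_lt.2 e⟩⟩
  have l2 : Nat.card F ^ flipT c σ ≤ Nat.card ↥(rootClosure D F (PosFlip σ) ⊓ Z) := by
    have h := hF.card_le_rootClosure (K := F) (P := fun r => PosFlip σ r ∧ chi D c r = 1)
      fun _ _ h => h.1.2.1
    refine le_trans (le_of_eq ?_) (h.trans (Subgroup.card_le_of_le (fixed_closure hF c)))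
    refine congrArg (_ ^ ·) (congrArg Finset.card (Finset.filter_congr fun r _ => ?_))
    exact ⟨fun ⟨a, b, e⟩ => ⟨⟨r.isLt, b, e⟩, a⟩, fun ⟨⟨_, b, e⟩, a⟩ => ⟨a, b, e⟩⟩
  have hsum : (Finset.univ.filter fun r : Fin D.nroots =>
      chi D c r.val = 1 ∧ D.nroots / 2 ≤ r.val ∧ ¬ (σ r).val < D.nroots / 2).card + flipT c σ =
      posT D c := by
    rw [posT, flipT, add_comm]
    rw [← Finset.card_filter_add_card_filter_not (s := Finset.univ.filter fun r : Fin D.nroots =>
      chi D c r.val = 1 ∧ D.nroots / 2 ≤ r.val) (fun r => (σ r).val < D.nroots / 2),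
      Finset.filter_filter, Finset.filter_filter]
    simp only [and_assoc]
  have hpk : rootClosure D F (PosKeep σ) ⊓ Z ≤ rootClosure D F (D.nroots / 2 ≤ ·) ⊓ Z :=
    inf_le_inf_right _ (rootClosure_mono fun _ _ h => h.2.1)
  have hpf : rootClosure D F (PosFlip σ) ⊓ Z ≤ rootClosure D F (D.nroots / 2 ≤ ·) ⊓ Z :=
    inf_le_inf_right _ (rootClosure_mono fun _ _ h => h.2.1)
  have hle : Nat.card ↥(rootClosure D F (PosKeep σ) ⊓ Z) *
      Nat.card ↥(rootClosure D F (PosFlip σ) ⊓ Z) ≤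
      Nat.card ↥(rootClosure D F (D.nroots / 2 ≤ ·) ⊓ Z) := by
    rw [← Nat.card_prod]
    refine Nat.card_le_card_of_injective (fun p => ⟨(p.1 : GL D.Idx F) * p.2,
      Subgroup.mul_mem _ (hpk p.1.2) (hpf p.2.2)⟩) fun p p' e => ?_
    have e' : (p.1 : GL D.Idx F) * p.2 = (p'.1 : GL D.Idx F) * p'.2 := congrArg Subtype.val e
    have hb : ∀ x : ↥(rootClosure D F (PosKeep σ) ⊓ Z), n * (x : GL D.Idx F) * n⁻¹ ∈
        D.borelSubgroup F := fun x =>
      hF.pos_le_borel (hF.conj_rootClosure hn (fun s hs => hs.2.2) x.2.1)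
    have h1 := hF.bruhat_unique (b := n * (p.1 : GL D.Idx F) * n⁻¹)
      (b' := n * (p'.1 : GL D.Idx F) * n⁻¹) (u := p.2) (u' := p'.2) hn (hb p.1) (hb p'.1)
      p.2.2.1 p'.2.2.1 (by rw [inv_mul_cancel_right, inv_mul_cancel_right, mul_assoc, mul_assoc, e'])
    exact Prod.ext (Subtype.ext (by simpa using h1.1)) (Subtype.ext h1.2)
  have hup := card_fixed_pos_le hF hC c (F := F)
  have hmul := Nat.mul_le_mul l1 l2
  rw [← pow_add, hsum] at hmul
  refine ⟨le_antisymm ?_ l2, le_antisymm hup (hmul.trans hle)⟩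
  by_contra hc
  have := Nat.mul_lt_mul_of_le_of_lt l1 (not_le.1 hc) Nat.card_pos
  rw [← pow_add, hsum] at this
  exact absurd (this.trans_le (hle.trans hup)) (lt_irrefl _)

theorem card_centralizer (c : ℕ → Fˣ) :
    Nat.card (Subgroup.centralizer ({⟨hT D c, hT_mem_group hF c⟩} : Set ↥(D.group F))) =
      Nat.card F ^ posT D c * Nat.card ↥(D.diagonalSubgroup F) *
        ∑ σ ∈ stabFin D c, Nat.card F ^ flipT c σ := by
  classical
  set t := hT D c
  set Z := Subgroup.centralizer ({t} : Set (GL D.Idx F))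
  set U := rootClosure D F (D.nroots / 2 ≤ ·)
  have hw : ∀ σ : {σ // σ ∈ stabFin D c}, ∃ l : List (Fin D.rank), σ.1 = sW D l :=
    fun σ => mem_wFin_rank.1 (Finset.mem_filter.1 σ.2).1
  choose w hw using hw
  have hact : ∀ σ, PermAct (nW D F (w σ)) σ.1 := fun σ => by
    rw [hw σ]; exact hF.permAct_nW _
  have hnc : ∀ σ, Commute (nW D F (w σ)) t := fun σ =>
    commute_of_stab hF c (hF.nW_mem _) (hact σ) (Finset.mem_filter.1 σ.2).2
  have hHc : ∀ k ∈ D.diagonalSubgroup F, Commute k t := fun k hk => by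
    obtain ⟨a, rfl⟩ := hF.mem_diagonal_iff.1 hk
    exact dU_commute _ _
  have hmem : ∀ (σ : {σ // σ ∈ stabFin D c}) (u1 : ↥(U ⊓ Z)) (k : ↥(D.diagonalSubgroup F))
      (u : ↥(rootClosure D F (PosFlip σ.1) ⊓ Z)),
      (u1 : GL D.Idx F) * k * nW D F (w σ) * u ∈ D.group F ∧
        Commute ((u1 : GL D.Idx F) * k * nW D F (w σ) * u) t := fun σ u1 k u =>
    ⟨Subgroup.mul_mem _ (Subgroup.mul_mem _ (Subgroup.mul_mem _ (hF.pos_le_group u1.2.1)
      (hF.diagonal_le_group k.2)) (hF.monomial_le_group (hF.nW_mem _)))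
      (hF.pos_le_group (rootClosure_mono (fun _ _ h => h.2.1) u.2.1)),
    by
      have e1 : Commute (u1 : GL D.Idx F) t := Subgroup.mem_centralizer_singleton_iff.1 u1.2.2
      have e2 : Commute (u : GL D.Idx F) t := Subgroup.mem_centralizer_singleton_iff.1 u.2.2
      exact ((e1.mul_left (hHc k k.2)).mul_left (hnc σ)).mul_left e2⟩
  have hbij : Function.Bijective (fun p : Σ σ : {σ // σ ∈ stabFin D c},
      (↥(U ⊓ Z) × ↥(D.diagonalSubgroup F)) × ↥(rootClosure D F (PosFlip σ.1) ⊓ Z) =>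
        (⟨⟨_, (hmem p.1 p.2.1.1 p.2.1.2 p.2.2).1⟩, Subgroup.mem_centralizer_singleton_iff.2
          (Subtype.ext (hmem p.1 p.2.1.1 p.2.1.2 p.2.2).2)⟩ :
          Subgroup.centralizer ({⟨t, hT_mem_group hF c⟩} : Set ↥(D.group F)))) := by
    have hb : ∀ (u1 : ↥(U ⊓ Z)) (k : ↥(D.diagonalSubgroup F)),
        (u1 : GL D.Idx F) * k ∈ D.borelSubgroup F := fun u1 k =>
      Subgroup.mul_mem _ (hF.pos_le_borel u1.2.1) (hF.diagonal_le_borel k.2)
    refine ⟨?_, fun g => ?_⟩
    · rintro ⟨σ, ⟨u1, k⟩, u⟩ ⟨τ, ⟨u1', k'⟩, u'⟩ e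
      have e' : (u1 : GL D.Idx F) * k * nW D F (w σ) * u = u1' * k' * nW D F (w τ) * u' :=
        congrArg (fun x => ((x : ↥(D.group F)) : GL D.Idx F)) (congrArg Subtype.val e)
      have hh := hF.bruhat_eqv hC (hb u1 k) (hb u1' k') (hF.nW_mem _) (hF.nW_mem _)
        (hF.pos_le_borel (rootClosure_mono (fun _ _ h => h.2.1) u.2.1))
        (hF.pos_le_borel (rootClosure_mono (fun _ _ h => h.2.1) u'.2.1)) e'
      have h2 := hF.permAct_unique (hF.permAct_mul (hF.permAct_inv (hF.nW_mem _) (hact σ)) (hact τ))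
        (hF.permAct_diagonal hh)
      obtain rfl : σ = τ := Subtype.ext (inv_mul_eq_one.1 h2)
      obtain ⟨h3, h4⟩ := hF.bruhat_unique (hact σ) (hb u1 k) (hb u1' k') u.2.1 u'.2.1 e'
      obtain rfl : u = u' := Subtype.ext h4
      have h5 : (u1' : GL D.Idx F)⁻¹ * u1 ∈ U ⊓ D.diagonalSubgroup F := by
        refine ⟨Subgroup.mul_mem _ (Subgroup.inv_mem _ u1'.2.1) u1.2.1, ?_⟩
        rw [show (u1' : GL D.Idx F)⁻¹ * u1 = k' * (k : GL D.Idx F)⁻¹ by
          rw [eq_mul_inv_iff_mul_eq, mul_assoc, h3, inv_mul_cancel_left]]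
        exact Subgroup.mul_mem _ k'.2 (Subgroup.inv_mem _ k.2)
      rw [hF.pos_inf_diagonal, Subgroup.mem_bot, inv_mul_eq_one] at h5
      obtain rfl : u1 = u1' := Subtype.ext h5.symm
      rw [mul_right_inj] at h3
      obtain rfl : k = k' := Subtype.ext h3
      rfl
    · have hgc : Commute ((g : ↥(D.group F)) : GL D.Idx F) t :=
        congrArg Subtype.val (Subgroup.mem_centralizer_singleton_iff.1 g.2)
      obtain ⟨b, hb', n, hn, σ, hσ, u, hu, e⟩ := hF.bruhat_exists hC (g : ↥(D.group F)).2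
      obtain ⟨u1, hu1, k, hk, rfl⟩ := hF.mem_borel_iff.1 hb'
      have htd : t ∈ D.diagonalSubgroup F := hF.mem_diagonal_iff.2 ⟨c, rfl⟩
      set d := t * n * t⁻¹ * n⁻¹
      have hd : d ∈ D.diagonalSubgroup F := by
        rw [show d = t * (n * t⁻¹ * n⁻¹) by simp only [d]; group]
        exact Subgroup.mul_mem _ htd (conj_monomial_diag hF hn (Subgroup.inv_mem _ htd))
      have hu1c : t * u1 * t⁻¹ ∈ U :=
        (Subgroup.mem_normalizer_iff.1 (hF.diagonal_le_normalizer _ htd) u1).1 hu1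
      have huc : t * u * t⁻¹ ∈ rootClosure D F (PosFlip σ) :=
        (Subgroup.mem_normalizer_iff.1 (hF.diagonal_le_normalizer _ htd) u).1 hu
      have heq : u1 * k * n * u = t * u1 * t⁻¹ * (k * d) * n * (t * u * t⁻¹) := by
        calc u1 * k * n * u = ((g : ↥(D.group F)) : GL D.Idx F) := e.symm
          _ = t * (g : ↥(D.group F)) * t⁻¹ := by rw [← hgc.eq, mul_inv_cancel_right]
          _ = t * u1 * (t⁻¹ * t) * k * n * u * t⁻¹ := by rw [e]; group
          _ = t * u1 * t⁻¹ * (k * t) * n * u * t⁻¹ := by rw [(hHc k hk).eq]; group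
          _ = _ := by simp only [d]; group
      obtain ⟨h1, h2⟩ := hF.bruhat_unique hσ hb' (Subgroup.mul_mem _ (hF.pos_le_borel hu1c)
        (hF.diagonal_le_borel (Subgroup.mul_mem _ hk hd))) hu huc heq
      have h5 : (t * u1 * t⁻¹)⁻¹ * u1 ∈ U ⊓ D.diagonalSubgroup F := by
        refine ⟨Subgroup.mul_mem _ (Subgroup.inv_mem _ hu1c) hu1, ?_⟩
        rw [show (t * u1 * t⁻¹)⁻¹ * u1 = k * d * k⁻¹ by
          rw [eq_mul_inv_iff_mul_eq, mul_assoc, h1]; group]
        exact Subgroup.mul_mem _ (Subgroup.mul_mem _ hk hd) (Subgroup.inv_mem _ hk)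
      rw [hF.pos_inf_diagonal, Subgroup.mem_bot, inv_mul_eq_one] at h5
      rw [h5, mul_right_inj, eq_comm, mul_eq_left] at h1
      have hu1Z : u1 ∈ Z := Subgroup.mem_centralizer_singleton_iff.2
        (mul_inv_eq_iff_eq_mul.1 h5).symm
      have huZ : u ∈ Z := Subgroup.mem_centralizer_singleton_iff.2
        (mul_inv_eq_iff_eq_mul.1 h2.symm).symm
      have hnt : Commute n t := by
        have : t * n = n * t := by
          rw [← mul_inv_eq_one, mul_inv_rev, ← mul_assoc]; exact h1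
        exact this.symm
      obtain ⟨l, k', hk', rfl⟩ := hF.exists_nW hn
      have hσl : σ = sW D l := by
        have := hF.permAct_unique hσ (hF.permAct_mul (hF.permAct_nW l) (hF.permAct_diagonal hk'))
        rwa [mul_one] at this
      let s : {σ // σ ∈ stabFin D c} := ⟨σ, Finset.mem_filter.2 ⟨mem_wFin_rank.2 ⟨l, hσl⟩,
        fun r => stab_of_commute hF c hσ hnt r⟩⟩
      have hd' : k * (nW D F l * k' * (nW D F (w s))⁻¹) ∈ D.diagonalSubgroup F := by
        refine Subgroup.mul_mem _ hk (hF.mem_diagonal_of_permAct (Subgroup.mul_mem _ hn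
          (Subgroup.inv_mem _ (hF.nW_mem _))) ?_)
        have := hF.permAct_mul hσ (hF.permAct_inv (hF.nW_mem _) (hact s))
        rwa [mul_inv_cancel] at this
      refine ⟨⟨s, (⟨u1, hu1, hu1Z⟩, ⟨_, hd'⟩), ⟨u, hu, huZ⟩⟩, Subtype.ext (Subtype.ext ?_)⟩
      show u1 * (k * (nW D F l * k' * (nW D F (w s))⁻¹)) * nW D F (w s) * u = _
      rw [e]; group
  rw [← Nat.card_eq_of_bijective _ hbij, Nat.card_sigma, Finset.mul_sum,
    ← Finset.sum_attach (stabFin D c), Finset.univ_eq_attach]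
  refine Finset.sum_congr rfl fun σ _ => ?_
  rw [Nat.card_prod, Nat.card_prod, (card_fixed hF hC c σ.1 (hact σ)).1,
    (card_fixed hF hC c σ.1 (hact σ)).2]

end CfsgLib.Chev.OddInvol
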