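import Cfsg.Agent.Lib.Known.OddInvol.Weyl
import Cfsg.Agent.Lib.Known.LacedInvol.Check

/-!
# Every involution is conjugate into the torus: certificates

A certificate lists representatives of the involutions of the Weyl group as products of commuting
reflections, their closure under adjoining a reflection of a fixed root, and for each of them a
root at which the parameter is forced to be a square or a pair of roots with odd pairing.
-/

set_option autoImplicit false

namespace CfsgLib.Chev.OddInvol

open Cfsg.Lie CfsgLib.Chev.Table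

universe v

/-- A root with a word carrying a fundamental root to it. -/
structure RWord : Type where
  root : ℕ
  idx : ℕ
  word : List ℕ

/-- The word of the reflection. -/
def RWord.refl (R : RWord) : List ℕ := R.word ++ R.idx :: R.word.reverse

/-- A product reduced to a representative by conjugation. -/
structure Move : Type where
  by_ : RWord
  target : ℕ
  conj : List ℕ

/-- The step reducing a representative. -/
inductive Step : Type where
  | base
  | odd (j p q : ℕ) (st : Move)
  | pair (a b : Move)

/-- The data of a representative. -/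
structure Rep : Type where
  word : List ℕ
  roots : List RWord
  step : Step
  exts : List Move

/-- Two words give the same element of the Weyl group. -/
def eqW (T : Tab) (u v : List ℕ) : Bool :=
  u.all (fun i => Nat.blt i T.rank) && v.all (fun i => Nat.blt i T.rank) &&
  allBelow T.rank fun i =>
    Nat.beq (LacedInvol.actT T u (T.smp i)) (LacedInvol.actT T v (T.smp i))

/-- The check of a root word. -/
def RWord.ok (T : Tab) (R : RWord) : Bool :=
  Nat.blt R.root T.nroots && Nat.blt R.idx T.rank && R.word.all (fun i => Nat.blt i T.rank) &&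
  Nat.beq (LacedInvol.actT T R.word (T.smp R.idx)) R.root

/-- The check of the commutation of the rank one subgroups of the roots. -/
def orthT (T : Tab) : List RWord → Bool
  | [] => true
  | R :: L => (L.all fun S => LacedInvol.commT T R.root S.root &&
      LacedInvol.commT T R.root (T.neg S.root) && LacedInvol.commT T (T.neg R.root) S.root &&
      LacedInvol.commT T (T.neg R.root) (T.neg S.root)) && orthT T L

/-- The check of stripping. -/
def stripT (T : Tab) (reps : List Rep) (k : ℕ) (W : List ℕ) (m : Move) : Bool :=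
  m.by_.ok T && Nat.blt m.target k &&
  Nat.beq (LacedInvol.actT T W m.by_.root) (T.neg m.by_.root) &&
  match reps[m.target]? with
  | some R => eqW T (m.conj ++ m.by_.refl ++ W ++ m.conj.reverse) R.word
  | none => false

/-- The check of a step. -/
def stepT (T : Tab) (reps : List Rep) (k : ℕ) (R : Rep) : Bool :=
  match R.step with
  | .base => Nat.beq k 0 && R.word.isEmpty
  | .odd j p q st =>
    match R.roots[j]? with
    | none => false
    | some S => Nat.beq st.by_.root S.root && stripT T reps k R.word st &&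
      Nat.blt p T.nroots && Nat.blt q T.nroots && Nat.beq (LacedInvol.actT T R.word p) q &&
      (allBelow R.roots.length fun l =>
        match R.roots[l]? with
        | none => false
        | some U => (T.pr U.root p % 2 == if l = j then 1 else 0)) &&
      allBelow T.rank fun i =>
        T.aa i q == T.aa i p - (R.roots.map fun U => T.pr U.root p * T.aa i U.root).sum
  | .pair a b => stripT T reps k R.word a && stripT T reps k R.word b &&
      (T.pr b.by_.root a.by_.root % 2 == 1)

/-- The check of the closure. -/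
def extsT (T : Tab) (reps : List Rep) (R : Rep) : Bool :=
  (R.exts.all fun m => m.by_.ok T &&
    match reps[m.target]? with
    | some S => eqW T (m.conj ++ R.word ++ m.by_.refl ++ m.conj.reverse) S.word
    | none => false) &&
  allBelow T.nroots fun r =>
    bif Nat.ble (T.nroots / 2) r && Nat.beq (LacedInvol.actT T R.word r) r then
      R.exts.any fun m => Nat.beq m.by_.root r
    else true

/-- The check of a representative. -/
def repT (T : Tab) (reps : List Rep) (k : ℕ) (R : Rep) : Bool :=
  (R.word.all fun i => Nat.blt i T.rank) && (R.roots.all fun S => S.ok T) &&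
  eqW T R.word (R.roots.flatMap RWord.refl) && orthT T R.roots &&
  stepT T reps k R && extsT T reps R

/-- The check of a certificate. -/
def repsT (T : Tab) (reps : List Rep) : Bool :=
  allBelow reps.length fun k =>
    match reps[k]? with
    | some R => repT T reps k R
    | none => false

/-- A list of indices as a word. -/
def toW (D : ChevalleyDatum) (w : List ℕ) : List (Fin D.rank) :=
  w.filterMap fun i => if h : i < D.rank then some ⟨i, h⟩ else none

theorem toW_append (D : ChevalleyDatum) (a b : List ℕ) : toW D (a ++ b) = toW D a ++ toW D b :=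
  List.filterMap_append ..

theorem toW_reverse (D : ChevalleyDatum) (a : List ℕ) : toW D a.reverse = (toW D a).reverse :=
  List.filterMap_reverse ..

theorem toW_cons {D : ChevalleyDatum} {i : ℕ} (h : i < D.rank) (a : List ℕ) :
    toW D (i :: a) = ⟨i, h⟩ :: toW D a := by
  simp [toW, List.filterMap_cons, h]

variable {D : ChevalleyDatum} {T : Tab}

/-- Tables certified for the datum. -/
structure TabOK (D : ChevalleyDatum) (T : Tab) : Prop where
  facts : Facts D T.co
  arr : T.chkArrays D = true
  chain : T.chkChain D = true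

variable (h : TabOK D T)
include h

theorem act_val {w : List ℕ} (hw : ∀ i ∈ w, i < T.rank) (s : Fin D.nroots) :
    (sW D (toW D w) s).val = LacedInvol.actT T w s.val := by
  induction w with
  | nil => simp [toW, sW_nil, LacedInvol.actT]
  | cons i w ih =>
    have hi : i < D.rank := by rw [rank_eq h.arr]; exact hw i (by simp)
    rw [toW_cons hi, sW_cons, Equiv.Perm.mul_apply, h.facts.sP_val]
    rw [reflect_eq h.arr h.chain hi (sW D _ s).isLt, ih fun j hj => hw j (List.mem_cons_of_mem _ hj)]
    rfl

theorem all_lt {w : List ℕ} (hw : (w.all fun i => Nat.blt i T.rank) = true) : ∀ i ∈ w, i < T.rank :=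
  fun i hi => by simpa [Nat.blt_eq] using List.all_eq_true.1 hw i hi

theorem eqW_spec {u v : List ℕ} (he : eqW T u v = true) : sW D (toW D u) = sW D (toW D v) := by
  simp only [eqW, Bool.and_eq_true] at he
  obtain ⟨⟨hu, hv⟩, he⟩ := he
  refine h.facts.sW_ext fun i => Fin.ext ?_
  rw [act_val h (all_lt h hu), act_val h (all_lt h hv)]
  have := allBelow_spec he i.val (rank_eq h.arr ▸ i.isLt)
  rw [show (h.facts.simpleFin i).val = T.smp i.val from simple_eq h.arr i.isLt]
  exact Nat.eq_of_beq_eq_true this

theorem rword_spec {R : RWord} (hR : R.ok T = true) :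
    ∃ (hr : R.root < D.nroots) (i : Fin D.rank),
      sW D (toW D R.word) (h.facts.simpleFin i) = ⟨R.root, hr⟩ ∧
      sW D (toW D R.refl) = sW D (toW D R.word) * sP D i * (sW D (toW D R.word))⁻¹ := by
  simp only [RWord.ok, Bool.and_eq_true, Nat.blt_eq] at hR
  obtain ⟨⟨⟨hr, hi⟩, hw⟩, ha⟩ := hR
  have hr' : R.root < D.nroots := by rw [nroots_eq h.arr]; exact hr
  have hi' : R.idx < D.rank := by rw [rank_eq h.arr]; exact hi
  refine ⟨hr', ⟨R.idx, hi'⟩, Fin.ext ?_, ?_⟩
  · rw [act_val h (all_lt h hw), show (h.facts.simpleFin ⟨R.idx, hi'⟩).val = T.smp R.idx from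
      simple_eq h.arr hi']
    exact Nat.eq_of_beq_eq_true ha
  · rw [RWord.refl, toW_append, toW_cons hi', toW_reverse, sW_append, sW_cons, h.facts.sW_reverse,
      mul_assoc]

theorem prE_eq {r s : ℕ} (hr : r < D.nroots) (hs : s < D.nroots) : prE D r s = T.pr r s := by
  have hset : Finset.range D.rank = (List.range T.rank).toFinset := by
    rw [List.toFinset_range, rank_eq h.arr]
  rw [prE, Tab.pr, hset, List.sum_toFinset _ List.nodup_range]
  refine congrArg List.sum (List.map_congr_left fun i hi => ?_)
  have hi' : i < D.rank := by rw [rank_eq h.arr]; exact List.mem_range.1 hi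
  rw [cor_eq h.arr hr hi', cartan_eq h.arr hi' hs]

variable (hC : CommF.{v} D) {F : Type v} [Field F]
include hC

omit hC in
theorem nU_sq_neg_one {r : ℕ} (hr : r < D.nroots) :
    nU D r (1 : F) * nU D r 1 = hU D r ((-1 : Fˣ) : F) := h.facts.nU_sq hr

/-- The product of the `n_r(1)`. -/
noncomputable def prodN (D : ChevalleyDatum) (F : Type v) [Field F] (L : List RWord) : GL D.Idx F :=
  (L.map fun R => nU D R.root (1 : F)).prod

omit hC in
theorem prodN_spec : ∀ {L : List RWord}, (L.all fun R => R.ok T) = true →
    prodN D F L ∈ D.monomialSubgroup F ∧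
      PermAct (prodN D F L) (sW D (toW D (L.flatMap RWord.refl))) := by
  intro L
  induction L with
  | nil =>
    intro _
    refine ⟨by simp [prodN], ?_⟩
    simpa [prodN, toW, sW_nil] using h.facts.permAct_diagonal (F := F) (Subgroup.one_mem _)
  | cons R L ih =>
    intro hL
    rw [List.all_cons, Bool.and_eq_true] at hL
    obtain ⟨hr, i, hw, he⟩ := rword_spec h hL.1
    obtain ⟨h1, h2⟩ := permAct_nU (F := F) h.facts (toW D R.word) i one_ne_zero
    rw [hw] at h1 h2
    obtain ⟨h3, h4⟩ := ih hL.2
    rw [List.flatMap_cons, toW_append, sW_append, he]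
    refine ⟨?_, ?_⟩
    · rw [prodN, List.map_cons, List.prod_cons]; exact Subgroup.mul_mem _ h1 h3
    · rw [prodN, List.map_cons, List.prod_cons]; exact h.facts.permAct_mul h2 h4

theorem orth_spec : ∀ {L : List RWord}, (L.all fun R => R.ok T) = true → orthT T L = true →
    L.Pairwise fun R S => ∀ t u : F,
      Commute (xU D R.root t) (xU D S.root u) ∧ Commute (xU D R.root t) (xU D (D.neg S.root) u) ∧
      Commute (xU D (D.neg R.root) t) (xU D S.root u) ∧
      Commute (xU D (D.neg R.root) t) (xU D (D.neg S.root) u) := by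
  intro L
  induction L with
  | nil => intro _ _; exact List.Pairwise.nil
  | cons R L ih =>
    intro hL ho
    rw [List.all_cons, Bool.and_eq_true] at hL
    simp only [orthT, Bool.and_eq_true] at ho
    refine List.pairwise_cons.2 ⟨fun S hS t u => ?_, ih hL.2 ho.2⟩
    obtain ⟨hr, -⟩ := rword_spec h hL.1
    obtain ⟨hs, -⟩ := rword_spec h (List.all_eq_true.1 hL.2 S hS)
    have hc := List.all_eq_true.1 ho.1 S hS
    simp only [Bool.and_eq_true] at hc
    rw [← neg_eq h.arr hr, ← neg_eq h.arr hs] at hc
    have key : ∀ a b, a < D.nroots → b < D.nroots → LacedInvol.commT T a b = true →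
        ∀ t u : F, Commute (xU D a t) (xU D b u) := fun a b ha hb hab t u => by
      obtain ⟨e1, e2, e3⟩ := LacedInvol.commT_spec h.facts h.arr h.chain ha hb hab
      exact LacedInvol.commute_nil h.facts hC ha hb e1 e2 e3 t u
    have hnr := h.facts.neg_lt hr
    have hns := h.facts.neg_lt hs
    exact ⟨key _ _ hr hs hc.1.1.1 t u, key _ _ hr hns hc.1.1.2 t u, key _ _ hnr hs hc.1.2 t u,
      key _ _ hnr hns hc.2 t u⟩

/-- The product inverts each of the roots with parameter `-1`, and its square. -/
theorem prodN_act {L : List RWord} (hL : (L.all fun R => R.ok T) = true) (ho : orthT T L = true)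
    {R : RWord} (hR : R ∈ L) (t : F) :
    prodN D F L * xU D R.root t * (prodN D F L)⁻¹ = xU D (D.neg R.root) (-t) := by
  obtain ⟨hr, -⟩ := rword_spec h (List.all_eq_true.1 hL R hR)
  have hp := orth_spec h hC (F := F) hL ho
  obtain ⟨A, B, rfl⟩ := List.append_of_mem hR
  rw [List.pairwise_append, List.pairwise_cons] at hp
  have hB : Commute (prodN D F B) (xU D R.root t) := Commute.list_prod_left _ _ fun x hx => by
    obtain ⟨S, hS, rfl⟩ := List.mem_map.1 hx
    have hh := fun u => hp.2.1.1 S hS t u
    exact ((((hh _).1.symm.mul_left (hh _).2.1.symm)).mul_left (hh _).1.symm)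
  have hA : Commute (prodN D F A) (xU D (D.neg R.root) (-t)) := Commute.list_prod_left _ _ fun x hx => by
    obtain ⟨S, hS, rfl⟩ := List.mem_map.1 hx
    have hh := fun u => hp.2.2 S hS R (by simp) u (-t)
    exact (((hh _).2.1.mul_left (hh _).2.2.2).mul_left (hh _).2.1)
  have hn := h.facts.nU_conj_self (F := F) hr t
  have e : prodN D F (A ++ R :: B) = prodN D F A * (nU D R.root 1 * prodN D F B) := by
    simp [prodN]
  rw [e]
  calc prodN D F A * (nU D R.root 1 * prodN D F B) * xU D R.root t *
        (prodN D F A * (nU D R.root 1 * prodN D F B))⁻¹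
      = prodN D F A * (nU D R.root 1 * (prodN D F B * xU D R.root t * (prodN D F B)⁻¹) *
          (nU D R.root 1)⁻¹) * (prodN D F A)⁻¹ := by group
    _ = _ := by rw [hB.eq, mul_inv_cancel_right, hn, hA.eq, mul_inv_cancel_right]

theorem prodN_sq_act {L : List RWord} (hL : (L.all fun R => R.ok T) = true)
    (ho : orthT T L = true) {p : ℕ} (hp : p < D.nroots) (t : F) :
    prodN D F L * prodN D F L * xU D p t * (prodN D F L * prodN D F L)⁻¹ =
      xU D p ((((-1 : Fˣ) ^ (L.map fun R => prE D R.root p).sum : Fˣ) : F) * t) := by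
  induction L generalizing t with
  | nil => simp [prodN]
  | cons R L ih =>
    have hR := hL
    rw [List.all_cons, Bool.and_eq_true] at hR
    obtain ⟨hr, -⟩ := rword_spec h hR.1
    have hpw := orth_spec h hC (F := F) hL ho
    rw [List.pairwise_cons] at hpw
    simp only [orthT, Bool.and_eq_true] at ho
    have hc : Commute (nU D R.root (1 : F)) (prodN D F L) := Commute.list_prod_right _ _ fun x hx => by
      obtain ⟨S, hS, rfl⟩ := List.mem_map.1 hx
      have hh := fun t u => hpw.1 S hS t u
      have c1 : ∀ a, Commute (xU D R.root a) (nU D S.root (1 : F)) := fun a =>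
        (((hh a _).1.mul_right (hh a _).2.1).mul_right (hh a _).1)
      have c2 : ∀ a, Commute (xU D (D.neg R.root) a) (nU D S.root (1 : F)) := fun a =>
        (((hh a _).2.2.1.mul_right (hh a _).2.2.2).mul_right (hh a _).2.2.1)
      exact (((c1 _).mul_left (c2 _)).mul_left (c1 _))
    have e : prodN D F (R :: L) * prodN D F (R :: L) =
        nU D R.root (1 : F) * nU D R.root 1 * (prodN D F L * prodN D F L) := by
      rw [show prodN D F (R :: L) = nU D R.root (1 : F) * prodN D F L by simp [prodN]]
      calc nU D R.root (1 : F) * prodN D F L * (nU D R.root 1 * prodN D F L)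
          = nU D R.root (1 : F) * (prodN D F L * nU D R.root 1) * prodN D F L := by group
        _ = _ := by rw [← hc.eq]; group
    rw [e, List.map_cons, List.sum_cons, h.facts.nU_sq hr]
    calc hU D R.root ((-1 : Fˣ) : F) * (prodN D F L * prodN D F L) * xU D p t *
          (hU D R.root ((-1 : Fˣ) : F) * (prodN D F L * prodN D F L))⁻¹
        = hU D R.root ((-1 : Fˣ) : F) * (prodN D F L * prodN D F L * xU D p t *
            (prodN D F L * prodN D F L)⁻¹) * (hU D R.root ((-1 : Fˣ) : F))⁻¹ := by group
      _ = _ := by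
        rw [ih hR.2 ho.2, h.facts.hU_conj_xU hr hp, zpow_add, Units.val_mul, mul_assoc]

omit hC in
theorem unitSq_prod {G : Type*} [CommGroup G] : ∀ {L : List G}, (∀ x ∈ L, IsSquare x) →
    IsSquare L.prod := by
  have _ := h
  intro L
  induction L with
  | nil => exact fun _ => by simp
  | cons a L ih =>
    intro hL
    rw [List.prod_cons]
    exact (hL a (by simp)).mul (ih fun x hx => hL x (by simp [hx]))

/-- A root with odd pairing with one of the roots only forces that parameter to be a square. -/
theorem odd_param {L : List RWord} (hL : (L.all fun R => R.ok T) = true) (ho : orthT T L = true)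
    {W : List ℕ} (hW : sW D (toW D W) = sW D (toW D (L.flatMap RWord.refl)))
    {m : GL D.Idx F} (hm : m ∈ D.monomialSubgroup F) (hσ : PermAct m (sW D (toW D W)))
    (hm2 : m * m = 1) {j : ℕ} (hj : j < L.length) {p q : Fin D.nroots}
    (hpq : sW D (toW D W) p = q)
    (hpar : ∀ l, (hl : l < L.length) → (prE D L[l].root p.val % 2 = if l = j then 1 else 0))
    (haff : ∀ i < D.rank, D.cartan i q.val =
      D.cartan i p.val - (L.map fun U => prE D U.root p.val * D.cartan i U.root).sum) :
    ∃ d : F, d ≠ 0 ∧ IsSquare d ∧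
      ∀ t, m * xU D L[j].root t * m⁻¹ = xU D (D.neg L[j].root) (d * t) := by
  obtain ⟨hN, hNσ⟩ := prodN_spec (F := F) h hL
  rw [← hW] at hNσ
  set N := prodN D F L
  have hd : N⁻¹ * m ∈ D.diagonalSubgroup F := by
    refine h.facts.mem_diagonal_of_permAct (Subgroup.mul_mem _ (Subgroup.inv_mem _ hN) hm) ?_
    have := h.facts.permAct_mul (h.facts.permAct_inv hN hNσ) hσ
    rwa [inv_mul_cancel] at this
  obtain ⟨c, hc⟩ := h.facts.mem_diagonal_iff.1 hd
  have em : m = N * hT D c := by rw [← hc, mul_inv_cancel_left]
  let χ : ℕ → Fˣ := fun s => ∏ i ∈ Finset.range D.rank, c i ^ D.cartan i s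
  have hact : ∀ s < D.nroots, ∀ t : F, ∀ s' : F, ∀ q' : ℕ,
      (∀ u, N * xU D s u * N⁻¹ = xU D q' (s' * u)) →
      m * xU D s t * m⁻¹ = xU D q' (s' * ((χ s : F) * t)) := by
    intro s hs t s' q' hN'
    rw [em, show N * hT D c * xU D s t * (N * hT D c)⁻¹ =
      N * (hT D c * xU D s t * (hT D c)⁻¹) * N⁻¹ by group, h.facts.hT_conj_xU c hs, hN']
  have hσσ : sW D (toW D W) * sW D (toW D W) = 1 := h.facts.permAct_unique (h.facts.permAct_mul hσ hσ)
    (by rw [hm2]; exact h.facts.permAct_diagonal (Subgroup.one_mem _))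
  obtain ⟨ε, hε, hε1, -⟩ := hNσ p
  obtain ⟨ε', hε', hε1', -⟩ := hNσ q
  rw [hpq] at hε1
  rw [show sW D (toW D W) q = p by rw [← hpq, ← Equiv.Perm.mul_apply, hσσ, Equiv.Perm.one_apply]]
    at hε1'
  have hee : ε' * ε = (((-1 : Fˣ) ^ (L.map fun R => prE D R.root p.val).sum : Fˣ) : F) := by
    have h1 := prodN_sq_act h hC (F := F) hL ho p.isLt 1
    have h2 : N * N * xU D p.val (1 : F) * (N * N)⁻¹ = xU D p.val (ε' * (ε * 1)) := by
      rw [← hε1', ← hε1]; group
    rw [h1] at h2
    have := h.facts.xU_left_inj p.isLt h2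
    rw [mul_one, mul_one] at this
    exact this.symm
  have hprod : ε' * (χ q.val : F) * (ε * (χ p.val : F)) = 1 := by
    have h1 := hact p.val p.isLt 1 ε q.val hε1
    have h2 := hact q.val q.isLt (ε * ((χ p.val : F) * 1)) ε' p.val hε1'
    rw [← h1] at h2
    have h3 : m * (m * xU D p.val (1 : F) * m⁻¹) * m⁻¹ = xU D p.val 1 := by
      rw [show m * (m * xU D p.val (1 : F) * m⁻¹) * m⁻¹ = (m * m) * xU D p.val 1 * (m * m)⁻¹ by group,
        hm2, one_mul, inv_one, mul_one]
    rw [h3] at h2
    have := h.facts.xU_left_inj p.isLt h2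
    rw [this]; ring
  set E : List ℤ := L.map fun R => prE D R.root p.val
  have hq : χ q.val = χ p.val * ((L.map fun R => χ R.root ^ prE D R.root p.val).prod)⁻¹ := by
    simp only [χ]
    rw [eq_mul_inv_iff_mul_eq]
    have key : ∀ L' : List RWord, (L'.map fun R =>
        (∏ i ∈ Finset.range D.rank, c i ^ D.cartan i R.root) ^ prE D R.root p.val).prod =
        ∏ i ∈ Finset.range D.rank, c i ^ (L'.map fun U => prE D U.root p.val * D.cartan i U.root).sum := by
      intro L'
      induction L' with
      | nil => simp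
      | cons U L' ih =>
        rw [List.map_cons, List.prod_cons, ih, ← Finset.prod_zpow, ← Finset.prod_mul_distrib]
        refine Finset.prod_congr rfl fun i _ => ?_
        rw [List.map_cons, List.sum_cons, ← zpow_mul, ← zpow_add, mul_comm (D.cartan i U.root)]
    rw [key, ← Finset.prod_mul_distrib]
    refine Finset.prod_congr rfl fun i hi => ?_
    rw [haff i (Finset.mem_range.1 hi), ← zpow_add, sub_add_cancel]
  have hsq : χ p.val * χ p.val = (L.map fun R => (-χ R.root) ^ prE D R.root p.val).prod := by
    have hu : χ p.val * χ q.val * (-1 : Fˣ) ^ E.sum = 1 := Units.ext (by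
      rw [Units.val_mul, Units.val_mul, ← hee, Units.val_one, ← hprod]; ring)
    rw [hq] at hu
    have key : ∀ L' : List RWord, (L'.map fun R => (-χ R.root) ^ prE D R.root p.val).prod =
        (-1 : Fˣ) ^ (L'.map fun R => prE D R.root p.val).sum *
          (L'.map fun R => χ R.root ^ prE D R.root p.val).prod := by
      intro L'
      induction L' with
      | nil => simp
      | cons U L' ih =>
        rw [List.map_cons, List.prod_cons, ih, List.map_cons, List.sum_cons, List.map_cons,
          List.prod_cons, zpow_add, neg_eq_neg_one_mul (χ U.root), mul_zpow]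
        simp only [mul_comm, mul_left_comm, mul_assoc]
    rw [key]
    generalize (L.map fun R => χ R.root ^ prE D R.root p.val).prod = P at hu ⊢
    generalize hs : ((-1 : Fˣ) ^ E.sum) = S at hu ⊢
    have hS : S * S = 1 := by rw [← hs, ← mul_zpow]; simp
    rw [mul_eq_one_iff_eq_inv, inv_eq_of_mul_eq_one_right hS, ← mul_assoc, mul_inv_eq_iff_eq_mul] at hu
    exact hu
  have hjs : IsSquare (-χ L[j].root) := by
    have hsplit : L = L.take j ++ L[j] :: L.drop (j + 1) := by
      rw [← List.drop_eq_getElem_cons hj, List.take_append_drop]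
    have hrest : ∀ S ∈ L.take j ++ L.drop (j + 1), IsSquare ((-χ S.root) ^ prE D S.root p.val) := by
      intro S hS
      obtain ⟨l, hl, hlj, rfl⟩ : ∃ l, ∃ hl : l < L.length, l ≠ j ∧ L[l] = S := by
        rcases List.mem_append.1 hS with hS | hS
        · obtain ⟨l, hl, rfl⟩ := List.getElem_of_mem hS
          rw [List.length_take] at hl
          exact ⟨l, by omega, by omega, by rw [List.getElem_take]⟩
        · obtain ⟨l, hl, rfl⟩ := List.getElem_of_mem hS
          rw [List.length_drop] at hl
          exact ⟨j + 1 + l, by omega, by omega, by rw [List.getElem_drop]⟩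
      have he := hpar l hl
      rw [if_neg hlj] at he
      exact Even.isSquare_zpow (Int.even_iff.2 he) _
    have hodd := hpar j hj
    rw [if_pos rfl] at hodd
    obtain ⟨b, hb⟩ : ∃ b, prE D L[j].root p.val = 2 * b + 1 := ⟨prE D L[j].root p.val / 2, by omega⟩
    have e : (L.map fun R => (-χ R.root) ^ prE D R.root p.val).prod =
        (-χ L[j].root) * ((-χ L[j].root) ^ (2 * b) *
          ((L.take j ++ L.drop (j + 1)).map fun R => (-χ R.root) ^ prE D R.root p.val).prod) := by
      conv_lhs => rw [hsplit]
      rw [List.map_append, List.prod_append, List.map_cons, List.prod_cons, List.map_append,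
        List.prod_append, hb, zpow_add_one]
      ac_rfl
    rw [e] at hsq
    set Q := (-χ L[j].root) ^ (2 * b) *
      ((L.take j ++ L.drop (j + 1)).map fun R => (-χ R.root) ^ prE D R.root p.val).prod
    have hQ : IsSquare Q := (Even.isSquare_zpow (even_two_mul b) _).mul (unitSq_prod h fun x hx => by
      obtain ⟨S, hS, rfl⟩ := List.mem_map.1 hx
      exact hrest S hS)
    rw [show -χ L[j].root = χ p.val * χ p.val * Q⁻¹ by rw [hsq, mul_inv_cancel_right]]
    exact (IsSquare.mul_self _).mul hQ.inv
  refine ⟨((-χ L[j].root : Fˣ) : F), Units.ne_zero _, hjs.map (Units.coeHom F), fun t => ?_⟩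
  obtain ⟨hr, -⟩ := rword_spec h (List.all_eq_true.1 hL L[j] (List.getElem_mem hj))
  rw [hact _ hr t (-1) (D.neg L[j].root) fun u => by
    rw [prodN_act h hC hL ho (List.getElem_mem hj), neg_one_mul]]
  rw [Units.val_neg]
  congr 1
  ring

variable [Finite F] (hq : Odd (Nat.card F)) {reps : List Rep} (hreps : repsT T reps = true)
include hq hreps

omit hC hq in
theorem rep_spec {k : ℕ} (hk : k < reps.length) : repT T reps k reps[k] = true := by
  have := allBelow_spec hreps k hk
  rwa [List.getElem?_eq_getElem hk] at this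

omit hq hreps in
theorem strip_move [Finite F] (hq : Odd (Nat.card F)) {k : ℕ} {W : List ℕ} {m : GL D.Idx F}
    (hW : ∀ i ∈ W, i < T.rank) (hm : m ∈ D.monomialSubgroup F) (hσ : PermAct m (sW D (toW D W)))
    (hm2 : m * m = 1) {a : Move} (ha : stripT T reps k W a = true) {d : F} (hd : d ≠ 0)
    (hd1 : ∀ t, m * xU D a.by_.root t * m⁻¹ = xU D (D.neg a.by_.root) (d * t)) (hs : IsSquare d) :
    ∃ (hlt : a.target < reps.length), a.target < k ∧ ∃ m' ∈ D.monomialSubgroup F,
      PermAct m' (sW D (toW D reps[a.target].word)) ∧ m' * m' = 1 ∧ Conj D F m m' := by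
  simp only [stripT, Bool.and_eq_true, Nat.blt_eq] at ha
  obtain ⟨⟨⟨hok, hlt⟩, hneg⟩, he⟩ := ha
  obtain ⟨hr, i, hw, hrefl⟩ := rword_spec h hok
  have hσr : sW D (toW D W) ⟨a.by_.root, hr⟩ = h.facts.negFin ⟨a.by_.root, hr⟩ := Fin.ext (by
    rw [act_val h hW]
    show _ = D.neg a.by_.root
    rw [neg_eq h.arr hr]
    exact Nat.eq_of_beq_eq_true hneg)
  obtain ⟨m', hm', hσ', h2, hcj⟩ := strip h.facts hC hq hm hσ hm2 hσr (toW D a.by_.word) i hw hd hd1 hs
  rcases hR : reps[a.target]? with _ | R
  · simp [hR] at he
  simp only [hR] at he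
  obtain ⟨hlen, hRe⟩ := List.getElem?_eq_some_iff.1 hR
  refine ⟨hlen, hlt, nW D F (toW D a.conj) * m' * (nW D F (toW D a.conj))⁻¹,
    Subgroup.mul_mem _ (Subgroup.mul_mem _ (h.facts.nW_mem _) hm')
      (Subgroup.inv_mem _ (h.facts.nW_mem _)), ?_, ?_, ?_⟩
  · have := h.facts.permAct_mul (h.facts.permAct_mul (h.facts.permAct_nW (F := F) (toW D a.conj)) hσ')
      (h.facts.permAct_inv (h.facts.nW_mem (toW D a.conj)) (h.facts.permAct_nW (toW D a.conj)))
    rw [hRe, ← eqW_spec h he]
    simp only [toW_append, toW_reverse, sW_append, h.facts.sW_reverse, hrefl] at this ⊢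
    simpa only [mul_assoc] using this
  · refine Conj.sq_eq_one ⟨_, ?_, rfl⟩ h2
    exact h.facts.monomial_le_group (h.facts.nW_mem _)
  · exact hcj.trans ⟨_, h.facts.monomial_le_group (h.facts.nW_mem _), rfl⟩

/-- A monomial involution over a representative is conjugate into the torus. -/
theorem exists_diag_rep : ∀ (k : ℕ) (hk : k < reps.length) (m : GL D.Idx F),
    m ∈ D.monomialSubgroup F → PermAct m (sW D (toW D reps[k].word)) → m * m = 1 →
    ∃ z ∈ D.diagonalSubgroup F, Conj D F m z := by
  intro k
  induction k using Nat.strong_induction_on with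
  | _ k ih =>
    intro hk m hm hσ hm2
    have hR := rep_spec h hreps hk
    set R := reps[k]
    simp only [repT, Bool.and_eq_true] at hR
    obtain ⟨⟨⟨⟨⟨hwd, hroots⟩, heq⟩, horth⟩, hstep⟩, -⟩ := hR
    have hW : ∀ i ∈ R.word, i < T.rank := all_lt h hwd
    have next_ : ∀ (a : Move) (m₁ : GL D.Idx F), m₁ ∈ D.monomialSubgroup F →
        PermAct m₁ (sW D (toW D R.word)) → m₁ * m₁ = 1 → Conj D F m m₁ →
        stripT T reps k R.word a = true → ∀ d : F, d ≠ 0 →
        (∀ t, m₁ * xU D a.by_.root t * m₁⁻¹ = xU D (D.neg a.by_.root) (d * t)) → IsSquare d →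
        ∃ z ∈ D.diagonalSubgroup F, Conj D F m z := by
      intro a m₁ h1 h2 h3 h4 ha d hd hd1 hs
      obtain ⟨hlen, hlt, m', e1, e2, e3, e4⟩ := strip_move h hC hq hW h1 h2 h3 ha hd hd1 hs
      obtain ⟨z, hz, hzc⟩ := ih a.target hlt hlen m' e1 e2 e3
      exact ⟨z, hz, (h4.trans e4).trans hzc⟩
    have hself : Conj D F m m := ⟨1, Subgroup.one_mem _, by simp⟩
    rcases hstepc : R.step with _ | ⟨j, p, q, st⟩ | ⟨a, b⟩
    · simp only [stepT, hstepc, Bool.and_eq_true, List.isEmpty_iff] at hstep
      rw [hstep.2] at hσ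
      exact ⟨m, h.facts.mem_diagonal_of_permAct hm (by simpa [toW, sW_nil] using hσ), hself⟩
    · simp only [stepT, hstepc] at hstep
      rcases hS : R.roots[j]? with _ | S
      · simp [hS] at hstep
      simp only [hS, Bool.and_eq_true, Nat.blt_eq] at hstep
      obtain ⟨⟨⟨⟨⟨⟨hroot, hstr⟩, hp⟩, hq'⟩, hpq⟩, hpar⟩, haff⟩ := hstep
      obtain ⟨hj, hSe⟩ := List.getElem?_eq_some_iff.1 hS
      have hn := nroots_eq h.arr (D := D)
      have hp' : p < D.nroots := hn ▸ hp
      have hq'' : q < D.nroots := hn ▸ hq'
      have hroots' : ∀ S ∈ R.roots, S.root < D.nroots := fun S hS =>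
        (rword_spec h (List.all_eq_true.1 hroots S hS)).1
      obtain ⟨d, hd, hsq, hd1⟩ := odd_param h hC hroots horth (eqW_spec h heq) hm hσ hm2 hj
        (p := ⟨p, hp'⟩) (q := ⟨q, hq''⟩) (Fin.ext (by
          rw [act_val h hW]; exact Nat.eq_of_beq_eq_true hpq))
        (fun l hl => by
          have := allBelow_spec hpar l hl
          rw [List.getElem?_eq_getElem hl, beq_iff_eq] at this
          rw [prE_eq h (hroots' _ (List.getElem_mem hl)) hp']
          exact this)
        (fun i hi => by
          have := allBelow_spec haff i (rank_eq h.arr ▸ hi)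
          rw [beq_iff_eq] at this
          rw [cartan_eq h.arr hi hp', cartan_eq h.arr hi hq'', this]
          congr 1
          refine congrArg List.sum (List.map_congr_left fun U hU => ?_)
          rw [prE_eq h (hroots' U hU) hp', cartan_eq h.arr hi (hroots' U hU)])
      refine next_ st m hm hσ hm2 hself hstr d hd ?_ hsq
      rw [show st.by_.root = R.roots[j].root by rw [hSe]; exact Nat.eq_of_beq_eq_true hroot]
      exact hd1
    · simp only [stepT, hstepc, Bool.and_eq_true, beq_iff_eq] at hstep
      obtain ⟨⟨ha, hb⟩, hodd⟩ := hstep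
      have hneg : ∀ x : Move, stripT T reps k R.word x = true → ∃ hr : x.by_.root < D.nroots,
          sW D (toW D R.word) ⟨x.by_.root, hr⟩ = h.facts.negFin ⟨x.by_.root, hr⟩ := by
        intro x hx
        simp only [stripT, Bool.and_eq_true] at hx
        obtain ⟨hr, -⟩ := rword_spec h hx.1.1.1
        refine ⟨hr, Fin.ext ?_⟩
        rw [act_val h hW]
        show _ = D.neg x.by_.root
        rw [neg_eq h.arr hr]
        exact Nat.eq_of_beq_eq_true hx.1.2
      obtain ⟨hra, hsa⟩ := hneg a ha
      obtain ⟨hrb, hsb⟩ := hneg b hb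
      obtain ⟨d, hd, hd1, -⟩ := exists_param h.facts hσ hm2 hsa
      by_cases hsd : IsSquare d
      · exact next_ a m hm hσ hm2 hself ha d hd hd1 hsd
      obtain ⟨e, he, he1, -⟩ := exists_param h.facts hσ hm2 hsb
      by_cases hse : IsSquare e
      · exact next_ b m hm hσ hm2 hself hb e he he1 hse
      obtain ⟨c, hc, hcj⟩ := exists_flip h.facts hq hσ hm2 hsb he1 hse
      have hdiag := h.facts.hU_mem_diagonal (F := F) hrb c.ne_zero
      have hσ₁ := h.facts.permAct_mul (h.facts.permAct_diagonal hdiag) hσ
      rw [one_mul] at hσ₁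
      set x : ℤ := prE D b.by_.root (D.neg a.by_.root)
      have hx : Odd x := by
        simp only [x]
        rw [(h.facts.isWeight_prE hrb).neg _ hra, prE_eq h hrb hra, odd_neg, Int.odd_iff]
        exact hodd
      refine next_ a _ (Subgroup.mul_mem _ (Subgroup.mem_sup_left hdiag) hm) hσ₁ (hcj.sq_eq_one hm2)
        hcj ha (((c ^ x : Fˣ) : F) * d) (mul_ne_zero (Units.ne_zero _) hd) (fun t => ?_) ?_
      · rw [show hU D b.by_.root (c : F) * m * xU D a.by_.root t * (hU D b.by_.root (c : F) * m)⁻¹ =
          hU D b.by_.root (c : F) * (m * xU D a.by_.root t * m⁻¹) * (hU D b.by_.root (c : F))⁻¹ by group,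
          hd1, h.facts.hU_conj_xU hrb (h.facts.neg_lt hra), mul_assoc]
      · refine isSquare_mul_of_not h.facts (fun hh => hc ?_) hsd
        obtain ⟨y, hy⟩ := hx
        have hsqy : IsSquare ((c ^ (2 * y) : Fˣ) : F) :=
          (Even.isSquare_zpow (even_two_mul y) c).map (Units.coeHom F)
        have e1 : (c : F) = ((c ^ x : Fˣ) : F) * (((c ^ (2 * y) : Fˣ) : F))⁻¹ := by
          rw [hy, zpow_add_one, Units.val_mul]; field_simp
        rw [e1]
        exact hh.mul hsqy.inv

/-- Every involution is conjugate to an element of the torus. -/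
theorem exists_diag (h0 : 0 < reps.length) {t : GL D.Idx F} (ht : t ∈ D.group F)
    (ht2 : t * t = 1) : ∃ z ∈ D.diagonalSubgroup F, Conj D F t z := by
  obtain ⟨m, hm, hm2, hcj⟩ := exists_monomial h.facts hC hq ht ht2
  obtain ⟨l, z, hz, e⟩ := h.facts.exists_nW hm
  have hσ : PermAct m (sW D l) := by
    have := h.facts.permAct_mul (h.facts.permAct_nW (F := F) l) (h.facts.permAct_diagonal hz)
    rwa [mul_one, ← e] at this
  have hl : sW D l * sW D l = 1 := h.facts.permAct_unique (h.facts.permAct_mul hσ hσ)
    (by rw [hm2]; exact h.facts.permAct_diagonal (Subgroup.one_mem _))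
  let W : ℕ → List (Fin D.rank) := fun k => toW D ((reps.getD k ⟨[], [], .base, []⟩).word)
  have hWe : ∀ k (hk : k < reps.length), W k = toW D reps[k].word := fun k hk => by
    simp [W, List.getD_eq_getElem?_getD, hk]
  obtain ⟨k, hk, u, hu⟩ := exists_rep h.facts (W := W) h0 (by
      have := rep_spec h hreps h0
      simp only [repT, stepT, Bool.and_eq_true] at this
      rcases hst : reps[0].step with _ | ⟨j, p, q, st⟩ | ⟨a, b⟩
      · simp only [hst, Bool.and_eq_true, List.isEmpty_iff] at this
        rw [hWe 0 h0, this.1.2.2]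
        simp [toW, sW_nil]
      · simp only [hst] at this
        have hh := this.1.2
        rcases hS : reps[0].roots[j]? with _ | S
        · simp [hS] at hh
        · simp [hS, stripT, Nat.blt_eq] at hh
      · simp [hst, stripT, Nat.blt_eq] at this)
    (fun k hk w i hpos hfix => by
      have hR := rep_spec h hreps hk
      simp only [repT, extsT, Bool.and_eq_true] at hR
      obtain ⟨⟨⟨⟨⟨hwd, -⟩, -⟩, -⟩, -⟩, hall, hcov⟩ := hR
      set r := sW D w (h.facts.simpleFin i)
      have hrn : r.val < T.nroots := nroots_eq h.arr (D := D) ▸ r.isLt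
      have hb := allBelow_spec hcov r.val hrn
      have hfix' : LacedInvol.actT T reps[k].word r.val = r.val := by
        rw [← act_val h (all_lt h hwd), ← hWe k hk, hfix]
      rw [hfix', ← nroots_eq h.arr (D := D)] at hb
      simp only [(show Nat.ble (D.nroots / 2) r.val = true by rw [Nat.ble_eq]; exact hpos), Bool.true_and,
        show Nat.beq r.val r.val = true from Nat.beq_refl _, cond_true, List.any_eq_true] at hb
      obtain ⟨a, ha, har⟩ := hb
      have hh := List.all_eq_true.1 hall a ha
      simp only [Bool.and_eq_true] at hh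
      obtain ⟨hr, j, hw, hrefl⟩ := rword_spec h hh.1
      have hsame := refl_eq h.facts (a := w) (b := toW D a.by_.word) (i := i) (j := j)
        (by rw [hw]; exact Fin.ext (Nat.eq_of_beq_eq_true har).symm)
      rcases hR2 : reps[a.target]? with _ | S
      · simp [hR2] at hh
      simp only [hR2] at hh
      obtain ⟨hlen, hSe⟩ := List.getElem?_eq_some_iff.1 hR2
      refine ⟨a.target, hlen, toW D a.conj, ?_⟩
      rw [hWe k hk, hWe _ hlen, hSe, ← eqW_spec h hh.2, hsame, ← hrefl]
      simp only [toW_append, toW_reverse, sW_append, h.facts.sW_reverse]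
      group)
    l hl
  rw [hWe k hk] at hu
  set n := nW D F u
  have hm' : n * m * n⁻¹ ∈ D.monomialSubgroup F := Subgroup.mul_mem _
    (Subgroup.mul_mem _ (h.facts.nW_mem _) hm) (Subgroup.inv_mem _ (h.facts.nW_mem _))
  have hσ' := h.facts.permAct_mul (h.facts.permAct_mul (h.facts.permAct_nW (F := F) u) hσ)
    (h.facts.permAct_inv (h.facts.nW_mem u) (h.facts.permAct_nW u))
  rw [hu] at hσ'
  have hcj' : Conj D F m (n * m * n⁻¹) := ⟨n, h.facts.monomial_le_group (h.facts.nW_mem _), rfl⟩
  obtain ⟨z', hz', hc'⟩ := exists_diag_rep h hC hq hreps k hk _ hm' hσ' (hcj'.sq_eq_one hm2)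
  exact ⟨z', hz', (hcj.trans hcj').trans hc'⟩

end CfsgLib.Chev.OddInvol
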