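import Cfsg.Agent.Lib.Known.OddInvol.E8Reps

/-! The certificate for `E8`. -/

set_option autoImplicit false
set_option maxRecDepth 100000

namespace CfsgLib.Chev.OddInvol.E8

open Cfsg.Lie CfsgLib.Chev.Table

theorem tabOK : TabOK chevE8 DataE8.tab := ⟨DataE8.facts, DataE8.chk_arrays, DataE8.chk_chain⟩

theorem reps_ok : repsT DataE8.tab reps = true := by decide +kernel

end CfsgLib.Chev.OddInvol.E8
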