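import Cfsg.Agent.Lib.Known.OddInvol.Torus

/-! Generated certificate for the centralisers of the torus involutions of E8. -/

set_option autoImplicit false
set_option maxRecDepth 100000

namespace CfsgLib.Chev.OddInvol.E8

/-- A step of the chain. -/
def sStab0 : Step' where
  weight := [2,0,1,-1,0,0,0,0]
  cosets := [
    ⟨[],(0,0),[(true,1)]⟩,
    ⟨[0],(0,0),[(true,0)]⟩]

/-- A step of the chain. -/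
def sStab1 : Step' where
  weight := [0,0,2,-1,0,0,0,0]
  cosets := [
    ⟨[],(0,0),[(false,0),(true,1)]⟩,
    ⟨[2,3,2],(1,0),[(true,2),(true,0)]⟩,
    ⟨[0,2,3,2],(0,1),[(true,1),(false,0)]⟩]

/-- A step of the chain. -/
def sStab2 : Step' where
  weight := [0,1,1,-1,0,0,0,0]
  cosets := [
    ⟨[],(0,0),[(false,0),(false,1),(true,1)]⟩,
    ⟨[1],(2,0),[(false,0),(true,2),(true,0)]⟩,
    ⟨[2,3,2,1],(1,1),[(true,3),(true,1),(false,1)]⟩,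
    ⟨[0,2,3,2,1],(0,2),[(true,2),(false,0),(false,1)]⟩]

/-- A step of the chain. -/
def sStab3 : Step' where
  weight := [0,0,3,-3,2,0,0,0]
  cosets := [
    ⟨[],(0,0),[(false,0),(false,1),(false,2),(true,1)]⟩,
    ⟨[4],(3,0),[(false,0),(true,2),(false,2),(true,0)]⟩,
    ⟨[2,3,4,2],(1,1),[(true,3),(true,1),(true,4),(false,1)]⟩,
    ⟨[0,2,3,4,2],(0,2),[(true,2),(false,0),(true,5),(false,1)]⟩,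
    ⟨[2,1,3,4,2],(2,2),[(true,5),(false,2),(true,2),(false,1)]⟩,
    ⟨[0,2,1,3,4,2],(2,3),[(true,4),(true,6),(true,3),(false,1)]⟩,
    ⟨[2,3,0,2,1,3,4,0,2],(1,5),[(false,2),(true,5),(false,0),(true,7)]⟩,
    ⟨[4,2,3,0,2,1,3,4,0,2],(3,6),[(false,2),(false,1),(false,0),(true,6)]⟩]

/-- A step of the chain. -/
def sStab4 : Step' where
  weight := [0,0,1,-1,0,1,0,0]
  cosets := [
    ⟨[],(0,0),[(false,0),(false,1),(false,2),(false,3),(true,1)]⟩,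
    ⟨[5],(4,0),[(false,0),(false,1),(false,2),(true,2),(true,0)]⟩,
    ⟨[4,5],(3,1),[(false,0),(true,3),(false,2),(true,1),(false,3)]⟩,
    ⟨[2,3,4,5,2],(1,2),[(true,4),(true,2),(true,5),(false,1),(false,3)]⟩,
    ⟨[0,2,3,4,5,2],(0,3),[(true,3),(false,0),(true,6),(false,1),(false,3)]⟩,
    ⟨[2,1,3,4,5,2],(2,3),[(true,6),(false,2),(true,3),(false,1),(false,3)]⟩,
    ⟨[0,2,1,3,4,5,2],(2,4),[(true,5),(true,7),(true,4),(false,1),(false,3)]⟩,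
    ⟨[2,3,0,2,1,3,4,5,0,2],(1,6),[(false,2),(true,6),(false,0),(true,8),(false,3)]⟩,
    ⟨[4,2,3,0,2,1,3,4,5,0,2],(3,7),[(false,2),(false,1),(false,0),(true,7),(true,9)]⟩,
    ⟨[5,4,2,3,0,2,1,3,4,5,0,2],(4,8),[(false,2),(false,1),(false,0),(false,3),(true,8)]⟩]

/-- A step of the chain. -/
def sStab5 : Step' where
  weight := [0,0,1,-1,0,0,2,0]
  cosets := [
    ⟨[],(0,0),[(false,0),(false,1),(false,2),(false,3),(false,4),(true,1)]⟩,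
    ⟨[6],(5,0),[(false,0),(false,1),(false,2),(false,3),(true,2),(true,0)]⟩,
    ⟨[5,6],(4,1),[(false,0),(false,1),(false,2),(true,3),(true,1),(false,4)]⟩,
    ⟨[4,5,6],(3,2),[(false,0),(true,4),(false,2),(true,2),(false,3),(false,4)]⟩,
    ⟨[2,3,4,5,6,2],(1,3),[(true,5),(true,3),(true,6),(false,1),(false,3),(false,4)]⟩,
    ⟨[0,2,3,4,5,6,2],(0,4),[(true,4),(false,0),(true,7),(false,1),(false,3),(false,4)]⟩,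
    ⟨[2,1,3,4,5,6,2],(2,4),[(true,7),(false,2),(true,4),(false,1),(false,3),(false,4)]⟩,
    ⟨[0,2,1,3,4,5,6,2],(2,5),[(true,6),(true,8),(true,5),(false,1),(false,3),(false,4)]⟩,
    ⟨[2,3,0,2,1,3,4,5,6,0,2],(1,7),[(false,2),(true,7),(false,0),(true,9),(false,3),(false,4)]⟩,
    ⟨[4,2,3,0,2,1,3,4,5,6,0,2],(3,8),[(false,2),(false,1),(false,0),(true,8),(true,10),(false,4)]⟩,
    ⟨[5,4,2,3,0,2,1,3,4,5,6,0,2],(4,9),[(false,2),(false,1),(false,0),(false,3),(true,9),(true,11)]⟩,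
    ⟨[6,5,4,2,3,0,2,1,3,4,5,6,0,2],(5,10),[(false,2),(false,1),(false,0),(false,3),(false,4),(true,10)]⟩]

/-- A step of the chain. -/
def sStab6 : Step' where
  weight := [0,0,0,0,0,0,0,1]
  cosets := [
    ⟨[],(0,0),[(false,0),(false,1),(false,2),(false,3),(false,4),(false,5),(true,1)]⟩,
    ⟨[7],(6,0),[(false,0),(false,1),(false,2),(false,3),(false,4),(true,2),(true,0)]⟩,
    ⟨[6,7],(5,1),[(false,0),(false,1),(false,2),(false,3),(true,3),(true,1),(false,5)]⟩,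
    ⟨[5,6,7],(4,2),[(false,0),(false,1),(false,2),(true,4),(true,2),(false,4),(false,5)]⟩,
    ⟨[4,5,6,7],(3,3),[(false,0),(true,5),(false,2),(true,3),(false,3),(false,4),(false,5)]⟩,
    ⟨[2,3,4,5,6,7,2],(1,4),[(true,6),(true,4),(true,7),(false,1),(false,3),(false,4),(false,5)]⟩,
    ⟨[0,2,3,4,5,6,7,2],(0,5),[(true,5),(false,0),(true,8),(false,1),(false,3),(false,4),(false,5)]⟩,
    ⟨[2,1,3,4,5,6,7,2],(2,5),[(true,8),(false,2),(true,5),(false,1),(false,3),(false,4),(false,5)]⟩,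
    ⟨[0,2,1,3,4,5,6,7,2],(2,6),[(true,7),(true,9),(true,6),(false,1),(false,3),(false,4),(false,5)]⟩,
    ⟨[2,3,0,2,1,3,4,5,6,7,0,2],(1,8),[(false,2),(true,8),(false,0),(true,10),(false,3),(false,4),(false,5)]⟩,
    ⟨[4,2,3,0,2,1,3,4,5,6,7,0,2],(3,9),[(false,2),(false,1),(false,0),(true,9),(true,11),(false,4),(false,5)]⟩,
    ⟨[5,4,2,3,0,2,1,3,4,5,6,7,0,2],(4,10),[(false,2),(false,1),(false,0),(false,3),(true,10),(true,12),(false,5)]⟩,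
    ⟨[6,5,4,2,3,0,2,1,3,4,5,6,7,0,2],(5,11),[(false,2),(false,1),(false,0),(false,3),(false,4),(true,11),(true,13)]⟩,
    ⟨[7,6,5,4,2,3,0,2,1,3,4,5,6,7,0,2],(6,12),[(false,2),(false,1),(false,0),(false,3),(false,4),(false,5),(true,12)]⟩]

/-- A step of the chain. -/
def sStab7 : Step' where
  weight := [0,0,-1,1,0,0,0,0]
  cosets := [
    ⟨[],(0,0),[(false,0),(false,1),(false,2),(false,3),(false,4),(false,5),(false,6),(true,1)]⟩,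
    ⟨[3,4,5,1,3,4,2,3,0,2,1,3,4,5,6,5,4,3,2,1,3,4,5,0,2,3,4,1,3],(7,0),[(false,0),(false,1),(false,2),(false,3),(false,4),(false,5),(true,2),(true,0)]⟩,
    ⟨[7,3,4,5,1,3,4,2,3,0,2,1,3,4,5,6,5,4,3,2,1,3,4,5,0,2,3,4,1,3],(6,1),[(false,0),(false,1),(false,2),(false,3),(false,4),(true,3),(true,1),(false,6)]⟩,
    ⟨[6,7,3,4,5,1,3,4,2,3,0,2,1,3,4,5,6,5,4,3,2,1,3,4,5,0,2,3,4,1,3],(5,2),[(false,0),(false,1),(false,2),(false,3),(true,4),(true,2),(false,5),(false,6)]⟩,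
    ⟨[5,6,7,3,4,5,1,3,4,2,3,0,2,1,3,4,5,6,5,4,3,2,1,3,4,5,0,2,3,4,1,3],(4,3),[(false,0),(false,1),(false,2),(true,5),(true,3),(false,4),(false,5),(false,6)]⟩,
    ⟨[4,5,6,7,3,4,5,1,3,4,2,3,0,2,1,3,4,5,6,5,4,3,2,1,3,4,5,0,2,3,4,1,3],(3,4),[(false,0),(true,6),(false,2),(true,4),(false,3),(false,4),(false,5),(false,6)]⟩,
    ⟨[2,3,4,5,6,7,2,3,4,5,1,3,4,2,3,0,2,1,3,4,5,6,5,4,3,2,1,3,4,5,0,2,3,4,1,3],(1,5),[(true,7),(true,5),(true,8),(false,1),(false,3),(false,4),(false,5),(false,6)]⟩,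
    ⟨[0,2,3,4,5,6,7,2,3,4,5,1,3,4,2,3,0,2,1,3,4,5,6,5,4,3,2,1,3,4,5,0,2,3,4,1,3],(0,6),[(true,6),(false,0),(true,9),(false,1),(false,3),(false,4),(false,5),(false,6)]⟩,
    ⟨[2,1,3,4,5,6,7,2,3,4,5,1,3,4,2,3,0,2,1,3,4,5,6,5,4,3,2,1,3,4,5,0,2,3,4,1,3],(2,6),[(true,9),(false,2),(true,6),(false,1),(false,3),(false,4),(false,5),(false,6)]⟩,
    ⟨[0,2,1,3,4,5,6,7,2,3,4,5,1,3,4,2,3,0,2,1,3,4,5,6,5,4,3,2,1,3,4,5,0,2,3,4,1,3],(2,7),[(true,8),(true,10),(true,7),(false,1),(false,3),(false,4),(false,5),(false,6)]⟩,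
    ⟨[2,3,0,2,1,3,4,5,6,7,0,2,3,4,5,1,3,4,2,3,0,2,1,3,4,5,6,5,4,3,2,1,3,4,5,0,2,3,4,1,3],(1,9),[(false,2),(true,9),(false,0),(true,11),(false,3),(false,4),(false,5),(false,6)]⟩,
    ⟨[4,2,3,0,2,1,3,4,5,6,7,0,2,3,4,5,1,3,4,2,3,0,2,1,3,4,5,6,5,4,3,2,1,3,4,5,0,2,3,4,1,3],(3,10),[(false,2),(false,1),(false,0),(true,10),(true,12),(false,4),(false,5),(false,6)]⟩,
    ⟨[5,4,2,3,0,2,1,3,4,5,6,7,0,2,3,4,5,1,3,4,2,3,0,2,1,3,4,5,6,5,4,3,2,1,3,4,5,0,2,3,4,1,3],(4,11),[(false,2),(false,1),(false,0),(false,3),(true,11),(true,13),(false,5),(false,6)]⟩,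
    ⟨[6,5,4,2,3,0,2,1,3,4,5,6,7,0,2,3,4,5,1,3,4,2,3,0,2,1,3,4,5,6,5,4,3,2,1,3,4,5,0,2,3,4,1,3],(5,12),[(false,2),(false,1),(false,0),(false,3),(false,4),(true,12),(true,14),(false,6)]⟩,
    ⟨[7,6,5,4,2,3,0,2,1,3,4,5,6,7,0,2,3,4,5,1,3,4,2,3,0,2,1,3,4,5,6,5,4,3,2,1,3,4,5,0,2,3,4,1,3],(6,13),[(false,2),(false,1),(false,0),(false,3),(false,4),(false,5),(true,13),(true,15)]⟩,
    ⟨[3,4,5,1,3,4,2,3,0,2,1,3,4,5,6,7,5,4,3,2,1,3,4,5,6,0,2,3,4,5,1,3,4,2,3,0,2,1,3,4,5,6,7,0,2,3,4,5,1,3,4,2,3,0,2,1,3,4,5,6,5,4,3,2,1,3,4,5,0,2,3,4,1,3],(7,14),[(false,2),(false,1),(false,0),(false,3),(false,4),(false,5),(false,6),(true,14)]⟩]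

/-- The stabiliser. -/
def sStab : Stab where
  y := [1,1,0,0,0,0,0,0]
  gens := [⟨162,0,[]⟩, ⟨136,2,[3]⟩, ⟨141,1,[]⟩, ⟨126,4,[]⟩, ⟨123,5,[]⟩, ⟨121,6,[]⟩, ⟨120,7,[]⟩, ⟨214,0,[3,4,5,6,1,3,4,5,2,3,4,1,3,2]⟩]
  steps := [sStab0, sStab1, sStab2, sStab3, sStab4, sStab5, sStab6, sStab7]
  orbit := [
    [],
    [2],
    [3],
    [2,0],
    [3,1],
    [3,4],
    [3,1,4],
    [3,4,5],
    [3,1,4,3],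
    [3,1,4,5],
    [3,4,5,6],
    [3,1,4,3,2],
    [3,1,4,3,5],
    [3,1,4,5,6],
    [3,4,5,6,7],
    [3,1,4,3,2,0],
    [3,1,4,3,2,5],
    [3,1,4,3,5,4],
    [3,1,4,3,5,6],
    [3,1,4,5,6,7],
    [3,1,4,3,2,0,5],
    [3,1,4,3,2,5,4],
    [3,1,4,3,2,5,6],
    [3,1,4,3,5,4,6],
    [3,1,4,3,5,6,7],
    [3,1,4,3,2,0,5,4],
    [3,1,4,3,2,0,5,6],
    [3,1,4,3,2,5,4,3],
    [3,1,4,3,2,5,4,6],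
    [3,1,4,3,2,5,6,7],
    [3,1,4,3,5,4,6,5],
    [3,1,4,3,5,4,6,7],
    [3,1,4,3,2,0,5,4,3],
    [3,1,4,3,2,0,5,4,6],
    [3,1,4,3,2,0,5,6,7],
    [3,1,4,3,2,5,4,3,1],
    [3,1,4,3,2,5,4,3,6],
    [3,1,4,3,2,5,4,6,5],
    [3,1,4,3,2,5,4,6,7],
    [3,1,4,3,5,4,6,5,7],
    [3,1,4,3,2,0,5,4,3,1],
    [3,1,4,3,2,0,5,4,3,2],
    [3,1,4,3,2,0,5,4,3,6],
    [3,1,4,3,2,0,5,4,6,5],
    [3,1,4,3,2,0,5,4,6,7],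
    [3,1,4,3,2,5,4,3,1,6],
    [3,1,4,3,2,5,4,3,6,5],
    [3,1,4,3,2,5,4,3,6,7],
    [3,1,4,3,2,5,4,6,5,7],
    [3,1,4,3,5,4,6,5,7,6],
    [3,1,4,3,2,0,5,4,3,1,2],
    [3,1,4,3,2,0,5,4,3,1,6],
    [3,1,4,3,2,0,5,4,3,2,6],
    [3,1,4,3,2,0,5,4,3,6,5],
    [3,1,4,3,2,0,5,4,3,6,7],
    [3,1,4,3,2,0,5,4,6,5,7],
    [3,1,4,3,2,5,4,3,1,6,5],
    [3,1,4,3,2,5,4,3,1,6,7],
    [3,1,4,3,2,5,4,3,6,5,4],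
    [3,1,4,3,2,5,4,3,6,5,7],
    [3,1,4,3,2,5,4,6,5,7,6],
    [3,1,4,3,2,0,5,4,3,1,2,3],
    [3,1,4,3,2,0,5,4,3,1,2,6],
    [3,1,4,3,2,0,5,4,3,1,6,5],
    [3,1,4,3,2,0,5,4,3,1,6,7],
    [3,1,4,3,2,0,5,4,3,2,6,5],
    [3,1,4,3,2,0,5,4,3,2,6,7],
    [3,1,4,3,2,0,5,4,3,6,5,4],
    [3,1,4,3,2,0,5,4,3,6,5,7],
    [3,1,4,3,2,0,5,4,6,5,7,6],
    [3,1,4,3,2,5,4,3,1,6,5,4],
    [3,1,4,3,2,5,4,3,1,6,5,7],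
    [3,1,4,3,2,5,4,3,6,5,4,7],
    [3,1,4,3,2,5,4,3,6,5,7,6],
    [3,1,4,3,2,0,5,4,3,1,2,3,4],
    [3,1,4,3,2,0,5,4,3,1,2,3,6],
    [3,1,4,3,2,0,5,4,3,1,2,6,5],
    [3,1,4,3,2,0,5,4,3,1,2,6,7],
    [3,1,4,3,2,0,5,4,3,1,6,5,4],
    [3,1,4,3,2,0,5,4,3,1,6,5,7],
    [3,1,4,3,2,0,5,4,3,2,6,5,4],
    [3,1,4,3,2,0,5,4,3,2,6,5,7],
    [3,1,4,3,2,0,5,4,3,6,5,4,7],
    [3,1,4,3,2,0,5,4,3,6,5,7,6],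
    [3,1,4,3,2,5,4,3,1,6,5,4,3],
    [3,1,4,3,2,5,4,3,1,6,5,4,7],
    [3,1,4,3,2,5,4,3,1,6,5,7,6],
    [3,1,4,3,2,5,4,3,6,5,4,7,6],
    [3,1,4,3,2,0,5,4,3,1,2,3,4,5],
    [3,1,4,3,2,0,5,4,3,1,2,3,4,6],
    [3,1,4,3,2,0,5,4,3,1,2,3,6,5],
    [3,1,4,3,2,0,5,4,3,1,2,3,6,7],
    [3,1,4,3,2,0,5,4,3,1,2,6,5,4],
    [3,1,4,3,2,0,5,4,3,1,2,6,5,7],
    [3,1,4,3,2,0,5,4,3,1,6,5,4,3],
    [3,1,4,3,2,0,5,4,3,1,6,5,4,7],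
    [3,1,4,3,2,0,5,4,3,1,6,5,7,6],
    [3,1,4,3,2,0,5,4,3,2,6,5,4,3],
    [3,1,4,3,2,0,5,4,3,2,6,5,4,7],
    [3,1,4,3,2,0,5,4,3,2,6,5,7,6],
    [3,1,4,3,2,0,5,4,3,6,5,4,7,6],
    [3,1,4,3,2,5,4,3,1,6,5,4,3,2],
    [3,1,4,3,2,5,4,3,1,6,5,4,3,7],
    [3,1,4,3,2,5,4,3,1,6,5,4,7,6],
    [3,1,4,3,2,5,4,3,6,5,4,7,6,5],
    [3,1,4,3,2,0,5,4,3,1,2,3,4,6,7],
    [3,1,4,3,2,0,5,4,3,1,2,3,6,5,7],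
    [3,1,4,3,2,0,5,4,3,1,2,6,5,4,7],
    [3,1,4,3,2,0,5,4,3,1,2,6,5,7,6],
    [3,1,4,3,2,0,5,4,3,1,6,5,4,3,7],
    [3,1,4,3,2,0,5,4,3,1,6,5,4,7,6],
    [3,1,4,3,2,0,5,4,3,2,6,5,4,3,7],
    [3,1,4,3,2,0,5,4,3,2,6,5,4,7,6],
    [3,1,4,3,2,0,5,4,3,6,5,4,7,6,5],
    [3,1,4,3,2,5,4,3,1,6,5,4,3,2,7],
    [3,1,4,3,2,5,4,3,1,6,5,4,3,7,6],
    [3,1,4,3,2,5,4,3,1,6,5,4,7,6,5],
    [3,1,4,3,2,0,5,4,3,1,2,3,6,5,7,6],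
    [3,1,4,3,2,0,5,4,3,1,2,6,5,4,7,6],
    [3,1,4,3,2,0,5,4,3,1,6,5,4,3,7,6],
    [3,1,4,3,2,0,5,4,3,1,6,5,4,7,6,5],
    [3,1,4,3,2,0,5,4,3,2,6,5,4,3,7,6],
    [3,1,4,3,2,0,5,4,3,2,6,5,4,7,6,5],
    [3,1,4,3,2,5,4,3,1,6,5,4,3,2,7,6],
    [3,1,4,3,2,5,4,3,1,6,5,4,3,7,6,5],
    [3,1,4,3,2,0,5,4,3,1,2,6,5,4,7,6,5],
    [3,1,4,3,2,0,5,4,3,1,6,5,4,3,7,6,5],
    [3,1,4,3,2,0,5,4,3,2,6,5,4,3,7,6,5],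
    [3,1,4,3,2,5,4,3,1,6,5,4,3,2,7,6,5],
    [3,1,4,3,2,5,4,3,1,6,5,4,3,7,6,5,4],
    [3,1,4,3,2,0,5,4,3,1,6,5,4,3,7,6,5,4],
    [3,1,4,3,2,0,5,4,3,2,6,5,4,3,7,6,5,4],
    [3,1,4,3,2,5,4,3,1,6,5,4,3,2,7,6,5,4],
    [3,1,4,3,2,5,4,3,1,6,5,4,3,2,7,6,5,4,3],
    [3,1,4,3,2,5,4,3,1,6,5,4,3,2,7,6,5,4,3,1]]

/-- A step of the chain. -/
def tStab0 : Step' where
  weight := [0,0,1,0,0,0,0,0]
  cosets := [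
    ⟨[],(0,0),[(true,1)]⟩,
    ⟨[2,3,0,2,1,3,4,3,2,1,3,0,2],(0,0),[(true,0)]⟩]

/-- A step of the chain. -/
def tStab1 : Step' where
  weight := [0,0,0,0,0,1,0,0]
  cosets := [
    ⟨[],(0,0),[(false,0),(true,1)]⟩,
    ⟨[5],(1,0),[(true,2),(true,0)]⟩,
    ⟨[2,3,0,2,1,3,4,5,3,2,1,3,0,2],(0,1),[(true,1),(false,0)]⟩]

/-- A step of the chain. -/
def tStab2 : Step' where
  weight := [0,0,-1,0,2,0,0,0]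
  cosets := [
    ⟨[],(0,0),[(false,0),(false,1),(true,1)]⟩,
    ⟨[4],(2,0),[(false,0),(true,2),(true,0)]⟩,
    ⟨[5,4],(1,1),[(true,3),(true,1),(false,1)]⟩,
    ⟨[2,3,0,2,1,3,4,5,3,2,1,3,4,0,2],(0,2),[(true,2),(false,0),(false,1)]⟩]

/-- A step of the chain. -/
def tStab3 : Step' where
  weight := [0,0,0,0,0,0,1,0]
  cosets := [
    ⟨[],(0,0),[(false,0),(false,1),(false,2),(true,1)]⟩,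
    ⟨[6],(3,0),[(false,0),(true,2),(false,2),(true,0)]⟩,
    ⟨[5,6],(1,1),[(true,3),(true,1),(true,4),(false,1)]⟩,
    ⟨[2,3,0,2,1,3,4,5,6,3,2,1,3,0,2],(0,2),[(true,2),(false,0),(true,5),(false,1)]⟩,
    ⟨[4,5,6],(2,2),[(true,5),(false,2),(true,2),(false,1)]⟩,
    ⟨[4,2,3,0,2,1,3,4,5,6,3,2,1,3,0,2],(2,3),[(true,4),(true,6),(true,3),(false,1)]⟩,
    ⟨[5,4,2,3,0,2,1,3,4,5,6,3,2,1,3,0,2],(1,5),[(false,2),(true,5),(false,0),(true,7)]⟩,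
    ⟨[6,5,4,2,3,0,2,1,3,4,5,6,3,2,1,3,0,2],(3,6),[(false,2),(false,1),(false,0),(true,6)]⟩]

/-- A step of the chain. -/
def tStab4 : Step' where
  weight := [0,0,-1,1,0,0,0,0]
  cosets := [
    ⟨[],(0,0),[(false,0),(false,1),(false,2),(false,3),(true,1)]⟩,
    ⟨[3],(4,0),[(false,0),(false,1),(true,2),(false,3),(true,0)]⟩,
    ⟨[4,3],(2,1),[(false,0),(true,3),(true,1),(false,3),(false,2)]⟩,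
    ⟨[5,4,3],(1,2),[(true,4),(true,2),(false,1),(true,5),(false,2)]⟩,
    ⟨[2,3,0,2,1,3,4,5,3,2,1,3,4,0,2,3],(0,3),[(true,3),(false,0),(false,1),(true,6),(false,2)]⟩,
    ⟨[6,5,4,3],(3,3),[(true,6),(false,3),(false,1),(true,3),(false,2)]⟩,
    ⟨[6,2,3,0,2,1,3,4,5,3,2,1,3,4,0,2,3],(3,4),[(true,5),(true,7),(false,1),(true,4),(false,2)]⟩,
    ⟨[5,6,2,3,0,2,1,3,4,5,3,2,1,3,4,0,2,3],(1,6),[(false,3),(true,6),(true,8),(false,0),(false,2)]⟩,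
    ⟨[4,5,6,2,3,0,2,1,3,4,5,3,2,1,3,4,0,2,3],(2,7),[(false,3),(false,1),(true,7),(false,0),(true,9)]⟩,
    ⟨[3,4,5,6,2,3,0,2,1,3,4,5,3,2,1,3,4,0,2,3],(4,8),[(false,3),(false,1),(false,2),(false,0),(true,8)]⟩]

/-- A step of the chain. -/
def tStab5 : Step' where
  weight := [0,0,0,0,0,0,0,1]
  cosets := [
    ⟨[],(0,0),[(false,0),(false,1),(false,2),(false,3),(false,4),(true,1)]⟩,
    ⟨[7],(5,0),[(false,0),(false,1),(false,2),(true,2),(false,4),(true,0)]⟩,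
    ⟨[6,7],(3,1),[(false,0),(true,3),(false,2),(true,1),(false,4),(false,3)]⟩,
    ⟨[5,6,7],(1,2),[(true,4),(true,2),(true,5),(false,1),(false,4),(false,3)]⟩,
    ⟨[2,3,0,2,1,3,4,5,6,7,3,2,1,3,0,2],(0,3),[(true,3),(false,0),(true,6),(false,1),(false,4),(false,3)]⟩,
    ⟨[4,5,6,7],(2,3),[(true,6),(false,2),(true,3),(false,1),(true,7),(false,3)]⟩,
    ⟨[4,2,3,0,2,1,3,4,5,6,7,3,2,1,3,0,2],(2,4),[(true,5),(true,8),(true,4),(false,1),(true,9),(false,3)]⟩,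
    ⟨[3,4,5,6,7],(4,5),[(true,9),(false,2),(false,4),(false,1),(true,5),(false,3)]⟩,
    ⟨[5,4,2,3,0,2,1,3,4,5,6,7,3,2,1,3,0,2],(1,6),[(false,2),(true,6),(false,0),(true,10),(true,11),(false,3)]⟩,
    ⟨[3,4,2,3,0,2,1,3,4,5,6,7,3,2,1,3,0,2],(4,6),[(true,7),(true,11),(false,4),(false,1),(true,6),(false,3)]⟩,
    ⟨[6,5,4,2,3,0,2,1,3,4,5,6,7,3,2,1,3,0,2],(3,8),[(false,2),(false,1),(false,0),(true,8),(true,12),(true,13)]⟩,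
    ⟨[5,3,4,2,3,0,2,1,3,4,5,6,7,3,2,1,3,0,2],(4,8),[(false,2),(true,9),(true,14),(true,12),(true,8),(false,3)]⟩,
    ⟨[6,5,3,4,2,3,0,2,1,3,4,5,6,7,3,2,1,3,0,2],(4,10),[(false,2),(false,1),(true,15),(true,11),(true,10),(true,16)]⟩,
    ⟨[7,6,5,4,2,3,0,2,1,3,4,5,6,7,3,2,1,3,0,2],(5,10),[(false,2),(false,1),(false,0),(false,3),(true,16),(true,10)]⟩,
    ⟨[4,5,3,4,2,3,0,2,1,3,4,5,6,7,3,2,1,3,0,2],(2,11),[(false,2),(false,4),(true,11),(true,15),(false,0),(false,3)]⟩,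
    ⟨[6,4,5,3,4,2,3,0,2,1,3,4,5,6,7,3,2,1,3,0,2],(2,12),[(false,2),(true,17),(true,12),(true,14),(false,0),(true,18)]⟩,
    ⟨[7,6,5,3,4,2,3,0,2,1,3,4,5,6,7,3,2,1,3,0,2],(5,12),[(false,2),(false,1),(true,18),(false,3),(true,13),(true,12)]⟩,
    ⟨[5,6,4,5,3,4,2,3,0,2,1,3,4,5,6,7,3,2,1,3,0,2],(1,15),[(true,19),(true,15),(false,1),(false,4),(false,0),(true,20)]⟩,
    ⟨[7,6,4,5,3,4,2,3,0,2,1,3,4,5,6,7,3,2,1,3,0,2],(5,15),[(false,2),(true,20),(true,16),(false,3),(false,0),(true,15)]⟩,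
    ⟨[2,3,4,5,6,0,2,3,4,5,1,3,4,2,3,0,2,1,3,4,5,6,7,4,5,3,4,2,3,0,2],(0,17),[(true,17),(false,2),(false,1),(false,4),(false,0),(true,21)]⟩,
    ⟨[7,5,6,4,5,3,4,2,3,0,2,1,3,4,5,6,7,3,2,1,3,0,2],(5,17),[(true,21),(true,18),(false,1),(true,22),(false,0),(true,17)]⟩,
    ⟨[7,2,3,4,5,6,0,2,3,4,5,1,3,4,2,3,0,2,1,3,4,5,6,7,4,5,3,4,2,3,0,2],(5,19),[(true,20),(false,2),(false,1),(true,23),(false,0),(true,19)]⟩,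
    ⟨[6,7,5,6,4,5,3,4,2,3,0,2,1,3,4,5,6,7,3,2,1,3,0,2],(3,20),[(true,23),(false,3),(false,1),(true,20),(false,0),(false,4)]⟩,
    ⟨[6,7,2,3,4,5,6,0,2,3,4,5,1,3,4,2,3,0,2,1,3,4,5,6,7,4,5,3,4,2,3,0,2],(3,21),[(true,22),(true,24),(false,1),(true,21),(false,0),(false,4)]⟩,
    ⟨[5,6,7,2,3,4,5,6,0,2,3,4,5,1,3,4,2,3,0,2,1,3,4,5,6,7,4,5,3,4,2,3,0,2],(1,23),[(false,3),(true,23),(true,25),(false,2),(false,0),(false,4)]⟩,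
    ⟨[4,5,6,7,2,3,4,5,6,0,2,3,4,5,1,3,4,2,3,0,2,1,3,4,5,6,7,4,5,3,4,2,3,0,2],(2,24),[(false,3),(false,1),(true,24),(false,2),(true,26),(false,4)]⟩,
    ⟨[3,4,5,6,7,2,3,4,5,6,0,2,3,4,5,1,3,4,2,3,0,2,1,3,4,5,6,7,4,5,3,4,2,3,0,2],(4,25),[(false,3),(false,1),(false,0),(false,2),(true,25),(false,4)]⟩]

/-- A step of the chain. -/
def tStab6 : Step' where
  weight := [0,2,-1,0,0,0,0,0]
  cosets := [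
    ⟨[],(0,0),[(false,0),(false,1),(false,2),(false,3),(false,4),(false,5),(true,1)]⟩,
    ⟨[1],(6,0),[(false,0),(false,1),(false,2),(false,3),(true,2),(false,5),(true,0)]⟩,
    ⟨[3,1],(4,1),[(false,0),(false,1),(true,3),(false,3),(true,1),(false,5),(false,4)]⟩,
    ⟨[4,3,1],(2,2),[(false,0),(true,4),(true,2),(false,3),(false,2),(false,5),(false,4)]⟩,
    ⟨[5,4,3,1],(1,3),[(true,5),(true,3),(false,1),(true,6),(false,2),(false,5),(false,4)]⟩,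
    ⟨[2,3,0,2,1,3,4,5,3,2,1,3,4,0,2,3,1],(0,4),[(true,4),(false,0),(false,1),(true,7),(false,2),(false,5),(false,4)]⟩,
    ⟨[6,5,4,3,1],(3,4),[(true,7),(false,3),(false,1),(true,4),(false,2),(true,8),(false,4)]⟩,
    ⟨[6,2,3,0,2,1,3,4,5,3,2,1,3,4,0,2,3,1],(3,5),[(true,6),(true,9),(false,1),(true,5),(false,2),(true,10),(false,4)]⟩,
    ⟨[7,6,5,4,3,1],(5,6),[(true,10),(false,3),(false,1),(false,5),(false,2),(true,6),(false,4)]⟩,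
    ⟨[5,6,2,3,0,2,1,3,4,5,3,2,1,3,4,0,2,3,1],(1,7),[(false,3),(true,7),(true,11),(false,0),(false,2),(true,12),(false,4)]⟩,
    ⟨[7,6,2,3,0,2,1,3,4,5,3,2,1,3,4,0,2,3,1],(5,7),[(true,8),(true,12),(false,1),(false,5),(false,2),(true,7),(false,4)]⟩,
    ⟨[4,5,6,2,3,0,2,1,3,4,5,3,2,1,3,4,0,2,3,1],(2,9),[(false,3),(false,1),(true,9),(false,0),(true,13),(true,14),(false,4)]⟩,
    ⟨[7,5,6,2,3,0,2,1,3,4,5,3,2,1,3,4,0,2,3,1],(5,9),[(false,3),(true,10),(true,14),(true,15),(false,2),(true,9),(false,4)]⟩,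
    ⟨[3,4,5,6,2,3,0,2,1,3,4,5,3,2,1,3,4,0,2,3,1],(4,11),[(false,3),(false,1),(false,2),(false,0),(true,11),(true,16),(true,17)]⟩,
    ⟨[7,4,5,6,2,3,0,2,1,3,4,5,3,2,1,3,4,0,2,3,1],(5,11),[(false,3),(false,1),(true,12),(true,18),(true,16),(true,11),(false,4)]⟩,
    ⟨[6,7,5,6,2,3,0,2,1,3,4,5,3,2,1,3,4,0,2,3,1],(3,12),[(false,3),(false,5),(true,18),(true,12),(false,2),(false,0),(false,4)]⟩,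
    ⟨[7,3,4,5,6,2,3,0,2,1,3,4,5,3,2,1,3,4,0,2,3,1],(5,13),[(false,3),(false,1),(false,2),(true,19),(true,14),(true,13),(true,20)]⟩,
    ⟨[1,3,4,5,6,2,3,0,2,1,3,4,5,3,2,1,3,4,0,2,3,1],(6,13),[(false,3),(false,1),(false,2),(false,0),(false,4),(true,20),(true,13)]⟩,
    ⟨[6,7,4,5,6,2,3,0,2,1,3,4,5,3,2,1,3,4,0,2,3,1],(3,14),[(false,3),(true,21),(true,15),(true,14),(true,19),(false,0),(false,4)]⟩,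
    ⟨[6,7,3,4,5,6,2,3,0,2,1,3,4,5,3,2,1,3,4,0,2,3,1],(3,16),[(false,3),(true,22),(false,2),(true,16),(true,18),(false,0),(true,23)]⟩,
    ⟨[7,1,3,4,5,6,2,3,0,2,1,3,4,5,3,2,1,3,4,0,2,3,1],(6,16),[(false,3),(false,1),(false,2),(true,23),(false,4),(true,17),(true,16)]⟩,
    ⟨[5,6,7,4,5,6,2,3,0,2,1,3,4,5,3,2,1,3,4,0,2,3,1],(1,18),[(true,24),(true,18),(false,5),(false,1),(true,22),(false,0),(false,4)]⟩,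
    ⟨[5,6,7,3,4,5,6,2,3,0,2,1,3,4,5,3,2,1,3,4,0,2,3,1],(1,19),[(true,25),(true,19),(true,26),(false,1),(true,21),(false,0),(true,27)]⟩,
    ⟨[6,7,1,3,4,5,6,2,3,0,2,1,3,4,5,3,2,1,3,4,0,2,3,1],(6,19),[(false,3),(true,27),(false,2),(true,20),(false,4),(false,0),(true,19)]⟩,
    ⟨[2,3,0,2,1,3,4,5,6,7,3,2,1,3,4,5,6,3,2,1,3,4,5,3,2,1,3,4,0,2,3,1],(0,21),[(true,21),(false,3),(false,5),(false,1),(true,25),(false,0),(false,4)]⟩,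
    ⟨[2,3,0,2,1,3,4,5,6,7,3,0,2,1,3,4,5,6,3,2,1,3,4,5,3,2,1,3,4,0,2,3,1],(0,22),[(true,22),(false,3),(true,28),(false,1),(true,24),(false,0),(true,29)]⟩,
    ⟨[4,5,6,7,3,4,5,6,2,3,0,2,1,3,4,5,3,2,1,3,4,0,2,3,1],(2,22),[(true,28),(false,2),(true,22),(false,1),(false,5),(false,0),(true,30)]⟩,
    ⟨[5,6,7,1,3,4,5,6,2,3,0,2,1,3,4,5,3,2,1,3,4,0,2,3,1],(6,22),[(true,29),(true,23),(true,30),(false,1),(false,4),(false,0),(true,22)]⟩,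
    ⟨[4,2,3,0,2,1,3,4,5,6,7,3,0,2,1,3,4,5,6,3,2,1,3,4,5,3,2,1,3,4,0,2,3,1],(2,25),[(true,26),(true,31),(true,25),(false,1),(false,5),(false,0),(true,32)]⟩,
    ⟨[2,3,0,2,1,3,4,5,6,7,2,3,0,2,1,3,4,5,6,3,2,1,3,4,5,3,2,1,3,4,0,2,3,1],(6,25),[(true,27),(false,3),(true,32),(false,1),(false,4),(false,0),(true,25)]⟩,
    ⟨[4,5,6,7,1,3,4,5,6,2,3,0,2,1,3,4,5,3,2,1,3,4,0,2,3,1],(6,26),[(true,32),(false,2),(true,27),(false,1),(true,33),(false,0),(true,26)]⟩,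
    ⟨[5,4,2,3,0,2,1,3,4,5,6,7,3,0,2,1,3,4,5,6,3,2,1,3,4,5,3,2,1,3,4,0,2,3,1],(1,28),[(false,2),(true,28),(false,3),(true,34),(false,5),(false,0),(true,35)]⟩,
    ⟨[4,2,3,0,2,1,3,4,5,6,7,2,3,0,2,1,3,4,5,6,3,2,1,3,4,5,3,2,1,3,4,0,2,3,1],(6,28),[(true,30),(true,35),(true,29),(false,1),(true,36),(false,0),(true,28)]⟩,
    ⟨[3,4,5,6,7,1,3,4,5,6,2,3,0,2,1,3,4,5,3,2,1,3,4,0,2,3,1],(4,30),[(true,36),(false,2),(false,4),(false,1),(true,30),(false,0),(false,5)]⟩,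
    ⟨[6,5,4,2,3,0,2,1,3,4,5,6,7,3,0,2,1,3,4,5,6,3,2,1,3,4,5,3,2,1,3,4,0,2,3,1],(3,31),[(false,2),(false,1),(false,3),(true,31),(false,5),(true,37),(true,38)]⟩,
    ⟨[5,4,2,3,0,2,1,3,4,5,6,7,2,3,0,2,1,3,4,5,6,3,2,1,3,4,5,3,2,1,3,4,0,2,3,1],(6,31),[(false,2),(true,32),(false,3),(true,38),(true,39),(false,0),(true,31)]⟩,
    ⟨[3,4,2,3,0,2,1,3,4,5,6,7,2,3,0,2,1,3,4,5,6,3,2,1,3,4,5,3,2,1,3,4,0,2,3,1],(4,32),[(true,33),(true,39),(false,4),(false,1),(true,32),(false,0),(false,5)]⟩,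
    ⟨[7,6,5,4,2,3,0,2,1,3,4,5,6,7,3,0,2,1,3,4,5,6,3,2,1,3,4,5,3,2,1,3,4,0,2,3,1],(5,34),[(false,2),(false,1),(false,3),(false,0),(false,5),(true,34),(true,40)]⟩,
    ⟨[6,5,4,2,3,0,2,1,3,4,5,6,7,2,3,0,2,1,3,4,5,6,3,2,1,3,4,5,3,2,1,3,4,0,2,3,1],(6,34),[(false,2),(false,1),(false,3),(true,35),(true,41),(true,40),(true,34)]⟩,
    ⟨[5,3,4,2,3,0,2,1,3,4,5,6,7,2,3,0,2,1,3,4,5,6,3,2,1,3,4,5,3,2,1,3,4,0,2,3,1],(4,35),[(false,2),(true,36),(true,42),(true,41),(true,35),(false,0),(false,5)]⟩,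
    ⟨[7,6,5,4,2,3,0,2,1,3,4,5,6,7,2,3,0,2,1,3,4,5,6,3,2,1,3,4,5,3,2,1,3,4,0,2,3,1],(6,37),[(false,2),(false,1),(false,3),(false,0),(true,43),(true,38),(true,37)]⟩,
    ⟨[6,5,3,4,2,3,0,2,1,3,4,5,6,7,2,3,0,2,1,3,4,5,6,3,2,1,3,4,5,3,2,1,3,4,0,2,3,1],(4,38),[(false,2),(false,1),(true,44),(true,39),(true,38),(true,43),(false,5)]⟩,
    ⟨[4,5,3,4,2,3,0,2,1,3,4,5,6,7,2,3,0,2,1,3,4,5,6,3,2,1,3,4,5,3,2,1,3,4,0,2,3,1],(2,39),[(false,2),(false,4),(true,39),(true,44),(false,3),(false,0),(false,5)]⟩,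
    ⟨[7,6,5,3,4,2,3,0,2,1,3,4,5,6,7,2,3,0,2,1,3,4,5,6,3,2,1,3,4,5,3,2,1,3,4,0,2,3,1],(4,40),[(false,2),(false,1),(true,45),(false,0),(true,40),(true,41),(false,5)]⟩,
    ⟨[6,4,5,3,4,2,3,0,2,1,3,4,5,6,7,2,3,0,2,1,3,4,5,6,3,2,1,3,4,5,3,2,1,3,4,0,2,3,1],(2,41),[(false,2),(true,46),(true,41),(true,42),(false,3),(true,45),(false,5)]⟩,
    ⟨[7,6,4,5,3,4,2,3,0,2,1,3,4,5,6,7,2,3,0,2,1,3,4,5,6,3,2,1,3,4,5,3,2,1,3,4,0,2,3,1],(2,43),[(false,2),(true,47),(true,43),(false,0),(false,3),(true,44),(false,5)]⟩,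
    ⟨[5,6,4,5,3,4,2,3,0,2,1,3,4,5,6,7,2,3,0,2,1,3,4,5,6,3,2,1,3,4,5,3,2,1,3,4,0,2,3,1],(1,44),[(true,48),(true,44),(false,1),(false,4),(false,3),(true,47),(false,5)]⟩,
    ⟨[7,5,6,4,5,3,4,2,3,0,2,1,3,4,5,6,7,2,3,0,2,1,3,4,5,6,3,2,1,3,4,5,3,2,1,3,4,0,2,3,1],(1,45),[(true,49),(true,45),(false,1),(true,50),(false,3),(true,46),(false,5)]⟩,
    ⟨[2,3,4,5,6,0,2,3,4,5,1,3,4,2,3,0,2,1,3,4,5,6,7,4,5,3,4,2,3,0,2,1,3,4,5,6,2,3,0,2,1,3,4,5,3,2,1,3,4,0,2,3,1],(0,46),[(true,46),(false,2),(false,1),(false,4),(false,3),(true,49),(false,5)]⟩,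
    ⟨[7,2,3,4,5,6,0,2,3,4,5,1,3,4,2,3,0,2,1,3,4,5,6,7,4,5,3,4,2,3,0,2,1,3,4,5,6,2,3,0,2,1,3,4,5,3,2,1,3,4,0,2,3,1],(0,47),[(true,47),(false,2),(false,1),(true,51),(false,3),(true,48),(false,5)]⟩,
    ⟨[6,7,5,6,4,5,3,4,2,3,0,2,1,3,4,5,6,7,2,3,0,2,1,3,4,5,6,3,2,1,3,4,5,3,2,1,3,4,0,2,3,1],(3,47),[(true,51),(false,0),(false,1),(true,47),(false,3),(false,4),(false,5)]⟩,
    ⟨[6,7,2,3,4,5,6,0,2,3,4,5,1,3,4,2,3,0,2,1,3,4,5,6,7,4,5,3,4,2,3,0,2,1,3,4,5,6,2,3,0,2,1,3,4,5,3,2,1,3,4,0,2,3,1],(3,49),[(true,50),(true,52),(false,1),(true,49),(false,3),(false,4),(false,5)]⟩,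
    ⟨[5,6,7,2,3,4,5,6,0,2,3,4,5,1,3,4,2,3,0,2,1,3,4,5,6,7,4,5,3,4,2,3,0,2,1,3,4,5,6,2,3,0,2,1,3,4,5,3,2,1,3,4,0,2,3,1],(1,51),[(false,0),(true,51),(true,53),(false,2),(false,3),(false,4),(false,5)]⟩,
    ⟨[4,5,6,7,2,3,4,5,6,0,2,3,4,5,1,3,4,2,3,0,2,1,3,4,5,6,7,4,5,3,4,2,3,0,2,1,3,4,5,6,2,3,0,2,1,3,4,5,3,2,1,3,4,0,2,3,1],(2,52),[(false,0),(false,1),(true,52),(false,2),(true,54),(false,4),(false,5)]⟩,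
    ⟨[3,4,5,6,7,2,3,4,5,6,0,2,3,4,5,1,3,4,2,3,0,2,1,3,4,5,6,7,4,5,3,4,2,3,0,2,1,3,4,5,6,2,3,0,2,1,3,4,5,3,2,1,3,4,0,2,3,1],(4,53),[(false,0),(false,1),(false,3),(false,2),(true,53),(false,4),(true,55)]⟩,
    ⟨[1,3,4,5,6,7,2,3,4,5,6,0,2,3,4,5,1,3,4,2,3,0,2,1,3,4,5,6,7,4,5,3,4,2,3,0,2,1,3,4,5,6,2,3,0,2,1,3,4,5,3,2,1,3,4,0,2,3,1],(6,54),[(false,0),(false,1),(false,3),(false,2),(false,5),(false,4),(true,54)]⟩]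

/-- A step of the chain. -/
def tStab7 : Step' where
  weight := [2,0,-1,0,0,0,0,0]
  cosets := [
    ⟨[],(0,0),[(false,0),(false,1),(false,2),(false,3),(false,4),(false,5),(false,6),(true,1)]⟩,
    ⟨[0],(7,0),[(false,0),(false,1),(false,2),(false,3),(false,4),(false,5),(false,6),(true,0)]⟩]

/-- The stabiliser. -/
def tStab : Stab where
  y := [1,0,0,0,0,0,0,0]
  gens := [⟨184,0,[2,3,4,1,3,2]⟩, ⟨123,5,[]⟩, ⟨126,4,[]⟩, ⟨121,6,[]⟩, ⟨130,3,[]⟩, ⟨120,7,[]⟩, ⟨141,1,[]⟩, ⟨162,0,[]⟩]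
  steps := [tStab0, tStab1, tStab2, tStab3, tStab4, tStab5, tStab6, tStab7]
  orbit := [
    [],
    [2],
    [2,0],
    [2,3],
    [2,0,3],
    [2,3,1],
    [2,3,4],
    [2,0,3,1],
    [2,0,3,2],
    [2,0,3,4],
    [2,3,1,4],
    [2,3,4,5],
    [2,0,3,1,2],
    [2,0,3,1,4],
    [2,0,3,2,4],
    [2,0,3,4,5],
    [2,3,1,4,3],
    [2,3,1,4,5],
    [2,3,4,5,6],
    [2,0,3,1,2,3],
    [2,0,3,1,2,4],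
    [2,0,3,1,4,3],
    [2,0,3,1,4,5],
    [2,0,3,2,4,3],
    [2,0,3,2,4,5],
    [2,0,3,4,5,6],
    [2,3,1,4,3,2],
    [2,3,1,4,3,5],
    [2,3,1,4,5,6],
    [2,3,4,5,6,7],
    [2,0,3,1,2,4,5],
    [2,0,3,1,4,3,5],
    [2,0,3,1,4,5,6],
    [2,0,3,2,4,3,5],
    [2,0,3,2,4,5,6],
    [2,0,3,4,5,6,7],
    [2,3,1,4,3,2,5],
    [2,3,1,4,3,5,4],
    [2,3,1,4,3,5,6],
    [2,3,1,4,5,6,7],
    [2,0,3,1,2,4,5,6],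
    [2,0,3,1,4,3,5,4],
    [2,0,3,1,4,3,5,6],
    [2,0,3,1,4,5,6,7],
    [2,0,3,2,4,3,5,4],
    [2,0,3,2,4,3,5,6],
    [2,0,3,2,4,5,6,7],
    [2,3,1,4,3,2,5,4],
    [2,3,1,4,3,2,5,6],
    [2,3,1,4,3,5,4,6],
    [2,3,1,4,3,5,6,7],
    [2,0,3,1,2,4,5,6,7],
    [2,0,3,1,4,3,5,4,6],
    [2,0,3,1,4,3,5,6,7],
    [2,0,3,2,4,3,5,4,6],
    [2,0,3,2,4,3,5,6,7],
    [2,3,1,4,3,2,5,4,3],
    [2,3,1,4,3,2,5,4,6],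
    [2,3,1,4,3,2,5,6,7],
    [2,3,1,4,3,5,4,6,5],
    [2,3,1,4,3,5,4,6,7],
    [2,0,3,1,4,3,5,4,6,5],
    [2,0,3,1,4,3,5,4,6,7],
    [2,0,3,2,4,3,5,4,6,5],
    [2,0,3,2,4,3,5,4,6,7],
    [2,3,1,4,3,2,5,4,3,1],
    [2,3,1,4,3,2,5,4,3,6],
    [2,3,1,4,3,2,5,4,6,5],
    [2,3,1,4,3,2,5,4,6,7],
    [2,3,1,4,3,5,4,6,5,7],
    [2,0,3,1,4,3,5,4,6,5,7],
    [2,0,3,2,4,3,5,4,6,5,7],
    [2,3,1,4,3,2,5,4,3,1,6],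
    [2,3,1,4,3,2,5,4,3,6,5],
    [2,3,1,4,3,2,5,4,3,6,7],
    [2,3,1,4,3,2,5,4,6,5,7],
    [2,3,1,4,3,5,4,6,5,7,6],
    [2,0,3,1,4,3,5,4,6,5,7,6],
    [2,0,3,2,4,3,5,4,6,5,7,6],
    [2,3,1,4,3,2,5,4,3,1,6,5],
    [2,3,1,4,3,2,5,4,3,1,6,7],
    [2,3,1,4,3,2,5,4,3,6,5,4],
    [2,3,1,4,3,2,5,4,3,6,5,7],
    [2,3,1,4,3,2,5,4,6,5,7,6],
    [2,3,1,4,3,2,5,4,3,1,6,5,4],
    [2,3,1,4,3,2,5,4,3,1,6,5,7],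
    [2,3,1,4,3,2,5,4,3,6,5,4,7],
    [2,3,1,4,3,2,5,4,3,6,5,7,6],
    [2,3,1,4,3,2,5,4,3,1,6,5,4,3],
    [2,3,1,4,3,2,5,4,3,1,6,5,4,7],
    [2,3,1,4,3,2,5,4,3,1,6,5,7,6],
    [2,3,1,4,3,2,5,4,3,6,5,4,7,6],
    [2,3,1,4,3,2,5,4,3,1,6,5,4,3,2],
    [2,3,1,4,3,2,5,4,3,1,6,5,4,3,7],
    [2,3,1,4,3,2,5,4,3,1,6,5,4,7,6],
    [2,3,1,4,3,2,5,4,3,6,5,4,7,6,5],
    [2,3,1,4,3,2,5,4,3,1,6,5,4,3,2,0],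
    [2,3,1,4,3,2,5,4,3,1,6,5,4,3,2,7],
    [2,3,1,4,3,2,5,4,3,1,6,5,4,3,7,6],
    [2,3,1,4,3,2,5,4,3,1,6,5,4,7,6,5],
    [2,3,1,4,3,2,5,4,3,1,6,5,4,3,2,0,7],
    [2,3,1,4,3,2,5,4,3,1,6,5,4,3,2,7,6],
    [2,3,1,4,3,2,5,4,3,1,6,5,4,3,7,6,5],
    [2,3,1,4,3,2,5,4,3,1,6,5,4,3,2,0,7,6],
    [2,3,1,4,3,2,5,4,3,1,6,5,4,3,2,7,6,5],
    [2,3,1,4,3,2,5,4,3,1,6,5,4,3,7,6,5,4],
    [2,3,1,4,3,2,5,4,3,1,6,5,4,3,2,0,7,6,5],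
    [2,3,1,4,3,2,5,4,3,1,6,5,4,3,2,7,6,5,4],
    [2,3,1,4,3,2,5,4,3,1,6,5,4,3,2,0,7,6,5,4],
    [2,3,1,4,3,2,5,4,3,1,6,5,4,3,2,7,6,5,4,3],
    [2,3,1,4,3,2,5,4,3,1,6,5,4,3,2,0,7,6,5,4,3],
    [2,3,1,4,3,2,5,4,3,1,6,5,4,3,2,7,6,5,4,3,1],
    [2,3,1,4,3,2,5,4,3,1,6,5,4,3,2,0,7,6,5,4,3,1],
    [2,3,1,4,3,2,5,4,3,1,6,5,4,3,2,0,7,6,5,4,3,2],
    [2,3,1,4,3,2,5,4,3,1,6,5,4,3,2,0,7,6,5,4,3,1,2],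
    [2,3,1,4,3,2,5,4,3,1,6,5,4,3,2,0,7,6,5,4,3,1,2,3],
    [2,3,1,4,3,2,5,4,3,1,6,5,4,3,2,0,7,6,5,4,3,1,2,3,4],
    [2,3,1,4,3,2,5,4,3,1,6,5,4,3,2,0,7,6,5,4,3,1,2,3,4,5],
    [2,3,1,4,3,2,5,4,3,1,6,5,4,3,2,0,7,6,5,4,3,1,2,3,4,5,6],
    [2,3,1,4,3,2,5,4,3,1,6,5,4,3,2,0,7,6,5,4,3,1,2,3,4,5,6,7]]

/-- The two classes. -/
def cls : List (Bool × List ℕ) := [
    (false,[]),
    (false,[2,0,3,1,2,3]),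
    (true,[]),
    (false,[2,0]),
    (false,[2]),
    (true,[2,0]),
    (true,[2]),
    (false,[2,0,3,2]),
    (true,[3,1]),
    (false,[2,0,3,1,2]),
    (true,[3]),
    (false,[2,0,3]),
    (false,[2,3]),
    (false,[2,0,3,1]),
    (false,[2,3,1]),
    (false,[2,0,3,2,4,3]),
    (true,[3,1,4,3]),
    (true,[3,1,4,3,2,0,5,4,3,1,2,3,4,5]),
    (false,[2,3,1,4,3,2]),
    (true,[3,1,4,3,2,0]),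
    (true,[3,1,4,3,2]),
    (false,[2,0,3,1,4,3]),
    (false,[2,3,1,4,3]),
    (false,[2,0,3,2,4]),
    (true,[3,1,4]),
    (false,[2,0,3,1,2,4]),
    (true,[3,4]),
    (false,[2,0,3,4]),
    (false,[2,3,4]),
    (false,[2,0,3,1,4]),
    (false,[2,3,1,4]),
    (false,[2,0,3,2,4,3,5,4]),
    (true,[3,1,4,3,5,4]),
    (true,[3,1,4,3,2,0,5,4,3,1,2,3]),
    (false,[2,3,1,4,3,2,5,4]),
    (true,[3,1,4,3,2,0,5,4]),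
    (true,[3,1,4,3,2,5,4]),
    (false,[2,0,3,1,4,3,5,4]),
    (false,[2,3,1,4,3,5,4]),
    (true,[3,1,4,3,2,0,5,4,3,2]),
    (false,[2,3,1,4,3,2,5,4,3,1]),
    (true,[3,1,4,3,2,0,5,4,3,1,2]),
    (false,[2,3,1,4,3,2,5,4,3]),
    (true,[3,1,4,3,2,0,5,4,3]),
    (true,[3,1,4,3,2,5,4,3]),
    (true,[3,1,4,3,2,0,5,4,3,1]),
    (true,[3,1,4,3,2,5,4,3,1]),
    (false,[2,0,3,2,4,3,5]),
    (true,[3,1,4,3,5]),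
    (true,[3,1,4,3,2,0,5,4,3,1,2,3,4]),
    (false,[2,3,1,4,3,2,5]),
    (true,[3,1,4,3,2,0,5]),
    (true,[3,1,4,3,2,5]),
    (false,[2,0,3,1,4,3,5]),
    (false,[2,3,1,4,3,5]),
    (false,[2,0,3,2,4,5]),
    (true,[3,1,4,5]),
    (false,[2,0,3,1,2,4,5]),
    (true,[3,4,5]),
    (false,[2,0,3,4,5]),
    (false,[2,3,4,5]),
    (false,[2,0,3,1,4,5]),
    (false,[2,3,1,4,5]),
    (false,[2,0,3,2,4,3,5,4,6,5]),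
    (true,[3,1,4,3,5,4,6,5]),
    (true,[3,1,4,3,2,0,5,4,3,1,2,3,6,5]),
    (false,[2,3,1,4,3,2,5,4,6,5]),
    (true,[3,1,4,3,2,0,5,4,6,5]),
    (true,[3,1,4,3,2,5,4,6,5]),
    (false,[2,0,3,1,4,3,5,4,6,5]),
    (false,[2,3,1,4,3,5,4,6,5]),
    (true,[3,1,4,3,2,0,5,4,3,2,6,5]),
    (false,[2,3,1,4,3,2,5,4,3,1,6,5]),
    (true,[3,1,4,3,2,0,5,4,3,1,2,6,5]),
    (false,[2,3,1,4,3,2,5,4,3,6,5]),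
    (true,[3,1,4,3,2,0,5,4,3,6,5]),
    (true,[3,1,4,3,2,5,4,3,6,5]),
    (true,[3,1,4,3,2,0,5,4,3,1,6,5]),
    (true,[3,1,4,3,2,5,4,3,1,6,5]),
    (true,[3,1,4,3,2,0,5,4,3,2,6,5,4,3]),
    (false,[2,3,1,4,3,2,5,4,3,1,6,5,4,3]),
    (false,[2,3,1,4,3,2,5,4,3,1,6,5,4,3,2,0,7,6,5,4,3,1,2,3,4,5,6,7]),
    (true,[3,1,4,3,2,5,4,3,1,6,5,4,3,2]),
    (false,[2,3,1,4,3,2,5,4,3,1,6,5,4,3,2,0]),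
    (false,[2,3,1,4,3,2,5,4,3,1,6,5,4,3,2]),
    (true,[3,1,4,3,2,0,5,4,3,1,6,5,4,3]),
    (true,[3,1,4,3,2,5,4,3,1,6,5,4,3]),
    (true,[3,1,4,3,2,0,5,4,3,2,6,5,4]),
    (false,[2,3,1,4,3,2,5,4,3,1,6,5,4]),
    (true,[3,1,4,3,2,0,5,4,3,1,2,6,5,4]),
    (false,[2,3,1,4,3,2,5,4,3,6,5,4]),
    (true,[3,1,4,3,2,0,5,4,3,6,5,4]),
    (true,[3,1,4,3,2,5,4,3,6,5,4]),
    (true,[3,1,4,3,2,0,5,4,3,1,6,5,4]),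
    (true,[3,1,4,3,2,5,4,3,1,6,5,4]),
    (false,[2,0,3,2,4,3,5,4,6]),
    (true,[3,1,4,3,5,4,6]),
    (true,[3,1,4,3,2,0,5,4,3,1,2,3,6]),
    (false,[2,3,1,4,3,2,5,4,6]),
    (true,[3,1,4,3,2,0,5,4,6]),
    (true,[3,1,4,3,2,5,4,6]),
    (false,[2,0,3,1,4,3,5,4,6]),
    (false,[2,3,1,4,3,5,4,6]),
    (true,[3,1,4,3,2,0,5,4,3,2,6]),
    (false,[2,3,1,4,3,2,5,4,3,1,6]),
    (true,[3,1,4,3,2,0,5,4,3,1,2,6]),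
    (false,[2,3,1,4,3,2,5,4,3,6]),
    (true,[3,1,4,3,2,0,5,4,3,6]),
    (true,[3,1,4,3,2,5,4,3,6]),
    (true,[3,1,4,3,2,0,5,4,3,1,6]),
    (true,[3,1,4,3,2,5,4,3,1,6]),
    (false,[2,0,3,2,4,3,5,6]),
    (true,[3,1,4,3,5,6]),
    (true,[3,1,4,3,2,0,5,4,3,1,2,3,4,6]),
    (false,[2,3,1,4,3,2,5,6]),
    (true,[3,1,4,3,2,0,5,6]),
    (true,[3,1,4,3,2,5,6]),
    (false,[2,0,3,1,4,3,5,6]),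
    (false,[2,3,1,4,3,5,6]),
    (false,[2,0,3,2,4,5,6]),
    (true,[3,1,4,5,6]),
    (false,[2,0,3,1,2,4,5,6]),
    (true,[3,4,5,6]),
    (false,[2,0,3,4,5,6]),
    (false,[2,3,4,5,6]),
    (false,[2,0,3,1,4,5,6]),
    (false,[2,3,1,4,5,6]),
    (false,[2,0,3,2,4,3,5,4,6,5,7,6]),
    (true,[3,1,4,3,5,4,6,5,7,6]),
    (true,[3,1,4,3,2,0,5,4,3,1,2,3,6,5,7,6]),
    (false,[2,3,1,4,3,2,5,4,6,5,7,6]),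
    (true,[3,1,4,3,2,0,5,4,6,5,7,6]),
    (true,[3,1,4,3,2,5,4,6,5,7,6]),
    (false,[2,0,3,1,4,3,5,4,6,5,7,6]),
    (false,[2,3,1,4,3,5,4,6,5,7,6]),
    (true,[3,1,4,3,2,0,5,4,3,2,6,5,7,6]),
    (false,[2,3,1,4,3,2,5,4,3,1,6,5,7,6]),
    (true,[3,1,4,3,2,0,5,4,3,1,2,6,5,7,6]),
    (false,[2,3,1,4,3,2,5,4,3,6,5,7,6]),
    (true,[3,1,4,3,2,0,5,4,3,6,5,7,6]),
    (true,[3,1,4,3,2,5,4,3,6,5,7,6]),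
    (true,[3,1,4,3,2,0,5,4,3,1,6,5,7,6]),
    (true,[3,1,4,3,2,5,4,3,1,6,5,7,6]),
    (true,[3,1,4,3,2,0,5,4,3,2,6,5,4,3,7,6]),
    (false,[2,3,1,4,3,2,5,4,3,1,6,5,4,3,7,6]),
    (false,[2,3,1,4,3,2,5,4,3,1,6,5,4,3,2,0,7,6,5,4,3,1,2,3,4,5]),
    (true,[3,1,4,3,2,5,4,3,1,6,5,4,3,2,7,6]),
    (false,[2,3,1,4,3,2,5,4,3,1,6,5,4,3,2,0,7,6]),
    (false,[2,3,1,4,3,2,5,4,3,1,6,5,4,3,2,7,6]),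
    (true,[3,1,4,3,2,0,5,4,3,1,6,5,4,3,7,6]),
    (true,[3,1,4,3,2,5,4,3,1,6,5,4,3,7,6]),
    (true,[3,1,4,3,2,0,5,4,3,2,6,5,4,7,6]),
    (false,[2,3,1,4,3,2,5,4,3,1,6,5,4,7,6]),
    (true,[3,1,4,3,2,0,5,4,3,1,2,6,5,4,7,6]),
    (false,[2,3,1,4,3,2,5,4,3,6,5,4,7,6]),
    (true,[3,1,4,3,2,0,5,4,3,6,5,4,7,6]),
    (true,[3,1,4,3,2,5,4,3,6,5,4,7,6]),
    (true,[3,1,4,3,2,0,5,4,3,1,6,5,4,7,6]),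
    (true,[3,1,4,3,2,5,4,3,1,6,5,4,7,6]),
    (true,[3,1,4,3,2,0,5,4,3,2,6,5,4,3,7,6,5,4]),
    (false,[2,3,1,4,3,2,5,4,3,1,6,5,4,3,7,6,5,4]),
    (false,[2,3,1,4,3,2,5,4,3,1,6,5,4,3,2,0,7,6,5,4,3,1,2,3]),
    (true,[3,1,4,3,2,5,4,3,1,6,5,4,3,2,7,6,5,4]),
    (false,[2,3,1,4,3,2,5,4,3,1,6,5,4,3,2,0,7,6,5,4]),
    (false,[2,3,1,4,3,2,5,4,3,1,6,5,4,3,2,7,6,5,4]),
    (true,[3,1,4,3,2,0,5,4,3,1,6,5,4,3,7,6,5,4]),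
    (true,[3,1,4,3,2,5,4,3,1,6,5,4,3,7,6,5,4]),
    (false,[2,3,1,4,3,2,5,4,3,1,6,5,4,3,2,0,7,6,5,4,3,2]),
    (true,[3,1,4,3,2,5,4,3,1,6,5,4,3,2,7,6,5,4,3,1]),
    (false,[2,3,1,4,3,2,5,4,3,1,6,5,4,3,2,0,7,6,5,4,3,1,2]),
    (true,[3,1,4,3,2,5,4,3,1,6,5,4,3,2,7,6,5,4,3]),
    (false,[2,3,1,4,3,2,5,4,3,1,6,5,4,3,2,0,7,6,5,4,3]),
    (false,[2,3,1,4,3,2,5,4,3,1,6,5,4,3,2,7,6,5,4,3]),
    (false,[2,3,1,4,3,2,5,4,3,1,6,5,4,3,2,0,7,6,5,4,3,1]),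
    (false,[2,3,1,4,3,2,5,4,3,1,6,5,4,3,2,7,6,5,4,3,1]),
    (true,[3,1,4,3,2,0,5,4,3,2,6,5,4,3,7,6,5]),
    (false,[2,3,1,4,3,2,5,4,3,1,6,5,4,3,7,6,5]),
    (false,[2,3,1,4,3,2,5,4,3,1,6,5,4,3,2,0,7,6,5,4,3,1,2,3,4]),
    (true,[3,1,4,3,2,5,4,3,1,6,5,4,3,2,7,6,5]),
    (false,[2,3,1,4,3,2,5,4,3,1,6,5,4,3,2,0,7,6,5]),
    (false,[2,3,1,4,3,2,5,4,3,1,6,5,4,3,2,7,6,5]),
    (true,[3,1,4,3,2,0,5,4,3,1,6,5,4,3,7,6,5]),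
    (true,[3,1,4,3,2,5,4,3,1,6,5,4,3,7,6,5]),
    (true,[3,1,4,3,2,0,5,4,3,2,6,5,4,7,6,5]),
    (false,[2,3,1,4,3,2,5,4,3,1,6,5,4,7,6,5]),
    (true,[3,1,4,3,2,0,5,4,3,1,2,6,5,4,7,6,5]),
    (false,[2,3,1,4,3,2,5,4,3,6,5,4,7,6,5]),
    (true,[3,1,4,3,2,0,5,4,3,6,5,4,7,6,5]),
    (true,[3,1,4,3,2,5,4,3,6,5,4,7,6,5]),
    (true,[3,1,4,3,2,0,5,4,3,1,6,5,4,7,6,5]),
    (true,[3,1,4,3,2,5,4,3,1,6,5,4,7,6,5]),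
    (false,[2,0,3,2,4,3,5,4,6,5,7]),
    (true,[3,1,4,3,5,4,6,5,7]),
    (true,[3,1,4,3,2,0,5,4,3,1,2,3,6,5,7]),
    (false,[2,3,1,4,3,2,5,4,6,5,7]),
    (true,[3,1,4,3,2,0,5,4,6,5,7]),
    (true,[3,1,4,3,2,5,4,6,5,7]),
    (false,[2,0,3,1,4,3,5,4,6,5,7]),
    (false,[2,3,1,4,3,5,4,6,5,7]),
    (true,[3,1,4,3,2,0,5,4,3,2,6,5,7]),
    (false,[2,3,1,4,3,2,5,4,3,1,6,5,7]),
    (true,[3,1,4,3,2,0,5,4,3,1,2,6,5,7]),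
    (false,[2,3,1,4,3,2,5,4,3,6,5,7]),
    (true,[3,1,4,3,2,0,5,4,3,6,5,7]),
    (true,[3,1,4,3,2,5,4,3,6,5,7]),
    (true,[3,1,4,3,2,0,5,4,3,1,6,5,7]),
    (true,[3,1,4,3,2,5,4,3,1,6,5,7]),
    (true,[3,1,4,3,2,0,5,4,3,2,6,5,4,3,7]),
    (false,[2,3,1,4,3,2,5,4,3,1,6,5,4,3,7]),
    (false,[2,3,1,4,3,2,5,4,3,1,6,5,4,3,2,0,7,6,5,4,3,1,2,3,4,5,6]),
    (true,[3,1,4,3,2,5,4,3,1,6,5,4,3,2,7]),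
    (false,[2,3,1,4,3,2,5,4,3,1,6,5,4,3,2,0,7]),
    (false,[2,3,1,4,3,2,5,4,3,1,6,5,4,3,2,7]),
    (true,[3,1,4,3,2,0,5,4,3,1,6,5,4,3,7]),
    (true,[3,1,4,3,2,5,4,3,1,6,5,4,3,7]),
    (true,[3,1,4,3,2,0,5,4,3,2,6,5,4,7]),
    (false,[2,3,1,4,3,2,5,4,3,1,6,5,4,7]),
    (true,[3,1,4,3,2,0,5,4,3,1,2,6,5,4,7]),
    (false,[2,3,1,4,3,2,5,4,3,6,5,4,7]),
    (true,[3,1,4,3,2,0,5,4,3,6,5,4,7]),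
    (true,[3,1,4,3,2,5,4,3,6,5,4,7]),
    (true,[3,1,4,3,2,0,5,4,3,1,6,5,4,7]),
    (true,[3,1,4,3,2,5,4,3,1,6,5,4,7]),
    (false,[2,0,3,2,4,3,5,4,6,7]),
    (true,[3,1,4,3,5,4,6,7]),
    (true,[3,1,4,3,2,0,5,4,3,1,2,3,6,7]),
    (false,[2,3,1,4,3,2,5,4,6,7]),
    (true,[3,1,4,3,2,0,5,4,6,7]),
    (true,[3,1,4,3,2,5,4,6,7]),
    (false,[2,0,3,1,4,3,5,4,6,7]),
    (false,[2,3,1,4,3,5,4,6,7]),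
    (true,[3,1,4,3,2,0,5,4,3,2,6,7]),
    (false,[2,3,1,4,3,2,5,4,3,1,6,7]),
    (true,[3,1,4,3,2,0,5,4,3,1,2,6,7]),
    (false,[2,3,1,4,3,2,5,4,3,6,7]),
    (true,[3,1,4,3,2,0,5,4,3,6,7]),
    (true,[3,1,4,3,2,5,4,3,6,7]),
    (true,[3,1,4,3,2,0,5,4,3,1,6,7]),
    (true,[3,1,4,3,2,5,4,3,1,6,7]),
    (false,[2,0,3,2,4,3,5,6,7]),
    (true,[3,1,4,3,5,6,7]),
    (true,[3,1,4,3,2,0,5,4,3,1,2,3,4,6,7]),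
    (false,[2,3,1,4,3,2,5,6,7]),
    (true,[3,1,4,3,2,0,5,6,7]),
    (true,[3,1,4,3,2,5,6,7]),
    (false,[2,0,3,1,4,3,5,6,7]),
    (false,[2,3,1,4,3,5,6,7]),
    (false,[2,0,3,2,4,5,6,7]),
    (true,[3,1,4,5,6,7]),
    (false,[2,0,3,1,2,4,5,6,7]),
    (true,[3,4,5,6,7]),
    (false,[2,0,3,4,5,6,7]),
    (false,[2,3,4,5,6,7]),
    (false,[2,0,3,1,4,5,6,7]),
    (false,[2,3,1,4,5,6,7])]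

end CfsgLib.Chev.OddInvol.E8
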