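import Cfsg.Agent.Lib.Known.OddInvol.E8
import Cfsg.Agent.Lib.Known.OddInvol.E8Stab

/-! The certificates of the two classes for `E8`. -/

set_option autoImplicit false
set_option maxRecDepth 100000

namespace CfsgLib.Chev.OddInvol.E8

open Cfsg.Lie CfsgLib.Chev.Table

theorem sStab_ok : stabT DataE8.tab sStab = true := by decide +kernel

theorem tStab_ok : stabT DataE8.tab tStab = true := by decide +kernel

theorem cls_ok : classT DataE8.tab sStab.y tStab.y cls = true := by decide +kernel

theorem sPoly_ok : polyT DataE8.tab sStab 696729600 [2, 4, 6, 8, 10, 12, 14, 8] = true := by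
  decide +kernel

theorem tPoly_ok : polyT DataE8.tab tStab 696729600 [2, 2, 6, 8, 10, 12, 14, 18] = true := by
  decide +kernel

theorem nontriv : (List.range DataE8.tab.rank).any
    (fun q => !parT DataE8.tab sStab.y (DataE8.tab.smp q)) = true ∧
    (List.range DataE8.tab.rank).any
      (fun q => !parT DataE8.tab tStab.y (DataE8.tab.smp q)) = true := by decide +kernel

theorem pos_eq : posC DataE8.tab sStab.y = 56 ∧ posC DataE8.tab tStab.y = 64 := by decide +kernel

end CfsgLib.Chev.OddInvol.E8
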