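import Cfsg.Agent.Lib.Known.OddInvol.Check

/-! Generated certificate for the involution classes of the Weyl group of E8. -/

set_option autoImplicit false
set_option maxRecDepth 100000

namespace CfsgLib.Chev.OddInvol.E8

/-- Representative 0. -/
def rep0 : Rep where
  word := []
  roots := []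
  step := .base
  exts := [
    ⟨⟨120,7,[]⟩,1,[]⟩,
    ⟨⟨121,6,[]⟩,1,[6,7]⟩,
    ⟨⟨122,6,[7]⟩,1,[6]⟩,
    ⟨⟨123,5,[]⟩,1,[6,5,7,6]⟩,
    ⟨⟨124,5,[6]⟩,1,[6,5,7]⟩,
    ⟨⟨125,5,[7,6]⟩,1,[6,5]⟩,
    ⟨⟨126,4,[]⟩,1,[6,5,4,7,6,5]⟩,
    ⟨⟨127,4,[5]⟩,1,[6,5,4,7,6]⟩,
    ⟨⟨128,4,[6,5]⟩,1,[6,5,4,7]⟩,
    ⟨⟨129,4,[7,6,5]⟩,1,[6,5,4]⟩,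
    ⟨⟨130,3,[]⟩,1,[6,5,4,3,7,6,5,4]⟩,
    ⟨⟨131,3,[4]⟩,1,[6,5,4,3,7,6,5]⟩,
    ⟨⟨132,3,[5,4]⟩,1,[6,5,4,3,7,6]⟩,
    ⟨⟨133,3,[6,5,4]⟩,1,[6,5,4,3,7]⟩,
    ⟨⟨134,3,[7,6,5,4]⟩,1,[6,5,4,3]⟩,
    ⟨⟨135,2,[]⟩,1,[6,5,4,3,2,7,6,5,4,3]⟩,
    ⟨⟨136,2,[3]⟩,1,[6,5,4,3,2,7,6,5,4]⟩,
    ⟨⟨137,2,[4,3]⟩,1,[6,5,4,3,2,7,6,5]⟩,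
    ⟨⟨138,2,[5,4,3]⟩,1,[6,5,4,3,2,7,6]⟩,
    ⟨⟨139,2,[6,5,4,3]⟩,1,[6,5,4,3,2,7]⟩,
    ⟨⟨140,2,[7,6,5,4,3]⟩,1,[6,5,4,3,2]⟩,
    ⟨⟨141,1,[]⟩,1,[6,5,4,3,1,7,6,5,4,3]⟩,
    ⟨⟨142,1,[3]⟩,1,[6,5,4,3,1,7,6,5,4]⟩,
    ⟨⟨143,1,[4,3]⟩,1,[6,5,4,3,1,7,6,5]⟩,
    ⟨⟨144,1,[5,4,3]⟩,1,[6,5,4,3,1,7,6]⟩,
    ⟨⟨145,1,[6,5,4,3]⟩,1,[6,5,4,3,1,7]⟩,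
    ⟨⟨146,1,[7,6,5,4,3]⟩,1,[6,5,4,3,1]⟩,
    ⟨⟨147,1,[2,3]⟩,1,[6,5,4,3,1,2,7,6,5,4]⟩,
    ⟨⟨148,1,[4,2,3]⟩,1,[6,5,4,3,1,2,7,6,5]⟩,
    ⟨⟨149,1,[5,4,2,3]⟩,1,[6,5,4,3,1,2,7,6]⟩,
    ⟨⟨150,1,[6,5,4,2,3]⟩,1,[6,5,4,3,1,2,7]⟩,
    ⟨⟨151,1,[7,6,5,4,2,3]⟩,1,[6,5,4,3,1,2]⟩,
    ⟨⟨152,1,[3,4,2,3]⟩,1,[6,5,4,3,1,2,3,7,6,5]⟩,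
    ⟨⟨153,1,[5,3,4,2,3]⟩,1,[6,5,4,3,1,2,3,7,6]⟩,
    ⟨⟨154,1,[6,5,3,4,2,3]⟩,1,[6,5,4,3,1,2,3,7]⟩,
    ⟨⟨155,1,[7,6,5,3,4,2,3]⟩,1,[6,5,4,3,1,2,3]⟩,
    ⟨⟨156,1,[4,5,3,4,2,3]⟩,1,[6,5,4,3,1,2,3,4,7,6]⟩,
    ⟨⟨157,1,[6,4,5,3,4,2,3]⟩,1,[6,5,4,3,1,2,3,4,7]⟩,
    ⟨⟨158,1,[7,6,4,5,3,4,2,3]⟩,1,[6,5,4,3,1,2,3,4]⟩,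
    ⟨⟨159,1,[5,6,4,5,3,4,2,3]⟩,1,[6,5,4,3,1,2,3,4,5,7]⟩,
    ⟨⟨160,1,[7,5,6,4,5,3,4,2,3]⟩,1,[6,5,4,3,1,2,3,4,5]⟩,
    ⟨⟨161,1,[6,7,5,6,4,5,3,4,2,3]⟩,1,[6,5,4,3,1,2,3,4,5,6]⟩,
    ⟨⟨162,0,[]⟩,1,[6,5,4,3,2,0,7,6,5,4,3,2]⟩,
    ⟨⟨163,0,[2]⟩,1,[6,5,4,3,2,0,7,6,5,4,3]⟩,
    ⟨⟨164,0,[3,2]⟩,1,[6,5,4,3,2,0,7,6,5,4]⟩,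
    ⟨⟨165,0,[4,3,2]⟩,1,[6,5,4,3,2,0,7,6,5]⟩,
    ⟨⟨166,0,[5,4,3,2]⟩,1,[6,5,4,3,2,0,7,6]⟩,
    ⟨⟨167,0,[6,5,4,3,2]⟩,1,[6,5,4,3,2,0,7]⟩,
    ⟨⟨168,0,[7,6,5,4,3,2]⟩,1,[6,5,4,3,2,0]⟩,
    ⟨⟨169,0,[1,3,2]⟩,1,[6,5,4,3,1,2,0,7,6,5,4]⟩,
    ⟨⟨170,0,[4,1,3,2]⟩,1,[6,5,4,3,1,2,0,7,6,5]⟩,
    ⟨⟨171,0,[5,4,1,3,2]⟩,1,[6,5,4,3,1,2,0,7,6]⟩,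
    ⟨⟨172,0,[6,5,4,1,3,2]⟩,1,[6,5,4,3,1,2,0,7]⟩,
    ⟨⟨173,0,[7,6,5,4,1,3,2]⟩,1,[6,5,4,3,1,2,0]⟩,
    ⟨⟨174,0,[3,4,1,3,2]⟩,1,[6,5,4,3,1,2,0,3,7,6,5]⟩,
    ⟨⟨175,0,[5,3,4,1,3,2]⟩,1,[6,5,4,3,1,2,0,3,7,6]⟩,
    ⟨⟨176,0,[6,5,3,4,1,3,2]⟩,1,[6,5,4,3,1,2,0,3,7]⟩,
    ⟨⟨177,0,[7,6,5,3,4,1,3,2]⟩,1,[6,5,4,3,1,2,0,3]⟩,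
    ⟨⟨178,0,[4,5,3,4,1,3,2]⟩,1,[6,5,4,3,1,2,0,3,4,7,6]⟩,
    ⟨⟨179,0,[6,4,5,3,4,1,3,2]⟩,1,[6,5,4,3,1,2,0,3,4,7]⟩,
    ⟨⟨180,0,[7,6,4,5,3,4,1,3,2]⟩,1,[6,5,4,3,1,2,0,3,4]⟩,
    ⟨⟨181,0,[5,6,4,5,3,4,1,3,2]⟩,1,[6,5,4,3,1,2,0,3,4,5,7]⟩,
    ⟨⟨182,0,[7,5,6,4,5,3,4,1,3,2]⟩,1,[6,5,4,3,1,2,0,3,4,5]⟩,
    ⟨⟨183,0,[6,7,5,6,4,5,3,4,1,3,2]⟩,1,[6,5,4,3,1,2,0,3,4,5,6]⟩,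
    ⟨⟨184,0,[2,3,4,1,3,2]⟩,1,[6,5,4,3,1,2,0,3,2,7,6,5]⟩,
    ⟨⟨185,0,[5,2,3,4,1,3,2]⟩,1,[6,5,4,3,1,2,0,3,2,7,6]⟩,
    ⟨⟨186,0,[6,5,2,3,4,1,3,2]⟩,1,[6,5,4,3,1,2,0,3,2,7]⟩,
    ⟨⟨187,0,[7,6,5,2,3,4,1,3,2]⟩,1,[6,5,4,3,1,2,0,3,2]⟩,
    ⟨⟨188,0,[4,5,2,3,4,1,3,2]⟩,1,[6,5,4,3,1,2,0,3,2,4,7,6]⟩,
    ⟨⟨189,0,[6,4,5,2,3,4,1,3,2]⟩,1,[6,5,4,3,1,2,0,3,2,4,7]⟩,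
    ⟨⟨190,0,[7,6,4,5,2,3,4,1,3,2]⟩,1,[6,5,4,3,1,2,0,3,2,4]⟩,
    ⟨⟨191,0,[5,6,4,5,2,3,4,1,3,2]⟩,1,[6,5,4,3,1,2,0,3,2,4,5,7]⟩,
    ⟨⟨192,0,[7,5,6,4,5,2,3,4,1,3,2]⟩,1,[6,5,4,3,1,2,0,3,2,4,5]⟩,
    ⟨⟨193,0,[6,7,5,6,4,5,2,3,4,1,3,2]⟩,1,[6,5,4,3,1,2,0,3,2,4,5,6]⟩,
    ⟨⟨194,0,[3,4,5,2,3,4,1,3,2]⟩,1,[6,5,4,3,1,2,0,3,2,4,3,7,6]⟩,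
    ⟨⟨195,0,[6,3,4,5,2,3,4,1,3,2]⟩,1,[6,5,4,3,1,2,0,3,2,4,3,7]⟩,
    ⟨⟨196,0,[7,6,3,4,5,2,3,4,1,3,2]⟩,1,[6,5,4,3,1,2,0,3,2,4,3]⟩,
    ⟨⟨197,0,[5,6,3,4,5,2,3,4,1,3,2]⟩,1,[6,5,4,3,1,2,0,3,2,4,3,5,7]⟩,
    ⟨⟨198,0,[7,5,6,3,4,5,2,3,4,1,3,2]⟩,1,[6,5,4,3,1,2,0,3,2,4,3,5]⟩,
    ⟨⟨199,0,[6,7,5,6,3,4,5,2,3,4,1,3,2]⟩,1,[6,5,4,3,1,2,0,3,2,4,3,5,6]⟩,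
    ⟨⟨200,0,[4,5,6,3,4,5,2,3,4,1,3,2]⟩,1,[6,5,4,3,1,2,0,3,2,4,3,5,4,7]⟩,
    ⟨⟨201,0,[7,4,5,6,3,4,5,2,3,4,1,3,2]⟩,1,[6,5,4,3,1,2,0,3,2,4,3,5,4]⟩,
    ⟨⟨202,0,[6,7,4,5,6,3,4,5,2,3,4,1,3,2]⟩,1,[6,5,4,3,1,2,0,3,2,4,3,5,4,6]⟩,
    ⟨⟨203,0,[5,6,7,4,5,6,3,4,5,2,3,4,1,3,2]⟩,1,[6,5,4,3,1,2,0,3,2,4,3,5,4,6,5]⟩,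
    ⟨⟨204,0,[1,3,4,5,2,3,4,1,3,2]⟩,1,[6,5,4,3,1,2,0,3,2,4,3,1,7,6]⟩,
    ⟨⟨205,0,[6,1,3,4,5,2,3,4,1,3,2]⟩,1,[6,5,4,3,1,2,0,3,2,4,3,1,7]⟩,
    ⟨⟨206,0,[7,6,1,3,4,5,2,3,4,1,3,2]⟩,1,[6,5,4,3,1,2,0,3,2,4,3,1]⟩,
    ⟨⟨207,0,[5,6,1,3,4,5,2,3,4,1,3,2]⟩,1,[6,5,4,3,1,2,0,3,2,4,3,1,5,7]⟩,
    ⟨⟨208,0,[7,5,6,1,3,4,5,2,3,4,1,3,2]⟩,1,[6,5,4,3,1,2,0,3,2,4,3,1,5]⟩,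
    ⟨⟨209,0,[6,7,5,6,1,3,4,5,2,3,4,1,3,2]⟩,1,[6,5,4,3,1,2,0,3,2,4,3,1,5,6]⟩,
    ⟨⟨210,0,[4,5,6,1,3,4,5,2,3,4,1,3,2]⟩,1,[6,5,4,3,1,2,0,3,2,4,3,1,5,4,7]⟩,
    ⟨⟨211,0,[7,4,5,6,1,3,4,5,2,3,4,1,3,2]⟩,1,[6,5,4,3,1,2,0,3,2,4,3,1,5,4]⟩,
    ⟨⟨212,0,[6,7,4,5,6,1,3,4,5,2,3,4,1,3,2]⟩,1,[6,5,4,3,1,2,0,3,2,4,3,1,5,4,6]⟩,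
    ⟨⟨213,0,[5,6,7,4,5,6,1,3,4,5,2,3,4,1,3,2]⟩,1,[6,5,4,3,1,2,0,3,2,4,3,1,5,4,6,5]⟩,
    ⟨⟨214,0,[3,4,5,6,1,3,4,5,2,3,4,1,3,2]⟩,1,[6,5,4,3,1,2,0,3,2,4,3,1,5,4,3,7]⟩,
    ⟨⟨215,0,[7,3,4,5,6,1,3,4,5,2,3,4,1,3,2]⟩,1,[6,5,4,3,1,2,0,3,2,4,3,1,5,4,3]⟩,
    ⟨⟨216,0,[6,7,3,4,5,6,1,3,4,5,2,3,4,1,3,2]⟩,1,[6,5,4,3,1,2,0,3,2,4,3,1,5,4,3,6]⟩,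
    ⟨⟨217,0,[5,6,7,3,4,5,6,1,3,4,5,2,3,4,1,3,2]⟩,1,[6,5,4,3,1,2,0,3,2,4,3,1,5,4,3,6,5]⟩,
    ⟨⟨218,0,[4,5,6,7,3,4,5,6,1,3,4,5,2,3,4,1,3,2]⟩,1,[6,5,4,3,1,2,0,3,2,4,3,1,5,4,3,6,5,4]⟩,
    ⟨⟨219,0,[2,3,4,5,6,1,3,4,5,2,3,4,1,3,2]⟩,1,[6,5,4,3,1,2,0,3,2,4,3,1,5,4,3,2,7]⟩,
    ⟨⟨220,0,[7,2,3,4,5,6,1,3,4,5,2,3,4,1,3,2]⟩,1,[6,5,4,3,1,2,0,3,2,4,3,1,5,4,3,2]⟩,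
    ⟨⟨221,0,[6,7,2,3,4,5,6,1,3,4,5,2,3,4,1,3,2]⟩,1,[6,5,4,3,1,2,0,3,2,4,3,1,5,4,3,2,6]⟩,
    ⟨⟨222,0,[5,6,7,2,3,4,5,6,1,3,4,5,2,3,4,1,3,2]⟩,1,[6,5,4,3,1,2,0,3,2,4,3,1,5,4,3,2,6,5]⟩,
    ⟨⟨223,0,[4,5,6,7,2,3,4,5,6,1,3,4,5,2,3,4,1,3,2]⟩,1,[6,5,4,3,1,2,0,3,2,4,3,1,5,4,3,2,6,5,4]⟩,
    ⟨⟨224,0,[3,4,5,6,7,2,3,4,5,6,1,3,4,5,2,3,4,1,3,2]⟩,1,[6,5,4,3,1,2,0,3,2,4,3,1,5,4,3,2,6,5,4,3]⟩,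
    ⟨⟨225,0,[1,3,4,5,6,7,2,3,4,5,6,1,3,4,5,2,3,4,1,3,2]⟩,1,[6,5,4,3,1,2,0,3,2,4,3,1,5,4,3,2,6,5,4,3,1]⟩,
    ⟨⟨226,0,[0,2,3,4,5,6,1,3,4,5,2,3,4,1,3,2]⟩,1,[6,5,4,3,1,2,0,3,2,4,3,1,5,4,3,2,0,7]⟩,
    ⟨⟨227,0,[7,0,2,3,4,5,6,1,3,4,5,2,3,4,1,3,2]⟩,1,[6,5,4,3,1,2,0,3,2,4,3,1,5,4,3,2,0]⟩,
    ⟨⟨228,0,[6,7,0,2,3,4,5,6,1,3,4,5,2,3,4,1,3,2]⟩,1,[6,5,4,3,1,2,0,3,2,4,3,1,5,4,3,2,0,6]⟩,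
    ⟨⟨229,0,[5,6,7,0,2,3,4,5,6,1,3,4,5,2,3,4,1,3,2]⟩,1,[6,5,4,3,1,2,0,3,2,4,3,1,5,4,3,2,0,6,5]⟩,
    ⟨⟨230,0,[4,5,6,7,0,2,3,4,5,6,1,3,4,5,2,3,4,1,3,2]⟩,1,[6,5,4,3,1,2,0,3,2,4,3,1,5,4,3,2,0,6,5,4]⟩,
    ⟨⟨231,0,[3,4,5,6,7,0,2,3,4,5,6,1,3,4,5,2,3,4,1,3,2]⟩,1,[6,5,4,3,1,2,0,3,2,4,3,1,5,4,3,2,0,6,5,4,3]⟩,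
    ⟨⟨232,0,[2,3,4,5,6,7,0,2,3,4,5,6,1,3,4,5,2,3,4,1,3,2]⟩,1,[6,5,4,3,1,2,0,3,2,4,3,1,5,4,3,2,0,6,5,4,3,2]⟩,
    ⟨⟨233,0,[1,3,4,5,6,7,0,2,3,4,5,6,1,3,4,5,2,3,4,1,3,2]⟩,1,[6,5,4,3,1,2,0,3,2,4,3,1,5,4,3,2,0,6,5,4,3,1]⟩,
    ⟨⟨234,0,[2,1,3,4,5,6,7,0,2,3,4,5,6,1,3,4,5,2,3,4,1,3,2]⟩,1,[6,5,4,3,1,2,0,3,2,4,3,1,5,4,3,2,0,6,5,4,3,1,2]⟩,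
    ⟨⟨235,0,[3,2,1,3,4,5,6,7,0,2,3,4,5,6,1,3,4,5,2,3,4,1,3,2]⟩,1,[6,5,4,3,1,2,0,3,2,4,3,1,5,4,3,2,0,6,5,4,3,1,2,3]⟩,
    ⟨⟨236,0,[4,3,2,1,3,4,5,6,7,0,2,3,4,5,6,1,3,4,5,2,3,4,1,3,2]⟩,1,[6,5,4,3,1,2,0,3,2,4,3,1,5,4,3,2,0,6,5,4,3,1,2,3,4]⟩,
    ⟨⟨237,0,[5,4,3,2,1,3,4,5,6,7,0,2,3,4,5,6,1,3,4,5,2,3,4,1,3,2]⟩,1,[6,5,4,3,1,2,0,3,2,4,3,1,5,4,3,2,0,6,5,4,3,1,2,3,4,5]⟩,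
    ⟨⟨238,0,[6,5,4,3,2,1,3,4,5,6,7,0,2,3,4,5,6,1,3,4,5,2,3,4,1,3,2]⟩,1,[6,5,4,3,1,2,0,3,2,4,3,1,5,4,3,2,0,6,5,4,3,1,2,3,4,5,6]⟩,
    ⟨⟨239,0,[7,6,5,4,3,2,1,3,4,5,6,7,0,2,3,4,5,6,1,3,4,5,2,3,4,1,3,2]⟩,1,[6,5,4,3,1,2,0,3,2,4,3,1,5,4,3,2,0,6,5,4,3,1,2,3,4,5,6,7]⟩]

/-- Representative 1. -/
def rep1 : Rep where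
  word := [7]
  roots := [⟨120,7,[]⟩]
  step := .odd 0 0 1 ⟨⟨120,7,[]⟩,0,[]⟩
  exts := [
    ⟨⟨123,5,[]⟩,2,[]⟩,
    ⟨⟨126,4,[]⟩,2,[4,5]⟩,
    ⟨⟨127,4,[5]⟩,2,[4]⟩,
    ⟨⟨130,3,[]⟩,2,[4,3,5,4]⟩,
    ⟨⟨131,3,[4]⟩,2,[4,3,5]⟩,
    ⟨⟨132,3,[5,4]⟩,2,[4,3]⟩,
    ⟨⟨135,2,[]⟩,2,[4,3,2,5,4,3]⟩,
    ⟨⟨136,2,[3]⟩,2,[4,3,2,5,4]⟩,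
    ⟨⟨137,2,[4,3]⟩,2,[4,3,2,5]⟩,
    ⟨⟨138,2,[5,4,3]⟩,2,[4,3,2]⟩,
    ⟨⟨141,1,[]⟩,2,[4,3,1,5,4,3]⟩,
    ⟨⟨142,1,[3]⟩,2,[4,3,1,5,4]⟩,
    ⟨⟨143,1,[4,3]⟩,2,[4,3,1,5]⟩,
    ⟨⟨144,1,[5,4,3]⟩,2,[4,3,1]⟩,
    ⟨⟨147,1,[2,3]⟩,2,[4,3,1,2,5,4]⟩,
    ⟨⟨148,1,[4,2,3]⟩,2,[4,3,1,2,5]⟩,
    ⟨⟨149,1,[5,4,2,3]⟩,2,[4,3,1,2]⟩,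
    ⟨⟨152,1,[3,4,2,3]⟩,2,[4,3,1,2,3,5]⟩,
    ⟨⟨153,1,[5,3,4,2,3]⟩,2,[4,3,1,2,3]⟩,
    ⟨⟨156,1,[4,5,3,4,2,3]⟩,2,[4,3,1,2,3,4]⟩,
    ⟨⟨161,1,[6,7,5,6,4,5,3,4,2,3]⟩,2,[4,3,2,0,5,4,3,2,6,5,4,3,1,2,0,3,2,4,3,5,4,6,5,7,6,5,4,3,2,0]⟩,
    ⟨⟨162,0,[]⟩,2,[4,3,2,0,5,4,3,2]⟩,
    ⟨⟨163,0,[2]⟩,2,[4,3,2,0,5,4,3]⟩,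
    ⟨⟨164,0,[3,2]⟩,2,[4,3,2,0,5,4]⟩,
    ⟨⟨165,0,[4,3,2]⟩,2,[4,3,2,0,5]⟩,
    ⟨⟨166,0,[5,4,3,2]⟩,2,[4,3,2,0]⟩,
    ⟨⟨169,0,[1,3,2]⟩,2,[4,3,1,2,0,5,4]⟩,
    ⟨⟨170,0,[4,1,3,2]⟩,2,[4,3,1,2,0,5]⟩,
    ⟨⟨171,0,[5,4,1,3,2]⟩,2,[4,3,1,2,0]⟩,
    ⟨⟨174,0,[3,4,1,3,2]⟩,2,[4,3,1,2,0,3,5]⟩,
    ⟨⟨175,0,[5,3,4,1,3,2]⟩,2,[4,3,1,2,0,3]⟩,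
    ⟨⟨178,0,[4,5,3,4,1,3,2]⟩,2,[4,3,1,2,0,3,4]⟩,
    ⟨⟨183,0,[6,7,5,6,4,5,3,4,1,3,2]⟩,2,[4,3,2,0,5,4,3,2,6,5,4,3,1,2,0,3,2,4,3,5,4,6,5,7,6,5,4,3,2]⟩,
    ⟨⟨184,0,[2,3,4,1,3,2]⟩,2,[4,3,1,2,0,3,2,5]⟩,
    ⟨⟨185,0,[5,2,3,4,1,3,2]⟩,2,[4,3,1,2,0,3,2]⟩,
    ⟨⟨188,0,[4,5,2,3,4,1,3,2]⟩,2,[4,3,1,2,0,3,2,4]⟩,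
    ⟨⟨193,0,[6,7,5,6,4,5,2,3,4,1,3,2]⟩,2,[4,3,2,0,5,4,3,2,6,5,4,3,1,2,0,3,2,4,3,5,4,6,5,7,6,5,4,3]⟩,
    ⟨⟨194,0,[3,4,5,2,3,4,1,3,2]⟩,2,[4,3,1,2,0,3,2,4,3]⟩,
    ⟨⟨199,0,[6,7,5,6,3,4,5,2,3,4,1,3,2]⟩,2,[4,3,2,0,5,4,3,2,6,5,4,3,1,2,0,3,2,4,3,5,4,6,5,7,6,5,4]⟩,
    ⟨⟨202,0,[6,7,4,5,6,3,4,5,2,3,4,1,3,2]⟩,2,[4,3,2,0,5,4,3,2,6,5,4,3,1,2,0,3,2,4,3,5,4,6,5,7,6,5]⟩,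
    ⟨⟨203,0,[5,6,7,4,5,6,3,4,5,2,3,4,1,3,2]⟩,2,[4,3,2,0,5,4,3,2,6,5,4,3,1,2,0,3,2,4,3,5,4,6,5,7,6]⟩,
    ⟨⟨204,0,[1,3,4,5,2,3,4,1,3,2]⟩,2,[4,3,1,2,0,3,2,4,3,1]⟩,
    ⟨⟨209,0,[6,7,5,6,1,3,4,5,2,3,4,1,3,2]⟩,2,[4,3,1,2,0,5,4,6,5,4,3,1,2,3,4,5,6,7,6,5,4,3,1,2,3,4,5,6]⟩,
    ⟨⟨212,0,[6,7,4,5,6,1,3,4,5,2,3,4,1,3,2]⟩,2,[4,3,1,2,0,5,6,5,4,3,1,2,3,4,5,6,7,6,5,4,3,1,2,3,4,5,6]⟩,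
    ⟨⟨213,0,[5,6,7,4,5,6,1,3,4,5,2,3,4,1,3,2]⟩,2,[4,3,1,2,0,6,5,4,3,1,2,3,4,5,6,7,6,5,4,3,1,2,3,4,5,6]⟩,
    ⟨⟨216,0,[6,7,3,4,5,6,1,3,4,5,2,3,4,1,3,2]⟩,2,[4,3,1,2,0,3,5,6,5,4,3,1,2,3,4,5,6,7,6,5,4,3,1,2,3,4,5,6]⟩,
    ⟨⟨217,0,[5,6,7,3,4,5,6,1,3,4,5,2,3,4,1,3,2]⟩,2,[4,3,1,2,0,3,6,5,4,3,1,2,3,4,5,6,7,6,5,4,3,1,2,3,4,5,6]⟩,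
    ⟨⟨218,0,[4,5,6,7,3,4,5,6,1,3,4,5,2,3,4,1,3,2]⟩,2,[4,3,1,2,0,3,4,6,5,4,3,1,2,3,4,5,6,7,6,5,4,3,1,2,3,4,5,6]⟩,
    ⟨⟨221,0,[6,7,2,3,4,5,6,1,3,4,5,2,3,4,1,3,2]⟩,2,[4,3,1,2,0,3,2,5,6,5,4,3,1,2,3,4,5,6,7,6,5,4,3,1,2,3,4,5,6]⟩,
    ⟨⟨222,0,[5,6,7,2,3,4,5,6,1,3,4,5,2,3,4,1,3,2]⟩,2,[4,3,1,2,0,3,2,6,5,4,3,1,2,3,4,5,6,7,6,5,4,3,1,2,3,4,5,6]⟩,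
    ⟨⟨223,0,[4,5,6,7,2,3,4,5,6,1,3,4,5,2,3,4,1,3,2]⟩,2,[4,3,1,2,0,3,2,4,6,5,4,3,1,2,3,4,5,6,7,6,5,4,3,1,2,3,4,5,6]⟩,
    ⟨⟨224,0,[3,4,5,6,7,2,3,4,5,6,1,3,4,5,2,3,4,1,3,2]⟩,2,[4,3,1,2,0,3,2,4,3,6,5,4,3,1,2,3,4,5,6,7,6,5,4,3,1,2,3,4,5,6]⟩,
    ⟨⟨225,0,[1,3,4,5,6,7,2,3,4,5,6,1,3,4,5,2,3,4,1,3,2]⟩,2,[4,3,1,2,0,3,2,4,3,1,6,5,4,3,1,2,3,4,5,6,7,6,5,4,3,1,2,3,4,5,6]⟩,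
    ⟨⟨228,0,[6,7,0,2,3,4,5,6,1,3,4,5,2,3,4,1,3,2]⟩,2,[4,3,1,2,0,3,2,5,6,5,4,3,1,2,3,4,5,6,7,6,5,4,3,1,2,0,3,4,5,6]⟩,
    ⟨⟨229,0,[5,6,7,0,2,3,4,5,6,1,3,4,5,2,3,4,1,3,2]⟩,2,[4,3,1,2,0,3,2,6,5,4,3,1,2,3,4,5,6,7,6,5,4,3,1,2,0,3,4,5,6]⟩,
    ⟨⟨230,0,[4,5,6,7,0,2,3,4,5,6,1,3,4,5,2,3,4,1,3,2]⟩,2,[4,3,1,2,0,3,2,4,6,5,4,3,1,2,3,4,5,6,7,6,5,4,3,1,2,0,3,4,5,6]⟩,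
    ⟨⟨231,0,[3,4,5,6,7,0,2,3,4,5,6,1,3,4,5,2,3,4,1,3,2]⟩,2,[4,3,1,2,0,3,2,4,3,6,5,4,3,1,2,3,4,5,6,7,6,5,4,3,1,2,0,3,4,5,6]⟩,
    ⟨⟨232,0,[2,3,4,5,6,7,0,2,3,4,5,6,1,3,4,5,2,3,4,1,3,2]⟩,2,[4,3,1,2,0,3,2,4,3,6,5,4,3,1,2,3,4,5,6,7,6,5,4,3,1,2,0,3,2,4,5,6]⟩,
    ⟨⟨233,0,[1,3,4,5,6,7,0,2,3,4,5,6,1,3,4,5,2,3,4,1,3,2]⟩,2,[4,3,1,2,0,3,2,4,3,1,6,5,4,3,1,2,3,4,5,6,7,6,5,4,3,1,2,0,3,4,5,6]⟩,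
    ⟨⟨234,0,[2,1,3,4,5,6,7,0,2,3,4,5,6,1,3,4,5,2,3,4,1,3,2]⟩,2,[4,3,1,2,0,3,2,4,3,1,6,5,4,3,1,2,3,4,5,6,7,6,5,4,3,1,2,0,3,2,4,5,6]⟩,
    ⟨⟨235,0,[3,2,1,3,4,5,6,7,0,2,3,4,5,6,1,3,4,5,2,3,4,1,3,2]⟩,2,[4,3,1,2,0,3,2,4,3,1,6,5,4,3,1,2,3,4,5,6,7,6,5,4,3,1,2,0,3,2,4,3,5,6]⟩,
    ⟨⟨236,0,[4,3,2,1,3,4,5,6,7,0,2,3,4,5,6,1,3,4,5,2,3,4,1,3,2]⟩,2,[4,3,1,2,0,3,2,4,3,1,6,5,4,3,1,2,3,4,5,6,7,6,5,4,3,1,2,0,3,2,4,3,5,4,6]⟩,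
    ⟨⟨237,0,[5,4,3,2,1,3,4,5,6,7,0,2,3,4,5,6,1,3,4,5,2,3,4,1,3,2]⟩,2,[4,3,1,2,0,3,2,4,3,1,6,5,4,3,1,2,3,4,5,6,7,6,5,4,3,1,2,0,3,2,4,3,5,4,6,5]⟩]

/-- Representative 2. -/
def rep2 : Rep where
  word := [7,5]
  roots := [⟨120,7,[]⟩, ⟨123,5,[]⟩]
  step := .odd 0 0 1 ⟨⟨120,7,[]⟩,1,[6,5,7,6]⟩
  exts := [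
    ⟨⟨130,3,[]⟩,3,[]⟩,
    ⟨⟨135,2,[]⟩,3,[2,3]⟩,
    ⟨⟨136,2,[3]⟩,3,[2]⟩,
    ⟨⟨141,1,[]⟩,3,[1,3]⟩,
    ⟨⟨142,1,[3]⟩,3,[1]⟩,
    ⟨⟨147,1,[2,3]⟩,3,[1,2]⟩,
    ⟨⟨156,1,[4,5,3,4,2,3]⟩,3,[2,0,3,2,4,3,1,2,0,3,2,4,3,5,4,3,2,0]⟩,
    ⟨⟨161,1,[6,7,5,6,4,5,3,4,2,3]⟩,3,[2,0,3,2,4,3,1,2,0,3,2,4,3,5,4,3,2,0,6,5,7,6]⟩,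
    ⟨⟨162,0,[]⟩,3,[2,0,3,2]⟩,
    ⟨⟨163,0,[2]⟩,3,[2,0,3]⟩,
    ⟨⟨164,0,[3,2]⟩,3,[2,0]⟩,
    ⟨⟨169,0,[1,3,2]⟩,3,[1,2,0]⟩,
    ⟨⟨178,0,[4,5,3,4,1,3,2]⟩,3,[2,0,3,2,4,3,1,2,0,3,2,4,3,5,4,3,2]⟩,
    ⟨⟨183,0,[6,7,5,6,4,5,3,4,1,3,2]⟩,3,[2,0,3,2,4,3,1,2,0,3,2,4,3,5,4,3,2,6,5,7,6]⟩,
    ⟨⟨188,0,[4,5,2,3,4,1,3,2]⟩,3,[2,0,3,2,4,3,1,2,0,3,2,4,3,5,4,3]⟩,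
    ⟨⟨193,0,[6,7,5,6,4,5,2,3,4,1,3,2]⟩,3,[2,0,3,2,4,3,1,2,0,3,2,4,3,5,4,3,6,5,7,6]⟩,
    ⟨⟨194,0,[3,4,5,2,3,4,1,3,2]⟩,3,[2,0,3,2,4,3,1,2,0,3,2,4,3,5,4]⟩,
    ⟨⟨199,0,[6,7,5,6,3,4,5,2,3,4,1,3,2]⟩,3,[2,0,3,2,4,3,1,2,0,3,2,4,3,5,4,6,5,7,6]⟩,
    ⟨⟨204,0,[1,3,4,5,2,3,4,1,3,2]⟩,3,[1,2,0,4,3,1,2,3,4,5,4,3,1,2,3,4]⟩,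
    ⟨⟨209,0,[6,7,5,6,1,3,4,5,2,3,4,1,3,2]⟩,3,[1,2,0,4,3,1,2,3,4,5,4,3,1,2,3,4,6,5,7,6]⟩,
    ⟨⟨218,0,[4,5,6,7,3,4,5,6,1,3,4,5,2,3,4,1,3,2]⟩,3,[2,0,3,2,4,3,1,2,0,3,2,4,3,5,4,3,2,6,5,4,3,1,2,3,4,7,6,5,4,3,1,2,3,4]⟩,
    ⟨⟨223,0,[4,5,6,7,2,3,4,5,6,1,3,4,5,2,3,4,1,3,2]⟩,3,[2,0,3,2,4,3,1,2,0,3,2,4,3,5,4,3,6,5,4,3,1,2,3,4,7,6,5,4,3,1,2,3,4]⟩,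
    ⟨⟨224,0,[3,4,5,6,7,2,3,4,5,6,1,3,4,5,2,3,4,1,3,2]⟩,3,[2,0,3,2,4,3,1,2,0,3,2,4,3,5,4,6,5,4,3,1,2,3,4,7,6,5,4,3,1,2,3,4]⟩,
    ⟨⟨225,0,[1,3,4,5,6,7,2,3,4,5,6,1,3,4,5,2,3,4,1,3,2]⟩,3,[1,2,0,4,3,1,2,3,4,5,4,3,1,2,3,4,6,5,4,3,1,2,3,4,7,6,5,4,3,1,2,3,4]⟩,
    ⟨⟨230,0,[4,5,6,7,0,2,3,4,5,6,1,3,4,5,2,3,4,1,3,2]⟩,3,[2,0,3,2,4,3,1,2,0,3,2,4,3,5,4,3,6,5,4,3,1,2,3,4,7,6,5,4,3,1,2,0,3,4]⟩,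
    ⟨⟨231,0,[3,4,5,6,7,0,2,3,4,5,6,1,3,4,5,2,3,4,1,3,2]⟩,3,[2,0,3,2,4,3,1,2,0,3,2,4,3,5,4,6,5,4,3,1,2,3,4,7,6,5,4,3,1,2,0,3,4]⟩,
    ⟨⟨232,0,[2,3,4,5,6,7,0,2,3,4,5,6,1,3,4,5,2,3,4,1,3,2]⟩,3,[2,0,3,2,4,3,1,2,0,3,2,4,3,5,4,6,5,4,3,1,2,3,4,7,6,5,4,3,1,2,0,3,2,4]⟩,
    ⟨⟨233,0,[1,3,4,5,6,7,0,2,3,4,5,6,1,3,4,5,2,3,4,1,3,2]⟩,3,[1,2,0,4,3,1,2,3,4,5,4,3,1,2,3,4,6,5,4,3,1,2,3,4,7,6,5,4,3,1,2,0,3,4]⟩,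
    ⟨⟨234,0,[2,1,3,4,5,6,7,0,2,3,4,5,6,1,3,4,5,2,3,4,1,3,2]⟩,3,[1,2,0,4,3,1,2,3,4,5,4,3,1,2,3,4,6,5,4,3,1,2,3,4,7,6,5,4,3,1,2,0,3,2,4]⟩,
    ⟨⟨235,0,[3,2,1,3,4,5,6,7,0,2,3,4,5,6,1,3,4,5,2,3,4,1,3,2]⟩,3,[1,2,0,4,3,1,2,3,4,5,4,3,1,2,3,4,6,5,4,3,1,2,3,4,7,6,5,4,3,1,2,0,3,2,4,3]⟩]

/-- Representative 3. -/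
def rep3 : Rep where
  word := [7,5,3]
  roots := [⟨120,7,[]⟩, ⟨123,5,[]⟩, ⟨130,3,[]⟩]
  step := .odd 0 0 1 ⟨⟨120,7,[]⟩,2,[4,3,5,4,6,5,7,6]⟩
  exts := [
    ⟨⟨147,1,[2,3]⟩,4,[]⟩,
    ⟨⟨156,1,[4,5,3,4,2,3]⟩,4,[4,3,5,4]⟩,
    ⟨⟨161,1,[6,7,5,6,4,5,3,4,2,3]⟩,4,[4,3,5,4,6,5,7,6]⟩,
    ⟨⟨162,0,[]⟩,4,[0,1,2,3,1,2]⟩,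
    ⟨⟨169,0,[1,3,2]⟩,4,[0]⟩,
    ⟨⟨178,0,[4,5,3,4,1,3,2]⟩,4,[0,4,3,5,4]⟩,
    ⟨⟨183,0,[6,7,5,6,4,5,3,4,1,3,2]⟩,4,[0,4,3,5,4,6,5,7,6]⟩,
    ⟨⟨204,0,[1,3,4,5,2,3,4,1,3,2]⟩,4,[0,4,3,1,2,5,4,3,1,2]⟩,
    ⟨⟨209,0,[6,7,5,6,1,3,4,5,2,3,4,1,3,2]⟩,4,[0,4,3,1,2,5,4,3,1,2,6,5,7,6]⟩,
    ⟨⟨218,0,[4,5,6,7,3,4,5,6,1,3,4,5,2,3,4,1,3,2]⟩,4,[0,4,3,1,2,5,4,3,1,2,6,5,4,3,7,6,5,4]⟩,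
    ⟨⟨225,0,[1,3,4,5,6,7,2,3,4,5,6,1,3,4,5,2,3,4,1,3,2]⟩,4,[0,4,3,1,2,5,4,3,1,2,6,5,4,3,1,2,7,6,5,4,3,1,2]⟩,
    ⟨⟨232,0,[2,3,4,5,6,7,0,2,3,4,5,6,1,3,4,5,2,3,4,1,3,2]⟩,5,[]⟩,
    ⟨⟨233,0,[1,3,4,5,6,7,0,2,3,4,5,6,1,3,4,5,2,3,4,1,3,2]⟩,4,[0,4,3,1,2,5,4,3,1,2,6,5,4,3,1,2,7,6,5,4,3,1,2,0]⟩]

/-- Representative 4. -/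
def rep4 : Rep where
  word := [7,5,3,2,1,3,2,1]
  roots := [⟨120,7,[]⟩, ⟨123,5,[]⟩, ⟨130,3,[]⟩, ⟨147,1,[2,3]⟩]
  step := .odd 0 0 1 ⟨⟨120,7,[]⟩,3,[2,0,3,2,4,3,1,2,0,5,4,3,2,0,6,5,7,6]⟩
  exts := [
    ⟨⟨156,1,[4,5,3,4,2,3]⟩,6,[]⟩,
    ⟨⟨161,1,[6,7,5,6,4,5,3,4,2,3]⟩,6,[6,5,7,6]⟩,
    ⟨⟨232,0,[2,3,4,5,6,7,0,2,3,4,5,6,1,3,4,5,2,3,4,1,3,2]⟩,6,[0,1,2,3,1,2,6,5,4,3,1,2,0,7,6,5,4,3,2,0]⟩,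
    ⟨⟨233,0,[1,3,4,5,6,7,0,2,3,4,5,6,1,3,4,5,2,3,4,1,3,2]⟩,6,[0,1,2,3,1,2,6,5,4,3,1,2,7,6,5,4,3,1,2,0]⟩]

/-- Representative 5. -/
def rep5 : Rep where
  word := [7,2,3,4,5,6,0,2,3,4,5,1,3,4,2,3,0,2,1,3,4,5,6,7,6,5,4,3,2,1,3,4,5,6,0,2,1,3,4,5,1,3,4,0,2,3,0,2]
  roots := [⟨120,7,[]⟩, ⟨123,5,[]⟩, ⟨130,3,[]⟩, ⟨232,0,[2,3,4,5,6,7,0,2,3,4,5,6,1,3,4,5,2,3,4,1,3,2]⟩]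
  step := .pair ⟨⟨120,7,[]⟩,3,[2,0,3,2,4,3,1,2,0,3,2,4,3,6,5,4,3,1,2,0,3,7,6,5,4,3,1,2,0,3,2,4,5,6]⟩ ⟨⟨189,0,[6,4,5,2,3,4,1,3,2]⟩,3,[2,0,4,3,1,2,3,4,5,6,5,4,3,1,2,0,3,2,4,3,5,7]⟩
  exts := [
    ⟨⟨147,1,[2,3]⟩,6,[0,1,2,3,1,2,6,5,4,3,1,2,0,7,6,5,4,3,2,0]⟩,
    ⟨⟨156,1,[4,5,3,4,2,3]⟩,6,[0,1,2,3,1,2,6,5,4,3,1,2,0,3,2,4,3,7,6,5,4,3,2,0]⟩,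
    ⟨⟨161,1,[6,7,5,6,4,5,3,4,2,3]⟩,6,[0,1,2,3,1,2,6,5,4,3,1,2,0,3,2,4,3,5,4,6,5,7,6,5,4,3,2,0]⟩,
    ⟨⟨162,0,[]⟩,6,[0,1,2,3,1,2,6,5,4,3,2,0,7,6,5,4,3,2]⟩,
    ⟨⟨169,0,[1,3,2]⟩,6,[0,1,2,3,1,2,6,5,4,3,1,2,0,7,6,5,4,3,2]⟩,
    ⟨⟨178,0,[4,5,3,4,1,3,2]⟩,6,[0,1,2,3,1,2,6,5,4,3,1,2,0,3,2,4,3,7,6,5,4,3,2]⟩,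
    ⟨⟨183,0,[6,7,5,6,4,5,3,4,1,3,2]⟩,6,[0,1,2,3,1,2,6,5,4,3,1,2,0,3,2,4,3,5,4,6,5,7,6,5,4,3,2]⟩,
    ⟨⟨204,0,[1,3,4,5,2,3,4,1,3,2]⟩,6,[0,1,2,3,1,2,6,5,4,3,1,2,0,3,2,4,3,1,7,6,5,4,3,2]⟩,
    ⟨⟨209,0,[6,7,5,6,1,3,4,5,2,3,4,1,3,2]⟩,6,[0,1,2,3,1,2,6,5,4,3,1,2,0,3,2,4,3,1,5,4,6,5,7,6,5,4,3,2]⟩,
    ⟨⟨218,0,[4,5,6,7,3,4,5,6,1,3,4,5,2,3,4,1,3,2]⟩,6,[0,1,2,3,1,2,6,5,4,3,1,2,0,3,2,4,3,1,5,4,3,2,6,5,4,3,7,6,5,4,3,2]⟩,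
    ⟨⟨225,0,[1,3,4,5,6,7,2,3,4,5,6,1,3,4,5,2,3,4,1,3,2]⟩,6,[0,1,2,3,1,2,6,5,4,3,1,2,0,3,2,4,3,1,5,4,3,2,6,5,4,3,1,7,6,5,4,3,2]⟩,
    ⟨⟨233,0,[1,3,4,5,6,7,0,2,3,4,5,6,1,3,4,5,2,3,4,1,3,2]⟩,6,[0,1,2,3,1,2,6,5,4,3,1,2,0,3,2,4,3,1,5,4,3,2,6,5,4,3,1,7,6,5,4,3,2,0]⟩]

/-- Representative 6. -/
def rep6 : Rep where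
  word := [7,5,4,3,2,1,3,4,5,4,3,2,1,3,4,3,2,1,3,2,1]
  roots := [⟨120,7,[]⟩, ⟨123,5,[]⟩, ⟨130,3,[]⟩, ⟨147,1,[2,3]⟩, ⟨156,1,[4,5,3,4,2,3]⟩]
  step := .odd 0 0 1 ⟨⟨120,7,[]⟩,5,[2,0,3,2,4,3,1,2,0,5,4,3,2,0,6,5,7,6]⟩
  exts := [
    ⟨⟨161,1,[6,7,5,6,4,5,3,4,2,3]⟩,7,[]⟩,
    ⟨⟨232,0,[2,3,4,5,6,7,0,2,3,4,5,6,1,3,4,5,2,3,4,1,3,2]⟩,7,[0,1,2,3,1,2,4,3,1,2,0,5,4,3,2,0]⟩,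
    ⟨⟨233,0,[1,3,4,5,6,7,0,2,3,4,5,6,1,3,4,5,2,3,4,1,3,2]⟩,7,[0,1,2,3,1,2,4,3,1,2,5,4,3,1,2,0]⟩]

/-- Representative 7. -/
def rep7 : Rep where
  word := [7,6,5,4,3,2,1,3,4,5,6,7,6,5,4,3,2,1,3,4,5,6,5,4,3,2,1,3,4,5,4,3,2,1,3,4,3,2,1,3,2,1]
  roots := [⟨120,7,[]⟩, ⟨123,5,[]⟩, ⟨130,3,[]⟩, ⟨147,1,[2,3]⟩, ⟨156,1,[4,5,3,4,2,3]⟩, ⟨161,1,[6,7,5,6,4,5,3,4,2,3]⟩]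
  step := .pair ⟨⟨120,7,[]⟩,6,[6,5,4,3,1,2,3,4,5,6]⟩ ⟨⟨121,6,[]⟩,6,[6,5,4,3,1,2,3,4,5,7]⟩
  exts := [
    ⟨⟨232,0,[2,3,4,5,6,7,0,2,3,4,5,6,1,3,4,5,2,3,4,1,3,2]⟩,8,[]⟩,
    ⟨⟨233,0,[1,3,4,5,6,7,0,2,3,4,5,6,1,3,4,5,2,3,4,1,3,2]⟩,8,[1,2]⟩]

/-- Representative 8. -/
def rep8 : Rep where
  word := [2,3,4,5,6,7,6,5,4,3,2,1,3,4,5,6,0,2,3,4,5,1,3,4,2,3,0,2,1,3,4,5,6,7,0,2,3,4,5,1,3,4,2,3,0,2,1,3,4,5,6,1,3,4,2,3,0,2,1,3,4,5,2,3,0,2,1,3,4,0,2,1,3,0,2]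
  roots := [⟨120,7,[]⟩, ⟨123,5,[]⟩, ⟨130,3,[]⟩, ⟨147,1,[2,3]⟩, ⟨156,1,[4,5,3,4,2,3]⟩, ⟨161,1,[6,7,5,6,4,5,3,4,2,3]⟩, ⟨232,0,[2,3,4,5,6,7,0,2,3,4,5,6,1,3,4,5,2,3,4,1,3,2]⟩]
  step := .pair ⟨⟨120,7,[]⟩,7,[0,1,2,3,1,2,4,3,1,2,5,4,3,1,2,0,6,5,4,3,1,2,3,4,5,6]⟩ ⟨⟨121,6,[]⟩,7,[0,1,2,3,1,2,4,3,1,2,5,4,3,1,2,0,6,5,4,3,1,2,3,4,5,7]⟩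
  exts := [
    ⟨⟨233,0,[1,3,4,5,6,7,0,2,3,4,5,6,1,3,4,5,2,3,4,1,3,2]⟩,9,[]⟩]

/-- Representative 9. -/
def rep9 : Rep where
  word := [7,6,5,4,3,2,1,3,4,5,6,0,2,3,4,5,1,3,4,2,3,0,2,1,3,4,5,6,7,6,5,4,3,2,1,3,4,5,6,0,2,3,4,5,1,3,4,2,3,0,2,1,3,4,5,6,7,6,5,4,3,2,1,3,4,5,6,0,2,3,4,5,1,3,4,2,3,0,2,1,3,4,5,6,0,2,3,4,5,1,3,4,2,3,0,2,1,3,4,5,1,3,4,2,3,0,2,1,3,4,2,3,0,2,1,3,0,2,1,0]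
  roots := [⟨120,7,[]⟩, ⟨123,5,[]⟩, ⟨130,3,[]⟩, ⟨147,1,[2,3]⟩, ⟨156,1,[4,5,3,4,2,3]⟩, ⟨161,1,[6,7,5,6,4,5,3,4,2,3]⟩, ⟨232,0,[2,3,4,5,6,7,0,2,3,4,5,6,1,3,4,5,2,3,4,1,3,2]⟩, ⟨233,0,[1,3,4,5,6,7,0,2,3,4,5,6,1,3,4,5,2,3,4,1,3,2]⟩]
  step := .pair ⟨⟨120,7,[]⟩,8,[0,1,3,2,4,3,1,5,4,3,2,0,6,5,4,3,1,2,3,4,5,6]⟩ ⟨⟨121,6,[]⟩,8,[0,1,3,2,4,3,1,5,4,3,2,0,6,5,4,3,1,2,3,4,5,7]⟩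
  exts := [
    ]

/-- The representatives. -/
def reps : List Rep := [rep0, rep1, rep2, rep3, rep4, rep5, rep6, rep7, rep8, rep9]

end CfsgLib.Chev.OddInvol.E8
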