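import Cfsg.Agent.Lib.Known.OddInvol.F4Reps

/-! The certificate for `F4`. -/

set_option autoImplicit false
set_option maxRecDepth 100000

namespace CfsgLib.Chev.OddInvol.F4

open Cfsg.Lie CfsgLib.Chev.Table

theorem tabOK : TabOK chevF4 DataF4.tab := ⟨DataF4.facts, DataF4.chk_arrays, DataF4.chk_chain⟩

theorem reps_ok : repsT DataF4.tab reps = true := by decide +kernel

end CfsgLib.Chev.OddInvol.F4
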