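import Cfsg.Agent.Lib.Known.OddInvol.Torus

/-! Generated certificate for the centralisers of the torus involutions of F4. -/

set_option autoImplicit false
set_option maxRecDepth 100000

namespace CfsgLib.Chev.OddInvol.F4

/-- A step of the chain. -/
def sStab0 : Step' where
  weight := [1,0,0,0]
  cosets := [
    ⟨[],(0,0),[(true,1)]⟩,
    ⟨[0],(0,0),[(true,0)]⟩]

/-- A step of the chain. -/
def sStab1 : Step' where
  weight := [0,1,0,0]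
  cosets := [
    ⟨[],(0,0),[(false,0),(true,1)]⟩,
    ⟨[1,2,1],(1,0),[(true,2),(true,0)]⟩,
    ⟨[0,1,2,1],(0,1),[(true,1),(true,3)]⟩,
    ⟨[1,2,0,1,2,0,1],(1,2),[(false,0),(true,2)]⟩]

/-- A step of the chain. -/
def sStab2 : Step' where
  weight := [0,0,0,1]
  cosets := [
    ⟨[],(0,0),[(false,0),(false,1),(true,1)]⟩,
    ⟨[3],(2,0),[(false,0),(true,2),(true,0)]⟩,
    ⟨[1,2,3,1],(1,1),[(true,3),(true,1),(false,1)]⟩,
    ⟨[0,1,2,3,1],(0,2),[(true,2),(true,4),(false,1)]⟩,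
    ⟨[1,2,0,1,2,3,0,1],(1,3),[(false,0),(true,3),(true,5)]⟩,
    ⟨[3,1,2,0,1,2,3,0,1],(2,4),[(false,0),(false,1),(true,4)]⟩]

/-- A step of the chain. -/
def sStab3 : Step' where
  weight := [0,-1,2,0]
  cosets := [
    ⟨[],(0,0),[(false,0),(false,1),(false,2),(true,1)]⟩,
    ⟨[2],(3,0),[(false,0),(false,1),(true,2),(true,0)]⟩,
    ⟨[3,2],(2,1),[(false,0),(true,3),(true,1),(false,2)]⟩,
    ⟨[1,2,3,1,2],(1,2),[(true,4),(true,2),(false,1),(false,2)]⟩,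
    ⟨[0,1,2,3,1,2],(0,3),[(true,3),(true,5),(false,1),(false,2)]⟩,
    ⟨[1,2,0,1,2,3,0,1,2],(1,4),[(false,0),(true,4),(true,6),(false,2)]⟩,
    ⟨[3,1,2,0,1,2,3,0,1,2],(2,5),[(false,0),(false,1),(true,5),(true,7)]⟩,
    ⟨[2,3,1,2,0,1,2,3,0,1,2],(3,6),[(false,0),(false,1),(false,2),(true,6)]⟩]

/-- The stabiliser. -/
def sStab : Stab where
  y := [1,0,0,0]
  gens := [⟨33,0,[]⟩, ⟨30,2,[1]⟩, ⟨24,3,[]⟩, ⟨25,2,[]⟩]
  steps := [sStab0, sStab1, sStab2, sStab3]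
  orbit := [
    [],
    [1],
    [1,0]]

/-- A step of the chain. -/
def tStab0 : Step' where
  weight := [1,0,0,0]
  cosets := [
    ⟨[],(0,0),[(true,1)]⟩,
    ⟨[0],(0,0),[(true,0)]⟩]

/-- A step of the chain. -/
def tStab1 : Step' where
  weight := [0,1,0,-1]
  cosets := [
    ⟨[],(0,0),[(false,0),(true,1)]⟩,
    ⟨[1,2,1],(1,0),[(true,2),(true,0)]⟩,
    ⟨[0,1,2,1],(0,1),[(true,1),(true,3)]⟩,
    ⟨[1,2,0,1,2,0,1],(1,2),[(false,0),(true,2)]⟩]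

/-- A step of the chain. -/
def tStab2 : Step' where
  weight := [0,0,0,1]
  cosets := [
    ⟨[],(0,0),[(false,0),(false,1),(true,1)]⟩,
    ⟨[3,2,1,2,3],(2,0),[(true,2),(false,1),(true,0)]⟩,
    ⟨[3,2,0,1,2,3],(0,1),[(true,1),(true,3),(false,0)]⟩,
    ⟨[1,2,3,1,2,0,1,2,3],(1,2),[(true,4),(true,2),(false,0)]⟩,
    ⟨[0,1,2,3,1,2,0,1,2,3],(0,3),[(true,3),(false,1),(true,5)]⟩,
    ⟨[3,2,1,2,0,1,2,3,2,1,2,0,1,2,3],(2,4),[(false,0),(false,1),(true,4)]⟩]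

/-- A step of the chain. -/
def tStab3 : Step' where
  weight := [0,-1,2,-1]
  cosets := [
    ⟨[],(0,0),[(false,0),(false,1),(false,2),(true,1)]⟩,
    ⟨[2],(3,0),[(false,0),(false,1),(false,2),(true,0)]⟩]

/-- The stabiliser. -/
def tStab : Stab where
  y := [0,0,1,0]
  gens := [⟨33,0,[]⟩, ⟨30,2,[1]⟩, ⟨29,1,[3,2]⟩, ⟨25,2,[]⟩]
  steps := [tStab0, tStab1, tStab2, tStab3]
  orbit := [
    [],
    [1],
    [3],
    [1,0],
    [1,3],
    [3,2],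
    [1,0,3],
    [1,3,2],
    [1,0,3,2],
    [1,0,3,2,1],
    [1,0,3,2,1,2],
    [1,0,3,2,1,2,3]]

/-- The two classes. -/
def cls : List (Bool × List ℕ) := [
    (true,[]),
    (true,[1,0]),
    (true,[1]),
    (false,[]),
    (false,[1,0,3,2,1,2,3]),
    (false,[1]),
    (false,[1,0]),
    (false,[3,2]),
    (false,[1,0,3,2,1]),
    (false,[1,3,2]),
    (false,[1,0,3,2]),
    (false,[3]),
    (false,[1,0,3,2,1,2]),
    (false,[1,3]),
    (false,[1,0,3])]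

end CfsgLib.Chev.OddInvol.F4
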