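import Cfsg.Agent.Lib.Known.OddInvol.F4
import Cfsg.Agent.Lib.Known.OddInvol.F4Stab

/-! The certificates of the two classes for `F4`. -/

set_option autoImplicit false
set_option maxRecDepth 100000

namespace CfsgLib.Chev.OddInvol.F4

open Cfsg.Lie CfsgLib.Chev.Table

theorem sStab_ok : stabT DataF4.tab sStab = true := by decide +kernel

theorem tStab_ok : stabT DataF4.tab tStab = true := by decide +kernel

theorem cls_ok : classT DataF4.tab sStab.y tStab.y cls = true := by decide +kernel

theorem sPoly_ok : polyT DataF4.tab sStab 1152 [2, 4, 6, 8] = true := by decide +kernel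

theorem tPoly_ok : polyT DataF4.tab tStab 1152 [2, 2, 4, 6] = true := by decide +kernel

theorem nontriv : (List.range DataF4.tab.rank).any
    (fun q => !parT DataF4.tab sStab.y (DataF4.tab.smp q)) = true ∧
    (List.range DataF4.tab.rank).any
      (fun q => !parT DataF4.tab tStab.y (DataF4.tab.smp q)) = true := by decide +kernel

theorem pos_eq : posC DataF4.tab sStab.y = 16 ∧ posC DataF4.tab tStab.y = 10 := by decide +kernel

end CfsgLib.Chev.OddInvol.F4
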