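import Cfsg.Agent.Lib.Known.OddInvol.Check

/-! Generated certificate for the involution classes of the Weyl group of F4. -/

set_option autoImplicit false
set_option maxRecDepth 100000

namespace CfsgLib.Chev.OddInvol.F4

/-- Representative 0. -/
def rep0 : Rep where
  word := []
  roots := []
  step := .base
  exts := [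
    ⟨⟨24,3,[]⟩,1,[]⟩,
    ⟨⟨25,2,[]⟩,1,[2,3]⟩,
    ⟨⟨26,2,[3]⟩,1,[2]⟩,
    ⟨⟨27,1,[]⟩,2,[]⟩,
    ⟨⟨28,1,[2]⟩,2,[2]⟩,
    ⟨⟨29,1,[3,2]⟩,2,[2,3]⟩,
    ⟨⟨30,2,[1]⟩,1,[2,1,3]⟩,
    ⟨⟨31,2,[3,1]⟩,1,[2,1]⟩,
    ⟨⟨32,2,[2,3,1]⟩,1,[2,1,2]⟩,
    ⟨⟨33,0,[]⟩,2,[0,1]⟩,
    ⟨⟨34,0,[1]⟩,2,[0]⟩,
    ⟨⟨35,0,[2,1]⟩,2,[0,2]⟩,
    ⟨⟨36,0,[3,2,1]⟩,2,[0,2,3]⟩,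
    ⟨⟨37,0,[1,2,1]⟩,2,[0,2,1]⟩,
    ⟨⟨38,0,[3,1,2,1]⟩,2,[0,2,1,3]⟩,
    ⟨⟨39,0,[2,3,1,2,1]⟩,2,[0,2,1,3,2]⟩,
    ⟨⟨40,0,[1,2,3,1,2,1]⟩,2,[0,2,1,3,2,1]⟩,
    ⟨⟨41,2,[0,1]⟩,1,[2,1,0,3]⟩,
    ⟨⟨42,2,[3,0,1]⟩,1,[2,1,0]⟩,
    ⟨⟨43,2,[2,3,0,1]⟩,1,[2,1,0,2]⟩,
    ⟨⟨44,0,[0,1,2,3,1,2,1]⟩,2,[0,2,1,3,2,1,0]⟩,
    ⟨⟨45,2,[1,2,3,0,1]⟩,1,[2,1,0,2,1]⟩,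
    ⟨⟨46,2,[2,1,2,3,0,1]⟩,1,[2,1,0,2,1,2]⟩,
    ⟨⟨47,2,[3,2,1,2,3,0,1]⟩,1,[2,1,0,2,1,2,3]⟩]

/-- Representative 1. -/
def rep1 : Rep where
  word := [3]
  roots := [⟨24,3,[]⟩]
  step := .odd 0 0 1 ⟨⟨24,3,[]⟩,0,[]⟩
  exts := [
    ⟨⟨27,1,[]⟩,3,[]⟩,
    ⟨⟨32,2,[2,3,1]⟩,4,[]⟩,
    ⟨⟨33,0,[]⟩,3,[0,1]⟩,
    ⟨⟨34,0,[1]⟩,3,[0]⟩,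
    ⟨⟨39,0,[2,3,1,2,1]⟩,3,[0,1,2,1,2,3,2,1,2]⟩,
    ⟨⟨40,0,[1,2,3,1,2,1]⟩,3,[0,2,1,2,3,2,1,2]⟩,
    ⟨⟨43,2,[2,3,0,1]⟩,4,[0]⟩,
    ⟨⟨44,0,[0,1,2,3,1,2,1]⟩,3,[0,2,1,2,3,2,1,0,2]⟩,
    ⟨⟨45,2,[1,2,3,0,1]⟩,4,[0,1]⟩]

/-- Representative 2. -/
def rep2 : Rep where
  word := [1]
  roots := [⟨27,1,[]⟩]
  step := .odd 0 7 8 ⟨⟨27,1,[]⟩,0,[]⟩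
  exts := [
    ⟨⟨24,3,[]⟩,3,[]⟩,
    ⟨⟨28,1,[2]⟩,4,[2,3]⟩,
    ⟨⟨29,1,[3,2]⟩,4,[2]⟩,
    ⟨⟨32,2,[2,3,1]⟩,3,[2,1,2]⟩,
    ⟨⟨41,2,[0,1]⟩,3,[0,1,2,1,0,3]⟩,
    ⟨⟨42,2,[3,0,1]⟩,3,[0,1,2,1,0]⟩,
    ⟨⟨44,0,[0,1,2,3,1,2,1]⟩,4,[0,1,2,1,0,2]⟩,
    ⟨⟨46,2,[2,1,2,3,0,1]⟩,3,[0,1,2,1,0,2,1,2]⟩,
    ⟨⟨47,2,[3,2,1,2,3,0,1]⟩,3,[0,1,2,1,0,2,1,2,3]⟩]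

/-- Representative 3. -/
def rep3 : Rep where
  word := [3,1]
  roots := [⟨24,3,[]⟩, ⟨27,1,[]⟩]
  step := .odd 0 0 1 ⟨⟨24,3,[]⟩,2,[]⟩
  exts := [
    ⟨⟨32,2,[2,3,1]⟩,5,[]⟩,
    ⟨⟨44,0,[0,1,2,3,1,2,1]⟩,6,[]⟩]

/-- Representative 4. -/
def rep4 : Rep where
  word := [3,2,1,2,3,2,1,2]
  roots := [⟨24,3,[]⟩, ⟨32,2,[2,3,1]⟩]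
  step := .odd 1 7 13 ⟨⟨32,2,[2,3,1]⟩,1,[]⟩
  exts := [
    ⟨⟨27,1,[]⟩,5,[]⟩,
    ⟨⟨43,2,[2,3,0,1]⟩,6,[0,1]⟩,
    ⟨⟨44,0,[0,1,2,3,1,2,1]⟩,5,[0,1,2,1,0,3,2]⟩,
    ⟨⟨45,2,[1,2,3,0,1]⟩,6,[0]⟩]

/-- Representative 5. -/
def rep5 : Rep where
  word := [3,2,1,2,3,2,1,2,1]
  roots := [⟨24,3,[]⟩, ⟨27,1,[]⟩, ⟨32,2,[2,3,1]⟩]
  step := .pair ⟨⟨24,3,[]⟩,3,[2,1,2]⟩ ⟨⟨25,2,[]⟩,3,[2,1,3]⟩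
  exts := [
    ⟨⟨44,0,[0,1,2,3,1,2,1]⟩,7,[]⟩]

/-- Representative 6. -/
def rep6 : Rep where
  word := [0,1,2,3,2,1,2,0,1,2,3,0,1,2,0,1,0]
  roots := [⟨24,3,[]⟩, ⟨43,2,[2,3,0,1]⟩, ⟨45,2,[1,2,3,0,1]⟩]
  step := .odd 2 7 34 ⟨⟨45,2,[1,2,3,0,1]⟩,4,[0]⟩
  exts := [
    ⟨⟨32,2,[2,3,1]⟩,7,[]⟩]

/-- Representative 7. -/
def rep7 : Rep where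
  word := [3,2,1,2,0,1,2,3,2,1,2,0,1,2,3,2,1,2,0,1,2,0,1,0]
  roots := [⟨24,3,[]⟩, ⟨32,2,[2,3,1]⟩, ⟨43,2,[2,3,0,1]⟩, ⟨45,2,[1,2,3,0,1]⟩]
  step := .pair ⟨⟨24,3,[]⟩,6,[2,1,2]⟩ ⟨⟨25,2,[]⟩,6,[2,1,3]⟩
  exts := [
    ]

/-- The representatives. -/
def reps : List Rep := [rep0, rep1, rep2, rep3, rep4, rep5, rep6, rep7]

end CfsgLib.Chev.OddInvol.F4
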