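import Cfsg.Agent.Lib.Known.OddInvol.Check
import Cfsg.Agent.Lib.Known.OddInvol.Cent

/-!
# The stabiliser of a torus involution in the Weyl group

The torus involution is `hT c` with `c i = (-1) ^ y i`. A certificate gives a chain of subgroups
generated by reflections of roots where the character is trivial, each step with coset
representatives, and an orbit of the character large enough to force the chain to end at the full
stabiliser. The generating function of the number of fixed positive roots made negative is the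
product of those of the steps.
-/

set_option autoImplicit false

namespace CfsgLib.Chev.OddInvol

open Cfsg.Lie CfsgLib.Chev.Table

universe v

/-- The coordinates of a torus involution. -/
def ysign (F : Type v) [Field F] (y : List ℕ) (i : ℕ) : Fˣ := (-1) ^ y.getD i 0

/-- The character is trivial at `s`. -/
def parT (T : Tab) (y : List ℕ) (s : ℕ) : Bool :=
  ((List.range T.rank).map fun i => (y.getD i 0 : ℤ) * T.aa i s).sum % 2 == 0

/-- A functional given on the fundamental roots. -/
def lev (T : Tab) (f : List ℤ) (s : ℕ) : ℤ :=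
  ((List.range T.rank).map fun j => T.co s j * f.getD j 0).sum

/-- A coset representative. -/
structure Coset : Type where
  word : List ℕ
  par : ℕ × ℕ
  nb : List (Bool × ℕ)

/-- A step of the chain. -/
structure Step' : Type where
  weight : List ℤ
  cosets : List Coset

/-- The data of a stabiliser. -/
structure Stab : Type where
  y : List ℕ
  gens : List RWord
  steps : List Step'
  orbit : List (List ℕ)

/-- Pairwise distinct. -/
def nodupT {α : Type} [BEq α] : List α → Bool
  | [] => true
  | a :: L => !L.elem a && nodupT L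

/-- The positive fixed roots in the span of the first `k` generators. -/
def inK (T : Tab) (S : Stab) (k s : ℕ) : Bool :=
  Nat.ble (T.nroots / 2) s && parT T S.y s &&
    allBelow S.steps.length fun j => bif Nat.ble k j then
      lev T ((S.steps.getD j ⟨[], []⟩).weight) s == 0 else true

/-- The word of a generator. -/
def genW (S : Stab) (j : ℕ) : List ℕ := (S.gens.getD j ⟨0, 0, []⟩).refl

/-- The check of a step. -/
def stepT' (T : Tab) (S : Stab) (k : ℕ) (L : Step') : Bool :=
  Nat.blt 0 L.cosets.length &&
  allBelow L.cosets.length (fun a =>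
    let C := L.cosets.getD a ⟨[], (0, 0), []⟩
    (C.word.all fun i => Nat.blt i T.rank) &&
    (bif a == 0 then C.word.isEmpty else
      Nat.blt C.par.2 a && Nat.ble C.par.1 k &&
        eqW T (genW S C.par.1 ++ (L.cosets.getD C.par.2 ⟨[], (0, 0), []⟩).word) C.word) &&
    (allBelow (k + 1) fun j =>
      match C.nb.getD j (false, k) with
      | (true, b) => Nat.blt b L.cosets.length &&
          eqW T (genW S j ++ C.word) (L.cosets.getD b ⟨[], (0, 0), []⟩).word
      | (false, i) => Nat.blt i k && eqW T (genW S j ++ C.word) (C.word ++ genW S i)) &&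
    allBelow T.nroots fun s => bif inK T S k s then
      Nat.ble (T.nroots / 2) (LacedInvol.actT T C.word s) else true) &&
  nodupT (L.cosets.map fun C => (List.range T.rank).map fun q =>
    lev T L.weight (LacedInvol.actT T C.word.reverse (T.smp q)))

/-- The check of the certificate of a stabiliser. -/
def stabT (T : Tab) (S : Stab) : Bool :=
  Nat.beq S.gens.length S.steps.length &&
  (S.gens.all fun R => R.ok T && allBelow T.nroots fun s =>
    parT T S.y (LacedInvol.actT T R.refl s) == parT T S.y s) &&
  (allBelow S.steps.length fun j => allBelow S.steps.length fun i =>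
    bif Nat.blt i j then allBelow T.nroots fun s =>
      lev T (S.steps.getD j ⟨[], []⟩).weight (LacedInvol.actT T (genW S i) s) ==
        lev T (S.steps.getD j ⟨[], []⟩).weight s
    else true) &&
  (allBelow S.steps.length fun j => allBelow T.nroots fun s =>
    bif Nat.ble (T.nroots / 2) s && parT T S.y s then
      decide (0 ≤ lev T (S.steps.getD j ⟨[], []⟩).weight s)
    else true) &&
  (allBelow S.steps.length fun k => stepT' T S k (S.steps.getD k ⟨[], []⟩)) &&
  (S.orbit.all fun v => v.all fun i => Nat.blt i T.rank) &&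
  nodupT (S.orbit.map fun v => (List.range T.rank).map fun q =>
    parT T S.y (LacedInvol.actT T v (T.smp q)))

/-- The generating polynomial of a step. -/
def stepPoly (T : Tab) (S : Stab) (L : Step') : List ℤ :=
  L.cosets.foldr (fun C acc => padd (mono (countBelow T.nroots fun s =>
    Nat.ble (T.nroots / 2) s && parT T S.y s &&
      Nat.blt (LacedInvol.actT T C.word s) (T.nroots / 2))) acc) []

/-- The check of the product formula. -/
def polyT (T : Tab) (S : Stab) (wcard : ℕ) (degs : List ℕ) : Bool :=
  Nat.beq (S.orbit.length * (S.steps.map fun L => L.cosets.length).prod) wcard &&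
  (pmul ((S.steps.map (stepPoly T S)).foldr pmul [1])
      ((List.replicate T.rank (powSub 1)).foldr pmul [1]) ==
    (degs.map powSub).foldr pmul [1])

theorem nodupT_spec {α : Type} [BEq α] [LawfulBEq α] : ∀ {L : List α}, nodupT L = true → L.Nodup := by
  intro L
  induction L with
  | nil => exact fun _ => List.nodup_nil
  | cons a L ih =>
    intro h
    simp only [nodupT, Bool.and_eq_true, Bool.not_eq_true', List.elem_eq_mem,
      decide_eq_false_iff_not] at h
    exact List.nodup_cons.2 ⟨h.1, ih h.2⟩

variable {D : ChevalleyDatum} {T : Tab} (h : TabOK D T) {F : Type v} [Field F]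
include h

theorem chi_ysign (h2 : (2 : F) ≠ 0) (y : List ℕ) {s : ℕ} (hs : s < D.nroots) :
    chi D (ysign F y) s = 1 ↔ parT T y s = true := by
  have e : chi D (ysign F y) s =
      (-1 : Fˣ) ^ ((List.range T.rank).map fun i => (y.getD i 0 : ℤ) * T.aa i s).sum := by
    rw [← List.sum_toFinset _ List.nodup_range, List.toFinset_range, ← rank_eq h.arr, chi]
    induction' hrk : D.rank with n ih generalizing s
    · simp
    · have key : ∀ m ≤ D.rank, ∏ i ∈ Finset.range m, ysign F y i ^ D.cartan i s =
          (-1 : Fˣ) ^ ∑ i ∈ Finset.range m, (y.getD i 0 : ℤ) * T.aa i s := by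
        intro m
        induction m with
        | zero => simp
        | succ m ihm =>
          intro hm
          rw [Finset.prod_range_succ, Finset.sum_range_succ, ihm (by omega), zpow_add, ysign,
            ← zpow_natCast, ← zpow_mul, cartan_eq h.arr (by omega) hs]
      rw [← hrk]
      exact key D.rank le_rfl
  have hne : (-1 : Fˣ) ≠ 1 := by
    intro hh
    have := congrArg Units.val hh
    rw [Units.val_neg, Units.val_one] at this
    exact h2 (by linear_combination -this)
  rw [e, parT, beq_iff_eq]
  set z := ((List.range T.rank).map fun i => (y.getD i 0 : ℤ) * T.aa i s).sum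
  rcases Int.even_or_odd z with hz | hz
  · rw [hz.neg_one_zpow]; exact iff_of_true rfl (Int.even_iff.1 hz)
  · rw [hz.neg_one_zpow]
    exact iff_of_false hne fun hh => Int.not_even_iff_odd.2 hz (Int.even_iff.2 hh)

theorem chi_ysign_cases (y : List ℕ) {s : ℕ} (hs : s < D.nroots) :
    chi D (ysign F y) s = 1 ∨ chi D (ysign F y) s = -1 := by
  have key : ∀ m ≤ D.rank, ∏ i ∈ Finset.range m, ysign F y i ^ D.cartan i s = 1 ∨
      ∏ i ∈ Finset.range m, ysign F y i ^ D.cartan i s = -1 := by
    intro m
    induction m with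
    | zero => simp
    | succ m ih =>
      intro hm
      have _ := hs
      have hy : ysign F y m ^ D.cartan m s = 1 ∨ ysign F y m ^ D.cartan m s = -1 := by
        rw [ysign, ← zpow_natCast, ← zpow_mul]
        rcases Int.even_or_odd (((y.getD m 0 : ℕ) : ℤ) * D.cartan m s) with hz | hz
        · exact Or.inl hz.neg_one_zpow
        · exact Or.inr hz.neg_one_zpow
      rw [Finset.prod_range_succ]
      rcases ih (by omega) with h1 | h1 <;> rcases hy with h3 | h3 <;> simp [h1, h3]
  exact key D.rank le_rfl

theorem chi_eq_iff' (h2 : (2 : F) ≠ 0) (y y' : List ℕ) {r s : ℕ} (hr : r < D.nroots)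
    (hs : s < D.nroots) :
    chi D (ysign F y) r = chi D (ysign F y') s ↔ parT T y r = parT T y' s := by
  refine ⟨fun e => ?_, fun e => ?_⟩
  · rw [Bool.eq_iff_iff, ← chi_ysign h h2 y hr, ← chi_ysign h h2 y' hs, e]
  · have hh : chi D (ysign F y) r = 1 ↔ chi D (ysign F y') s = 1 := by
      rw [chi_ysign h h2 y hr, chi_ysign h h2 y' hs, e]
    rcases chi_ysign_cases h (F := F) y hr with h1 | h1 <;>
      rcases chi_ysign_cases h (F := F) y' hs with h3 | h3
    · rw [h1, h3]
    · rw [h1, hh.1 h1]
    · rw [hh.2 h3, h3]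
    · rw [h1, h3]

theorem chi_eq_iff (h2 : (2 : F) ≠ 0) (y : List ℕ) {r s : ℕ} (hr : r < D.nroots)
    (hs : s < D.nroots) :
    chi D (ysign F y) r = chi D (ysign F y) s ↔ parT T y r = parT T y s :=
  chi_eq_iff' h h2 y y hr hs

open Classical in
omit h in
/-- The group generated by the first `k` generators. -/
noncomputable def subFin (D : ChevalleyDatum) (S : Stab) (k : ℕ) :
    Finset (Equiv.Perm (Fin D.nroots)) :=
  Finset.univ.filter fun σ => ∃ l : List ℕ, (∀ i ∈ l, i < k) ∧
    σ = (l.map fun i => sW D (toW D (genW S i))).prod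

open Classical in
omit h in
theorem mem_subFin {S : Stab} {k : ℕ} {σ : Equiv.Perm (Fin D.nroots)} :
    σ ∈ subFin D S k ↔ ∃ l : List ℕ, (∀ i ∈ l, i < k) ∧
      σ = (l.map fun i => sW D (toW D (genW S i))).prod := by
  simp [subFin]

omit h in
/-- The count of fixed positive roots made negative. -/
def flipC (T : Tab) (S : Stab) (f : ℕ → ℕ) : ℕ :=
  countBelow T.nroots fun s =>
    Nat.ble (T.nroots / 2) s && parT T S.y s && Nat.blt (f s) (T.nroots / 2)

theorem flipT_eq (h2 : (2 : F) ≠ 0) (S : Stab) (σ : Equiv.Perm (Fin D.nroots)) (f : ℕ → ℕ)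
    (hf : ∀ s : Fin D.nroots, (σ s).val = f s.val) :
    flipT (ysign F S.y) σ = flipC T S f := by
  classical
  rw [flipC, countBelow_eq, flipT]
  have hn := nroots_eq h.arr (D := D)
  refine Finset.card_bij (fun r _ => r.val) (fun r hr => ?_) (fun r _ r' _ e => Fin.ext e)
    (fun t ht => ?_)
  · simp only [Finset.mem_filter, Finset.mem_univ, true_and, Finset.mem_range] at hr ⊢
    refine ⟨hn ▸ r.isLt, ?_⟩
    rw [Bool.and_eq_true, Bool.and_eq_true, Nat.ble_eq, Nat.blt_eq, ← hn, ← hf]
    exact ⟨⟨hr.2.1, (chi_ysign h h2 S.y r.isLt).1 hr.1⟩, hr.2.2⟩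
  · simp only [Finset.mem_filter, Finset.mem_range, Bool.and_eq_true, Nat.ble_eq, Nat.blt_eq] at ht
    refine ⟨⟨t, hn ▸ ht.1⟩, ?_, rfl⟩
    simp only [Finset.mem_filter, Finset.mem_univ, true_and]
    refine ⟨(chi_ysign h h2 S.y (hn ▸ ht.1)).2 ht.2.1.2, by rw [hn]; exact ht.2.1.1, ?_⟩
    rw [hf ⟨t, hn ▸ ht.1⟩]
    exact lt_of_lt_of_eq ht.2.2 (by rw [hn])

variable {S : Stab} (hS : stabT T S = true) (h2 : (2 : F) ≠ 0)
include hS

theorem gen_spec {j : ℕ} (hj : j < S.steps.length) :
    (∀ i ∈ genW S j, i < T.rank) ∧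
      (∀ s : Fin D.nroots, parT T S.y (sW D (toW D (genW S j)) s).val = parT T S.y s.val) := by
  simp only [stabT, Bool.and_eq_true] at hS
  obtain ⟨⟨⟨⟨⟨⟨hlen, hg⟩, -⟩, -⟩, -⟩, -⟩, -⟩ := hS
  have hj' : j < S.gens.length := by rw [Nat.eq_of_beq_eq_true hlen]; exact hj
  have hh := List.all_eq_true.1 hg _ (List.getElem_mem hj')
  rw [Bool.and_eq_true] at hh
  have e : genW S j = S.gens[j].refl := by simp [genW, List.getD_eq_getElem?_getD, hj']
  have hok := hh.1
  simp only [RWord.ok, Bool.and_eq_true, Nat.blt_eq] at hok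
  have hlt : ∀ i ∈ genW S j, i < T.rank := by
    rw [e]
    intro i hi
    simp only [RWord.refl, List.mem_append, List.mem_cons, List.mem_reverse] at hi
    rcases hi with hi | rfl | hi
    · exact all_lt h hok.1.2 i hi
    · exact hok.1.1.2
    · exact all_lt h hok.1.2 i hi
  refine ⟨hlt, fun s => ?_⟩
  have := allBelow_spec hh.2 s.val (nroots_eq h.arr (D := D) ▸ s.isLt)
  rw [beq_iff_eq] at this
  rw [act_val h hlt, e]
  exact this

theorem sub_par {k : ℕ} (hk : k ≤ S.steps.length) {σ : Equiv.Perm (Fin D.nroots)}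
    (hσ : σ ∈ subFin D S k) (s : Fin D.nroots) : parT T S.y (σ s).val = parT T S.y s.val := by
  obtain ⟨l, hl, rfl⟩ := mem_subFin.1 hσ
  clear hσ
  induction l generalizing s with
  | nil => simp
  | cons i l ih =>
    rw [List.map_cons, List.prod_cons, Equiv.Perm.mul_apply,
      (gen_spec h hS (lt_of_lt_of_le (hl i (by simp)) hk)).2]
    exact ih s fun x hx => hl x (by simp [hx])

theorem sub_lev {k j : ℕ} (hkj : k ≤ j) (hj : j < S.steps.length)
    {σ : Equiv.Perm (Fin D.nroots)} (hσ : σ ∈ subFin D S k) (s : Fin D.nroots) :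
    lev T (S.steps.getD j ⟨[], []⟩).weight (σ s).val =
      lev T (S.steps.getD j ⟨[], []⟩).weight s.val := by
  have hS' := hS
  simp only [stabT, Bool.and_eq_true] at hS'
  obtain ⟨⟨⟨⟨⟨-, hinv⟩, -⟩, -⟩, -⟩, -⟩ := hS'
  obtain ⟨l, hl, rfl⟩ := mem_subFin.1 hσ
  clear hσ
  induction l generalizing s with
  | nil => simp
  | cons i l ih =>
    have hi : i < j := lt_of_lt_of_le (hl i (by simp)) hkj
    rw [List.map_cons, List.prod_cons, Equiv.Perm.mul_apply,
      act_val h (gen_spec h hS (by omega)).1]
    set z := (List.map (fun i => sW D (toW D (genW S i))) l).prod s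
    have h1 := allBelow_spec (allBelow_spec hinv j hj) i (by omega)
    simp only [show Nat.blt i j = true by simpa [Nat.blt_eq] using hi, cond_true] at h1
    have h2' := allBelow_spec h1 z.val (nroots_eq h.arr (D := D) ▸ z.isLt)
    rw [beq_iff_eq] at h2'
    rw [h2']
    exact ih s fun x hx => hl x (by simp [hx])

theorem lev_nonneg {j : ℕ} (hj : j < S.steps.length) {s : ℕ} (hs : s < D.nroots)
    (hp : D.nroots / 2 ≤ s) (hpar : parT T S.y s = true) :
    0 ≤ lev T (S.steps.getD j ⟨[], []⟩).weight s := by
  simp only [stabT, Bool.and_eq_true] at hS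
  obtain ⟨⟨⟨⟨-, hnn⟩, -⟩, -⟩, -⟩ := hS
  have hn := nroots_eq h.arr (D := D)
  have := allBelow_spec (allBelow_spec hnn j hj) s (hn ▸ hs)
  rw [show (Nat.ble (T.nroots / 2) s && parT T S.y s) = true by
    rw [Bool.and_eq_true, Nat.ble_eq, ← hn]; exact ⟨hp, hpar⟩, cond_true, decide_eq_true_eq] at this
  exact this

omit hS in
theorem lev_neg (f : List ℤ) (s : Fin D.nroots) :
    lev T f (h.facts.negFin s).val = -lev T f s.val := by
  simp only [lev]
  rw [← List.sum_toFinset _ List.nodup_range, ← List.sum_toFinset _ List.nodup_range,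
    ← Finset.sum_neg_distrib]
  refine Finset.sum_congr rfl fun j hj => ?_
  rw [List.mem_toFinset, List.mem_range, ← rank_eq h.arr] at hj
  show T.co (D.neg s.val) j * _ = _
  rw [h.facts.co_neg s.val s.isLt j hj, neg_mul]

omit hS in
theorem par_neg (y : List ℕ) (s : Fin D.nroots) :
    parT T y (h.facts.negFin s).val = parT T y s.val := by
  simp only [parT]
  rw [show ((List.range T.rank).map fun i => (y.getD i 0 : ℤ) * T.aa i (h.facts.negFin s).val).sum =
    -((List.range T.rank).map fun i => (y.getD i 0 : ℤ) * T.aa i s.val).sum by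
    rw [← List.sum_toFinset _ List.nodup_range, ← List.sum_toFinset _ List.nodup_range,
      ← Finset.sum_neg_distrib]
    refine Finset.sum_congr rfl fun i hi => ?_
    rw [List.mem_toFinset, List.mem_range, ← rank_eq h.arr] at hi
    show _ * T.aa i (D.neg s.val) = _
    rw [← cartan_eq h.arr hi (h.facts.neg_lt s.isLt), h.facts.cartan_neg s.val s.isLt i hi,
      cartan_eq h.arr hi s.isLt, mul_neg], Int.neg_emod_two]

theorem step_sum (h2 : (2 : F) ≠ 0) {R : Type} [CommSemiring R] (x : R) {k : ℕ}
    (hk : k < S.steps.length) :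
    ∑ σ ∈ subFin D S (k + 1), x ^ flipT (ysign F S.y) σ =
      (∑ a ∈ Finset.range (S.steps.getD k ⟨[], []⟩).cosets.length,
        x ^ flipC T S (LacedInvol.actT T
          ((S.steps.getD k ⟨[], []⟩).cosets.getD a ⟨[], (0, 0), []⟩).word)) *
      ∑ σ ∈ subFin D S k, x ^ flipT (ysign F S.y) σ := by
  classical
  have hS' := hS
  simp only [stabT, Bool.and_eq_true] at hS'
  obtain ⟨⟨⟨-, hsteps⟩, -⟩, -⟩ := hS'
  have hst := allBelow_spec hsteps k hk
  set L := S.steps.getD k ⟨[], []⟩
  simp only [stepT', Bool.and_eq_true, Nat.blt_eq] at hst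
  obtain ⟨⟨hpos, hcos⟩, hkeys⟩ := hst
  set W : ℕ → List ℕ := fun a => (L.cosets.getD a ⟨[], (0, 0), []⟩).word
  have hn := nroots_eq h.arr (D := D)
  have hC : ∀ a < L.cosets.length, (∀ i ∈ W a, i < T.rank) ∧
      (a = 0 → W a = []) ∧
      (a ≠ 0 → ∃ j ≤ k, ∃ b < a, sW D (toW D (W a)) =
        sW D (toW D (genW S j)) * sW D (toW D (W b))) ∧
      (∀ j ≤ k, (∃ b < L.cosets.length, sW D (toW D (genW S j)) * sW D (toW D (W a)) =
          sW D (toW D (W b))) ∨
        ∃ i < k, sW D (toW D (genW S j)) * sW D (toW D (W a)) =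
          sW D (toW D (W a)) * sW D (toW D (genW S i))) ∧
      (∀ s : Fin D.nroots, inK T S k s.val = true →
        D.nroots / 2 ≤ (sW D (toW D (W a)) s).val) := by
    intro a ha
    have hh := allBelow_spec hcos a ha
    simp only [Bool.and_eq_true] at hh
    obtain ⟨⟨⟨hw, hpar⟩, hnb⟩, hposk⟩ := hh
    have hwl : ∀ i ∈ W a, i < T.rank := all_lt h hw
    refine ⟨hwl, fun e => ?_, fun e => ?_, fun j hj => ?_, fun s hs => ?_⟩
    · subst e
      simpa [W] using hpar
    · simp only [beq_eq_false_iff_ne.2 e, cond_false, Bool.and_eq_true, Nat.blt_eq, Nat.ble_eq] at hpar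
      exact ⟨_, hpar.1.2, _, hpar.1.1, by rw [← sW_append, ← toW_append, eqW_spec h hpar.2]⟩
    · have hb := allBelow_spec hnb j (by omega)
      rcases hc : (L.cosets.getD a ⟨[], (0, 0), []⟩).nb.getD j (false, k) with ⟨flag, b⟩
      rw [hc] at hb
      cases flag
      · simp only [Bool.and_eq_true, Nat.blt_eq] at hb
        exact Or.inr ⟨b, hb.1, by
          rw [← sW_append, ← toW_append, ← sW_append, ← toW_append]; exact eqW_spec h hb.2⟩
      · simp only [Bool.and_eq_true, Nat.blt_eq] at hb
        exact Or.inl ⟨b, hb.1, by rw [← sW_append, ← toW_append]; exact eqW_spec h hb.2⟩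
    · have := allBelow_spec hposk s.val (hn ▸ s.isLt)
      rw [hs, cond_true, Nat.ble_eq] at this
      rw [act_val h hwl]
      exact le_of_eq_of_le (by rw [hn]) this
  have himage : subFin D S (k + 1) =
      (Finset.range L.cosets.length ×ˢ subFin D S k).image
        (fun p => sW D (toW D (W p.1)) * p.2) := by
    have hmemW : ∀ a < L.cosets.length, ∃ l : List ℕ, (∀ i ∈ l, i < k + 1) ∧
        sW D (toW D (W a)) = (l.map fun i => sW D (toW D (genW S i))).prod := by
      intro a
      induction a using Nat.strong_induction_on with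
      | _ a iha =>
        intro ha
        by_cases h0 : a = 0
        · exact ⟨[], by simp, by rw [(hC a ha).2.1 h0]; simp [toW, sW_nil]⟩
        · obtain ⟨j, hj, b, hb, e⟩ := (hC a ha).2.2.1 h0
          obtain ⟨l, hl, el⟩ := iha b hb (by omega)
          refine ⟨j :: l, fun i hi => ?_, by rw [e, el, List.map_cons, List.prod_cons]⟩
          rcases List.mem_cons.1 hi with rfl | hi
          · omega
          · exact hl i hi
    ext σ
    simp only [Finset.mem_image, Finset.mem_product, Finset.mem_range, Prod.exists, mem_subFin]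
    constructor
    · rintro ⟨l, hl, rfl⟩
      induction l with
      | nil => exact ⟨0, 1, ⟨hpos, [], by simp, rfl⟩, by
          rw [(hC 0 hpos).2.1 rfl]; simp [toW, sW_nil]⟩
      | cons j l ih =>
        obtain ⟨a, τ, ⟨ha, w, hw, rfl⟩, he⟩ := ih fun i hi => hl i (by simp [hi])
        rcases (hC a ha).2.2.2.1 j (by have := hl j (by simp); omega) with ⟨b, hb, e⟩ | ⟨i, hi, e⟩
        · exact ⟨b, _, ⟨hb, w, hw, rfl⟩, by rw [← e, List.map_cons, List.prod_cons, ← he, mul_assoc]⟩
        · refine ⟨a, _, ⟨ha, i :: w, ?_, rfl⟩, ?_⟩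
          · rintro x hx
            rcases List.mem_cons.1 hx with rfl | hx
            · exact hi
            · exact hw x hx
          · rw [List.map_cons, List.prod_cons, List.map_cons, List.prod_cons, ← he, ← mul_assoc,
              ← mul_assoc, e]
    · rintro ⟨a, τ, ⟨ha, w, hw, rfl⟩, rfl⟩
      obtain ⟨l, hl, el⟩ := hmemW a ha
      refine ⟨l ++ w, fun i hi => ?_, by rw [List.map_append, List.prod_append, ← el]⟩
      rcases List.mem_append.1 hi with hi | hi
      · exact hl i hi
      · exact (hw i hi).trans (Nat.lt_succ_self k)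
  have hinj : Set.InjOn (fun p : ℕ × Equiv.Perm (Fin D.nroots) => sW D (toW D (W p.1)) * p.2)
      ↑(Finset.range L.cosets.length ×ˢ subFin D S k) := by
    rintro ⟨a, τ⟩ ha ⟨b, τ'⟩ hb e
    simp only [Finset.coe_product, Set.mem_prod, Finset.mem_coe, Finset.mem_range] at ha hb
    simp only at e
    have key : ∀ (c : ℕ) (hc : c < L.cosets.length) (σ : Equiv.Perm (Fin D.nroots)),
        σ ∈ subFin D S k → ∀ q : Fin D.nroots,
        lev T L.weight ((sW D (toW D (W c)) * σ)⁻¹ q).val =
          lev T L.weight (LacedInvol.actT T (W c).reverse q.val) := by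
      intro c hc σ hσ q
      have h1 := sub_lev h hS (le_refl k) hk hσ ((sW D (toW D (W c)) * σ)⁻¹ q)
      rw [← act_val h (fun i hi => (hC c hc).1 i (List.mem_reverse.1 hi)), toW_reverse,
        h.facts.sW_reverse]
      rw [← h1, mul_inv_rev, ← Equiv.Perm.mul_apply σ, mul_inv_cancel_left]
    have hnd := nodupT_spec hkeys
    have hab : a = b := by
      refine (List.Nodup.getElem_inj_iff hnd (hi := by simpa using ha.1) (hj := by simpa using hb.1)).1 ?_
      simp only [List.getElem_map]
      refine List.map_congr_left fun q hq => ?_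
      have hq' : q < D.rank := by rw [rank_eq h.arr]; exact List.mem_range.1 hq
      have e1 := key a ha.1 τ ha.2 (h.facts.simpleFin ⟨q, hq'⟩)
      have e2 := key b hb.1 τ' hb.2 (h.facts.simpleFin ⟨q, hq'⟩)
      rw [e] at e1
      have e3 := e1.symm.trans e2
      simpa [W, List.getD_eq_getElem?_getD, ha.1, hb.1,
        show (h.facts.simpleFin ⟨q, hq'⟩).val = T.smp q from simple_eq h.arr hq'] using e3
    subst hab
    exact Prod.ext rfl (mul_left_cancel e)
  have hadd : ∀ p ∈ Finset.range L.cosets.length ×ˢ subFin D S k,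
      flipT (ysign F S.y) (sW D (toW D (W p.1)) * p.2) =
        flipC T S (LacedInvol.actT T (W p.1)) + flipT (ysign F S.y) p.2 := by
    rintro ⟨a, τ⟩ hp
    simp only [Finset.mem_product, Finset.mem_range] at hp
    obtain ⟨ha, hτ⟩ := hp
    set u := sW D (toW D (W a))
    rw [← flipT_eq h h2 S u (LacedInvol.actT T (W a)) fun s => act_val h (hC a ha).1 s]
    have hpar : ∀ s : Fin D.nroots, chi D (ysign F S.y) s.val = 1 ↔ parT T S.y s.val = true :=
      fun s => chi_ysign h h2 S.y s.isLt
    have hin : ∀ s : Fin D.nroots, inK T S k s.val = true ↔ D.nroots / 2 ≤ s.val ∧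
        parT T S.y s.val = true ∧ ∀ j < S.steps.length, k ≤ j →
          lev T (S.steps.getD j ⟨[], []⟩).weight s.val = 0 := by
      intro s
      simp only [inK, Bool.and_eq_true, Nat.ble_eq, ← hn]
      refine ⟨fun ⟨⟨a1, a2⟩, a3⟩ => ⟨a1, a2, fun j hj hkj => ?_⟩,
        fun ⟨a1, a2, a3⟩ => ⟨⟨a1, a2⟩, allBelow_of fun j hj => ?_⟩⟩
      · have := allBelow_spec a3 j hj
        simpa [show Nat.ble k j = true by simpa [Nat.ble_eq] using hkj] using this
      · by_cases hkj : k ≤ j
        · simp [show Nat.ble k j = true by simpa [Nat.ble_eq] using hkj, -List.getD_eq_getElem?_getD,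
            a3 j hj hkj]
        · simp [show Nat.ble k j = false from Bool.eq_false_iff.2 fun h' => hkj (Nat.le_of_ble_eq_true h')]
    have hτp : ∀ s : Fin D.nroots, parT T S.y (τ s).val = parT T S.y s.val :=
      sub_par h hS hk.le hτ
    have hτl : ∀ j < S.steps.length, k ≤ j → ∀ s : Fin D.nroots,
        lev T (S.steps.getD j ⟨[], []⟩).weight (τ s).val =
          lev T (S.steps.getD j ⟨[], []⟩).weight s.val :=
      fun j hj hkj => sub_lev h hS hkj hj hτ
    have hout : ∀ s : Fin D.nroots, D.nroots / 2 ≤ s.val → parT T S.y s.val = true →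
        inK T S k s.val ≠ true → D.nroots / 2 ≤ (τ s).val := by
      intro s hs hsp hsK
      obtain ⟨j, hj, hkj, hne⟩ : ∃ j < S.steps.length, k ≤ j ∧
          lev T (S.steps.getD j ⟨[], []⟩).weight s.val ≠ 0 := by
        by_contra hc
        push Not at hc
        exact hsK ((hin s).2 ⟨hs, hsp, hc⟩)
      by_contra hneg
      have h1 := lev_nonneg h hS hj (h.facts.neg_lt (τ s).isLt)
        ((h.facts.negFin_pos (τ s)).2 (by omega)) (by
          have := par_neg h S.y (τ s); rw [hτp, hsp] at this; exact this)
      have h1' := lev_neg h (S.steps.getD j ⟨[], []⟩).weight (τ s)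
      rw [hτl j hj hkj] at h1'
      have h2' := lev_nonneg h hS hj s.isLt hs hsp
      change lev T _ (h.facts.negFin (τ s)).val ≥ 0 at h1
      omega
    have hτK : ∀ s : Fin D.nroots, inK T S k s.val = true →
        (D.nroots / 2 ≤ (τ s).val → inK T S k (τ s).val = true) ∧
        ((τ s).val < D.nroots / 2 → inK T S k (h.facts.negFin (τ s)).val = true) := by
      intro s hs
      obtain ⟨a1, a2, a3⟩ := (hin s).1 hs
      refine ⟨fun hp => (hin _).2 ⟨hp, by rw [hτp, a2], fun j hj hkj => by rw [hτl j hj hkj, a3 j hj hkj]⟩,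
        fun hp => (hin _).2 ⟨(h.facts.negFin_pos _).2 hp, by rw [par_neg h, hτp, a2],
          fun j hj hkj => by rw [lev_neg h, hτl j hj hkj, a3 j hj hkj, neg_zero]⟩⟩
    let A := Finset.univ.filter fun s : Fin D.nroots =>
      chi D (ysign F S.y) s.val = 1 ∧ D.nroots / 2 ≤ s.val ∧ (τ s).val < D.nroots / 2
    let B := Finset.univ.filter fun s : Fin D.nroots =>
      chi D (ysign F S.y) s.val = 1 ∧ D.nroots / 2 ≤ s.val ∧ (u s).val < D.nroots / 2
    have hu : ∀ s : Fin D.nroots, inK T S k s.val = true → D.nroots / 2 ≤ (u s).val := (hC a ha).2.2.2.2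
    have hBout : ∀ s ∈ B, inK T S k s.val ≠ true := fun s hs hK => by
      simp only [B, Finset.mem_filter] at hs
      exact absurd (hu s hK) (not_le.2 hs.2.2.2)
    have hBpre : ∀ s ∈ B, D.nroots / 2 ≤ (τ⁻¹ s).val ∧ inK T S k (τ⁻¹ s).val ≠ true := by
      intro s hs
      have hts : τ (τ⁻¹ s) = s := by
        rw [← Equiv.Perm.mul_apply, mul_inv_cancel, Equiv.Perm.one_apply]
      simp only [B, Finset.mem_filter, Finset.mem_univ, true_and] at hs
      obtain ⟨hs1, hs2, hs3⟩ := hs
      have hK : inK T S k (τ⁻¹ s).val ≠ true := fun hK => by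
        have := (hτK _ hK).1 (by rw [hts]; exact hs2)
        rw [hts] at this
        exact absurd (hu s this) (not_le.2 hs3)
      refine ⟨?_, hK⟩
      by_contra hneg
      have hneg' : (τ⁻¹ s).val < D.nroots / 2 := not_le.1 hneg
      have hp' : parT T S.y (τ⁻¹ s).val = true := by
        rw [← hτp, hts]; exact (hpar s).1 hs1
      by_cases hK' : inK T S k (h.facts.negFin (τ⁻¹ s)).val = true
      · obtain ⟨a1, a2, a3⟩ := (hin _).1 hK'
        have hsK : inK T S k s.val = true := (hin s).2 ⟨hs2, (hpar s).1 hs1, fun j hj hkj => by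
          have := a3 j hj hkj
          rw [lev_neg h, ← hτl j hj hkj, hts] at this
          omega⟩
        exact absurd (hu s hsK) (not_le.2 hs3)
      · have h1 := hout _ ((h.facts.negFin_pos _).2 hneg') (by rw [par_neg h, hp']) hK'
        have hc : τ (h.facts.negFin (τ⁻¹ s)) = h.facts.negFin s := by
          obtain ⟨l, hl, hle⟩ := mem_subFin.1 hτ
          have key : ∀ (l : List ℕ) (z : Fin D.nroots),
              (l.map fun i => sW D (toW D (genW S i))).prod (h.facts.negFin z) =
                h.facts.negFin ((l.map fun i => sW D (toW D (genW S i))).prod z) := by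
            intro l
            induction l with
            | nil => simp
            | cons i l ih =>
              intro z
              simp only [List.map_cons, List.prod_cons, Equiv.Perm.mul_apply]
              rw [ih, h.facts.sW_neg]
          conv_lhs => rw [hle]
          rw [key, ← hle, hts]
        rw [hc] at h1
        have := (h.facts.negFin_pos s).1 h1
        omega
    show (Finset.univ.filter fun s : Fin D.nroots =>
      chi D (ysign F S.y) s.val = 1 ∧ D.nroots / 2 ≤ s.val ∧ ((u * τ) s).val < D.nroots / 2).card =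
        B.card + A.card
    have hsplit : (Finset.univ.filter fun s : Fin D.nroots =>
        chi D (ysign F S.y) s.val = 1 ∧ D.nroots / 2 ≤ s.val ∧ ((u * τ) s).val < D.nroots / 2) =
        B.image (fun s => τ⁻¹ s) ∪ A := by
      ext s
      rw [Finset.mem_filter]
      simp only [Finset.mem_filter, Finset.mem_univ, true_and, Finset.mem_union, Finset.mem_image,
        Equiv.Perm.mul_apply]
      constructor
      · rintro ⟨h1, h2, h3⟩
        by_cases hτs : (τ s).val < D.nroots / 2
        · exact Or.inr (by simp [A, h1, h2, hτs])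
        · refine Or.inl ⟨τ s, ?_, by rw [← Equiv.Perm.mul_apply, inv_mul_cancel, Equiv.Perm.one_apply]⟩
          simp only [B, Finset.mem_filter, Finset.mem_univ, true_and]
          exact ⟨(hpar _).2 (by rw [hτp]; exact (hpar s).1 h1), not_lt.1 hτs, h3⟩
      · rintro (⟨w, hw, rfl⟩ | hs)
        · have h4 := hBpre w hw
          simp only [B, Finset.mem_filter, Finset.mem_univ, true_and] at hw
          have hts : τ (τ⁻¹ w) = w := by
            rw [← Equiv.Perm.mul_apply, mul_inv_cancel, Equiv.Perm.one_apply]
          refine ⟨(hpar _).2 ?_, h4.1, by rw [hts]; exact hw.2.2⟩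
          rw [← hτp, hts]; exact (hpar w).1 hw.1
        · simp only [A, Finset.mem_filter, Finset.mem_univ, true_and] at hs
          refine ⟨hs.1, hs.2.1, ?_⟩
          have hK : inK T S k s.val = true := by
            by_contra hK
            exact absurd (hout s hs.2.1 ((hpar s).1 hs.1) hK) (not_le.2 hs.2.2)
          have h5 := hu _ ((hτK s hK).2 hs.2.2)
          rw [h.facts.sW_neg, h.facts.negFin_pos] at h5
          exact h5
    rw [hsplit, Finset.card_union_of_disjoint, Finset.card_image_of_injective _ (τ⁻¹).injective]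
    rw [Finset.disjoint_left]
    rintro s hs1 hs2
    obtain ⟨w, hw, rfl⟩ := Finset.mem_image.1 hs1
    simp only [A, Finset.mem_filter] at hs2
    simp only [B, Finset.mem_filter] at hw
    rw [← Equiv.Perm.mul_apply, mul_inv_cancel, Equiv.Perm.one_apply] at hs2
    omega
  rw [himage, Finset.sum_image hinj, Finset.sum_mul_sum, ← Finset.sum_product']
  exact Finset.sum_congr rfl fun p hp => by rw [hadd p hp, pow_add]

omit hS in
theorem pev_stepPoly (x : ℤ) (L : Step') :
    pev x (stepPoly T S L) = ∑ a ∈ Finset.range L.cosets.length,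
      x ^ flipC T S (LacedInvol.actT T (L.cosets.getD a ⟨[], (0, 0), []⟩).word) := by
  have _ := h
  rw [stepPoly]
  induction L.cosets with
  | nil => simp [pev]
  | cons C L ih =>
    rw [List.foldr_cons, pev_padd, pev_mono, ih, List.length_cons, Finset.sum_range_succ', add_comm]
    simp [flipC]

omit hS in
theorem subFin_zero : subFin D S 0 = {1} := by
  have _ := h
  ext σ
  rw [mem_subFin, Finset.mem_singleton]
  refine ⟨fun ⟨l, hl, e⟩ => ?_, fun e => ⟨[], by simp, by simp [e]⟩⟩
  rcases l with _ | ⟨a, l⟩
  · simpa using e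
  · exact absurd (hl a (by simp)) (by omega)

theorem stab_sum (h2 : (2 : F) ≠ 0) {wcard : ℕ} {degs : List ℕ}
    (hW : (wFin D D.rank).card = wcard) (hp : polyT T S wcard degs = true) (x : ℤ) :
    (∑ σ ∈ stabFin D (ysign F S.y), x ^ flipT (ysign F S.y) σ) * (x - 1) ^ D.rank =
      (degs.map fun d => x ^ d - 1).prod := by
  classical
  simp only [polyT, Bool.and_eq_true, beq_iff_eq] at hp
  obtain ⟨hcard, hpoly⟩ := hp
  have hone : flipT (ysign F S.y) (1 : Equiv.Perm (Fin D.nroots)) = 0 :=
    Finset.card_eq_zero.2 (Finset.filter_eq_empty_iff.2 fun r _ ⟨_, h1, h3⟩ => by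
      rw [Equiv.Perm.one_apply] at h3; omega)
  have hchain : ∀ k ≤ S.steps.length,
      ∑ σ ∈ subFin D S k, x ^ flipT (ysign F S.y) σ =
        (((S.steps.take k).map (stepPoly T S)).map (pev x)).prod ∧
      (subFin D S k).card = ((S.steps.take k).map fun L => L.cosets.length).prod := by
    intro k
    induction k with
    | zero => intro _; simp [subFin_zero h, hone]
    | succ k ih =>
      intro hk
      have hk' : k < S.steps.length := hk
      obtain ⟨ih1, ih2⟩ := ih (by omega)
      have hg : S.steps.getD k ⟨[], []⟩ = S.steps[k] := by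
        simp [List.getD_eq_getElem?_getD, hk']
      refine ⟨?_, ?_⟩
      · rw [step_sum h hS h2 x hk', ih1, ← pev_stepPoly h x, hg, List.take_add_one,
          List.getElem?_eq_getElem hk', Option.toList_some, List.map_append, List.map_append,
          List.prod_append, mul_comm]
        simp
      · have := step_sum h hS h2 (1 : ℕ) hk'
        simp only [one_pow, Finset.sum_const, smul_eq_mul, mul_one, Finset.card_range] at this
        rw [this, ih2, hg, List.take_add_one, List.getElem?_eq_getElem hk', Option.toList_some,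
          List.map_append, List.prod_append, mul_comm]
        simp
  obtain ⟨hsum, hsub⟩ := hchain _ le_rfl
  rw [List.take_length] at hsum hsub
  have hle : subFin D S S.steps.length ⊆ stabFin D (ysign F S.y) := by
    intro σ hσ
    refine Finset.mem_filter.2 ⟨?_, fun r => (chi_eq_iff h h2 S.y (σ r).isLt r.isLt).2
      (sub_par h hS le_rfl hσ r)⟩
    obtain ⟨l, -, rfl⟩ := mem_subFin.1 hσ
    clear hσ
    refine mem_wFin_rank.2 ⟨l.flatMap fun i => toW D (genW S i), ?_⟩
    induction l with
    | nil => simp [sW_nil]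
    | cons i l ih => rw [List.map_cons, List.prod_cons, List.flatMap_cons, sW_append,
        ih]
  have hS' := hS
  simp only [stabT, Bool.and_eq_true] at hS'
  obtain ⟨⟨-, horb⟩, hnd⟩ := hS'
  have hnd' := nodupT_spec hnd
  have hinj : (stabFin D (ysign F S.y)).card * S.orbit.length ≤ (wFin D D.rank).card := by
    rw [← Finset.card_range S.orbit.length, ← Finset.card_product]
    refine Finset.card_le_card_of_injOn (fun p => p.1 * sW D (toW D (S.orbit.getD p.2 [])))
      (fun p hp => ?_) ?_
    · simp only [Finset.coe_product, Set.mem_prod, Finset.mem_coe] at hp ⊢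
      obtain ⟨l, hl⟩ := mem_wFin_rank.1 (Finset.mem_filter.1 hp.1).1
      exact mem_wFin_rank.2 ⟨l ++ toW D (S.orbit.getD p.2 []), by rw [sW_append, ← hl]⟩
    · rintro ⟨σ, a⟩ ha ⟨τ, b⟩ hb e
      simp only [Finset.coe_product, Set.mem_prod, Finset.mem_coe, Finset.mem_range] at ha hb
      simp only at e
      have hab : a = b := by
        refine (List.Nodup.getElem_inj_iff hnd' (hi := by simpa using ha.2) (hj := by simpa using hb.2)).1 ?_
        simp only [List.getElem_map]
        refine List.map_congr_left fun q hq => ?_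
        have hq' : q < D.rank := by rw [rank_eq h.arr]; exact List.mem_range.1 hq
        have key : ∀ (ρ : Equiv.Perm (Fin D.nroots)) (c : ℕ) (hc : c < S.orbit.length),
            ρ ∈ stabFin D (ysign F S.y) →
            parT T S.y ((ρ * sW D (toW D (S.orbit.getD c []))) (h.facts.simpleFin ⟨q, hq'⟩)).val =
              parT T S.y (LacedInvol.actT T S.orbit[c] (T.smp q)) := by
          intro ρ c hc hρ
          rw [Equiv.Perm.mul_apply, (chi_eq_iff h h2 S.y (ρ _).isLt (Fin.isLt _)).1
            ((Finset.mem_filter.1 hρ).2 _), show S.orbit.getD c [] = S.orbit[c] by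
              simp [List.getD_eq_getElem?_getD, hc],
            act_val h (all_lt h (List.all_eq_true.1 horb _ (List.getElem_mem hc))),
            show (h.facts.simpleFin ⟨q, hq'⟩).val = T.smp q from simple_eq h.arr hq']
        rw [← key σ a ha.2 ha.1, ← key τ b hb.2 hb.1, e]
      subst hab
      exact Prod.ext (mul_right_cancel e) rfl
  have heq : subFin D S S.steps.length = stabFin D (ysign F S.y) := by
    refine Finset.eq_of_subset_of_card_le hle ?_
    rw [hW, ← Nat.eq_of_beq_eq_true hcard, ← hsub, mul_comm] at hinj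
    rcases Nat.eq_zero_or_pos S.orbit.length with h0 | h0
    · rw [h0, zero_mul] at hcard
      have h1 : 0 < (wFin D D.rank).card :=
        Finset.card_pos.2 ⟨1, mem_wFin_rank.2 ⟨[], sW_nil.symm⟩⟩
      rw [hW, ← Nat.eq_of_beq_eq_true hcard] at h1
      omega
    · exact Nat.le_of_mul_le_mul_left hinj h0
  rw [← heq, hsum]
  have e := congrArg (pev x) hpoly
  rw [pev_pmul, pev_prod x (List.replicate _ _), pev_prod x (degs.map _), List.map_replicate,
    List.prod_replicate, List.map_map (g := pev x) (f := powSub), pev_powSub, pow_one, pev_prod,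
    ← rank_eq h.arr] at e
  rw [e]
  congr 1
  exact List.map_congr_left fun d _ => pev_powSub x d

end CfsgLib.Chev.OddInvol
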