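import Cfsg.Agent.Lib.Known.OddInvol.SubWeyl

/-!
# The classes of involutions

When the Cartan map has trivial kernel the involutions of the torus are the `hT c` with all
`c i = ± 1`; a certificate carries each to one of two of them, whose centralisers have different
orders.
-/

set_option autoImplicit false

namespace CfsgLib.Chev.OddInvol

open Cfsg.Lie CfsgLib.Chev.Table

universe v

/-- The binary digits. -/
def bits (n m : ℕ) : List ℕ := (List.range n).map fun i => m / 2 ^ i % 2

/-- The check that every non-trivial torus involution is moved to one of two. -/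
def classT (T : Tab) (ys yt : List ℕ) (L : List (Bool × List ℕ)) : Bool :=
  allBelow (2 ^ T.rank) fun m => bif Nat.beq m 0 then true else
    ((L.getD (m - 1) (false, [])).2.all fun i => Nat.blt i T.rank) &&
      allBelow T.rank fun q =>
        parT T (bif (L.getD (m - 1) (false, [])).1 then ys else yt)
            (LacedInvol.actT T (L.getD (m - 1) (false, [])).2 (T.smp q)) ==
          parT T (bits T.rank m) (T.smp q)

/-- The number of fixed positive roots. -/
def posC (T : Tab) (y : List ℕ) : ℕ :=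
  countBelow T.nroots fun s => Nat.ble (T.nroots / 2) s && parT T y s

theorem exists_bits : ∀ (n : ℕ) (b : ℕ → ℕ), (∀ i, b i < 2) →
    ∃ m < 2 ^ n, ∀ i < n, m / 2 ^ i % 2 = b i := by
  intro n
  induction n with
  | zero => exact fun b _ => ⟨0, by simp, fun i hi => absurd hi (Nat.not_lt_zero i)⟩
  | succ n ih =>
    intro b hb
    obtain ⟨m, hm, he⟩ := ih (fun i => b (i + 1)) fun i => hb _
    refine ⟨b 0 + 2 * m, by have := hb 0; rw [pow_succ]; omega, fun i hi => ?_⟩
    rcases i with _ | i
    · have := hb 0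
      simp only [pow_zero, Nat.div_one]
      omega
    · rw [pow_succ', ← Nat.div_div_eq_div_mul, show (b 0 + 2 * m) / 2 = m by
        have := hb 0; omega]
      exact he i (by omega)

/-- Conjugate elements have centralisers of the same order. -/
theorem card_centralizer_conj {G : Type*} [Group G] {s t : G} (h : IsConj s t) :
    Nat.card (Subgroup.centralizer ({s} : Set G)) = Nat.card (Subgroup.centralizer ({t} : Set G)) := by
  obtain ⟨g, rfl⟩ := isConj_iff.1 h
  refine Nat.card_congr ((MulAut.conj g).toEquiv.subtypeEquiv fun x => ?_)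
  simp only [Subgroup.mem_centralizer_singleton_iff]
  show _ ↔ g * x * g⁻¹ * (g * s * g⁻¹) = g * s * g⁻¹ * (g * x * g⁻¹)
  refine ⟨fun e => ?_, fun e => ?_⟩
  · calc g * x * g⁻¹ * (g * s * g⁻¹) = g * (x * s) * g⁻¹ := by group
      _ = g * (s * x) * g⁻¹ := by rw [e]
      _ = _ := by group
  · calc x * s = g⁻¹ * (g * x * g⁻¹ * (g * s * g⁻¹)) * g := by group
      _ = g⁻¹ * (g * s * g⁻¹ * (g * x * g⁻¹)) * g := by rw [e]
      _ = s * x := by group

theorem coprime_prod {q : ℕ} (hq : 0 < q) : ∀ {degs : List ℕ}, (∀ d ∈ degs, 0 < d) →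
    Nat.Coprime q (degs.map fun d => q ^ d - 1).prod := by
  intro degs
  induction degs with
  | nil => intro _; simp
  | cons d L ih =>
    intro hd
    rw [List.map_cons, List.prod_cons]
    refine Nat.Coprime.mul_right ?_ (ih fun x hx => hd x (by simp [hx]))
    have h1 : 1 ≤ q ^ d := Nat.one_le_pow _ _ hq
    have h2 : Nat.Coprime (q ^ d) (q ^ d - 1) :=
      ((Nat.coprime_self_sub_left h1).2 (Nat.coprime_one_left _)).symm
    exact (Nat.coprime_pow_left_iff (hd d (by simp)) _ _).1 h2

theorem prod_cast {q : ℕ} (hq : 0 < q) : ∀ degs : List ℕ,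
    (((degs.map fun d => q ^ d - 1).prod : ℕ) : ℤ) = (degs.map fun d => (q : ℤ) ^ d - 1).prod := by
  intro degs
  induction degs with
  | nil => simp
  | cons d L ih =>
    rw [List.map_cons, List.map_cons, List.prod_cons, List.prod_cons, Nat.cast_mul, ih,
      Nat.cast_sub (Nat.one_le_pow _ _ hq), Nat.cast_pow, Nat.cast_one]

variable {D : ChevalleyDatum} {T : Tab} (h : TabOK D T) {F : Type v} [Field F]
include h

theorem chi_linear (c : ℕ → Fˣ) {s : ℕ} (hs : s < D.nroots) :
    chi D c s = ∏ q ∈ Finset.range D.rank, chi D c (D.simple q) ^ T.co s q := by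
  simp only [chi]
  calc ∏ i ∈ Finset.range D.rank, c i ^ D.cartan i s
      = ∏ i ∈ Finset.range D.rank, ∏ q ∈ Finset.range D.rank,
          (c i ^ D.cartan i (D.simple q)) ^ T.co s q := by
        refine Finset.prod_congr rfl fun i hi => ?_
        rw [h.facts.cartan_eq_sum (Finset.mem_range.1 hi) hs, zpow_sum']
        exact Finset.prod_congr rfl fun q _ => by rw [mul_comm, zpow_mul]
    _ = _ := by
        rw [Finset.prod_comm]
        exact Finset.prod_congr rfl fun q _ => Finset.prod_zpow _ _ _

theorem hT_ext' {c d : ℕ → Fˣ}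
    (e : ∀ q < D.rank, chi D c (D.simple q) = chi D d (D.simple q)) : hT D c = hT D d := by
  rw [hT, hT]
  refine dU_congr fun s hs => ?_
  show chi D c s = chi D d s
  rw [chi_linear h c hs, chi_linear h d hs]
  exact Finset.prod_congr rfl fun q hq => by rw [e q (Finset.mem_range.1 hq)]

theorem posT_eq (h2 : (2 : F) ≠ 0) (y : List ℕ) : posT D (ysign F y) = posC T y := by
  classical
  rw [posC, countBelow_eq, posT]
  have hn := nroots_eq h.arr (D := D)
  refine Finset.card_bij (fun r _ => r.val) (fun r hr => ?_) (fun r _ r' _ e => Fin.ext e)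
    (fun t ht => ?_)
  · simp only [Finset.mem_filter, Finset.mem_univ, true_and, Finset.mem_range] at hr ⊢
    refine ⟨hn ▸ r.isLt, ?_⟩
    rw [Bool.and_eq_true, Nat.ble_eq, ← hn]
    exact ⟨hr.2, (chi_ysign h h2 y r.isLt).1 hr.1⟩
  · simp only [Finset.mem_filter, Finset.mem_range, Bool.and_eq_true, Nat.ble_eq] at ht
    refine ⟨⟨t, hn ▸ ht.1⟩, ?_, rfl⟩
    simp only [Finset.mem_filter, Finset.mem_univ, true_and]
    exact ⟨(chi_ysign h h2 y (hn ▸ ht.1)).2 ht.2.2, by rw [hn]; exact ht.2.1⟩

theorem hT_sq_one (y : List ℕ) : hT D (ysign F y) * hT D (ysign F y) = 1 := by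
  rw [← h.facts.hT_mul, ← h.facts.hT_one (F := F)]
  refine hT_ext' h fun q _ => ?_
  congr 1
  funext i
  rw [ysign, ← mul_pow, neg_mul_neg, one_mul, one_pow]

theorem hT_ne_one (h2 : (2 : F) ≠ 0) {y : List ℕ}
    (hy : (List.range T.rank).any (fun q => !parT T y (T.smp q)) = true) :
    hT D (ysign F y) ≠ 1 := by
  intro e
  simp only [List.any_eq_true, List.mem_range, Bool.not_eq_true'] at hy
  obtain ⟨q, hq, hp⟩ := hy
  have hq' : q < D.rank := by rw [rank_eq h.arr]; exact hq
  have hr := (h.facts.simpleFin ⟨q, hq'⟩).isLt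
  have hc := conj_hT_xU h.facts (ysign F y) hr (1 : F)
  rw [e, inv_one, one_mul, mul_one] at hc
  have h1 := h.facts.xU_left_inj hr hc
  rw [show (h.facts.simpleFin ⟨q, hq'⟩).val = T.smp q from simple_eq h.arr hq'] at h1 hr
  have h3 : chi D (ysign F y) (T.smp q) = 1 := Units.ext (by simpa using h1.symm)
  rw [chi_ysign h h2 y hr, hp] at h3
  exact Bool.false_ne_true h3

variable [Finite F] (hd : 1 * Nat.card ↥(D.diagonalSubgroup F) = (Nat.card F - 1) ^ D.rank)
include hd

theorem torus_invol (hq : 1 < Nat.card F) {c : ℕ → Fˣ} (hc : hT D c * hT D c = 1) :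
    ∃ m < 2 ^ T.rank, hT D c = hT D (ysign F (bits T.rank m)) := by
  classical
  rw [← h.facts.hT_mul, h.facts.hT_eq_one_iff] at hc
  have hk : (actM (A := Fˣ) (cartanMat D)).ker = ⊥ := by
    have e := h.facts.card_diagonal (F := F)
    rw [one_mul] at hd
    rw [hd] at e
    exact Subgroup.card_eq_one.1 ((Nat.mul_eq_left (pow_ne_zero _ (by omega))).1 e)
  have hsq := (Subgroup.mem_bot).1 (hk ▸ MonoidHom.mem_ker.2 hc)
  have hpm : ∀ i < D.rank, c i = 1 ∨ c i = -1 := fun i hi => by
    have e : c i * c i = 1 := congrFun hsq ⟨i, hi⟩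
    have e' : (c i : F) * c i = 1 := by rw [← Units.val_mul, e, Units.val_one]
    rcases mul_self_eq_one_iff.1 e' with h1 | h1
    · exact Or.inl (Units.ext h1)
    · exact Or.inr (Units.ext (by rw [h1, Units.val_neg, Units.val_one]))
  obtain ⟨m, hm, he⟩ := exists_bits T.rank (fun i => if c i = 1 then 0 else 1)
    fun i => by split <;> omega
  refine ⟨m, hm, hT_ext' h fun q _ => Finset.prod_congr rfl fun i hi => ?_⟩
  rw [Finset.mem_range] at hi
  have hi' : i < T.rank := by rw [← rank_eq h.arr]; exact hi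
  congr 1
  have hb : (bits T.rank m).getD i 0 = m / 2 ^ i % 2 := by
    simp [bits, List.getD_eq_getElem?_getD, hi']
  rw [ysign, hb, he i hi']
  rcases hpm i hi with h1 | h1
  · simp [h1]
  · by_cases hh : c i = 1
    · simp [hh]
    · simp [hh, h1]

theorem card_C (hC : CommF.{v} D) (h2 : (2 : F) ≠ 0) {S : Stab} {wcard : ℕ} {degs : List ℕ}
    (hW : (wFin D D.rank).card = wcard) (hS : stabT T S = true)
    (hp : polyT T S wcard degs = true) :
    Nat.card (Subgroup.centralizer
        ({⟨hT D (ysign F S.y), hT_mem_group h.facts (ysign F S.y)⟩} : Set ↥(D.group F))) =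
      Nat.card F ^ posC T S.y * (degs.map fun d => Nat.card F ^ d - 1).prod := by
  have hq : 0 < Nat.card F := Nat.card_pos
  rw [card_centralizer h.facts hC, posT_eq h h2, mul_assoc]
  congr 1
  rw [one_mul] at hd
  refine Nat.cast_injective (R := ℤ) ?_
  rw [hd, Nat.cast_mul, prod_cast hq, ← stab_sum h hS h2 hW hp (Nat.card F : ℤ), Nat.cast_pow,
    Nat.cast_sub hq, Nat.cast_one, Nat.cast_sum, mul_comm]
  simp

theorem two_classes (hC : CommF.{v} D) (hodd : Odd (Nat.card F)) {reps : List Rep}
    (hreps : repsT T reps = true) (h0 : 0 < reps.length)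
    {Ss St : Stab} {L : List (Bool × List ℕ)} (hcl : classT T Ss.y St.y L = true)
    {wcard : ℕ} {ds dt : List ℕ} (hW : (wFin D D.rank).card = wcard)
    (hSs : stabT T Ss = true) (hSt : stabT T St = true)
    (hps : polyT T Ss wcard ds = true) (hpt : polyT T St wcard dt = true)
    (hns : (List.range T.rank).any (fun q => !parT T Ss.y (T.smp q)) = true)
    (hnt : (List.range T.rank).any (fun q => !parT T St.y (T.smp q)) = true)
    (hne : posC T Ss.y < posC T St.y ∨ posC T St.y < posC T Ss.y)
    (hds : ∀ d ∈ ds, 0 < d) (hdt : ∀ d ∈ dt, 0 < d) :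
    ∃ s t : ↥(D.group F), orderOf s = 2 ∧ orderOf t = 2 ∧ ¬ IsConj s t ∧
      (∀ u : ↥(D.group F), orderOf u = 2 → IsConj u s ∨ IsConj u t) ∧
      Nat.card (Subgroup.centralizer ({s} : Set ↥(D.group F))) =
        Nat.card F ^ posC T Ss.y * (ds.map fun d => Nat.card F ^ d - 1).prod ∧
      Nat.card (Subgroup.centralizer ({t} : Set ↥(D.group F))) =
        Nat.card F ^ posC T St.y * (dt.map fun d => Nat.card F ^ d - 1).prod := by
  classical
  have hq1 : 1 < Nat.card F := Finite.one_lt_card
  have h2 : (2 : F) ≠ 0 := fun e => by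
    have : Fintype F := Fintype.ofFinite F
    have := ringChar.of_eq (p := ringChar F) (R := F) rfl
    have h3 : ringChar F = 2 := by
      refine (Nat.prime_dvd_prime_iff_eq (CharP.char_is_prime F (ringChar F)) Nat.prime_two).1 ?_
      exact (CharP.cast_eq_zero_iff F (ringChar F) 2).1 (by simpa using e)
    have := FiniteField.even_card_of_char_two h3
    rw [← Nat.card_eq_fintype_card] at this
    exact Nat.not_even_iff_odd.2 hodd (Nat.even_iff.2 this)
  let mk : Stab → ↥(D.group F) := fun S => ⟨hT D (ysign F S.y), hT_mem_group h.facts _⟩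
  have hord : ∀ {S : Stab}, (List.range T.rank).any (fun q => !parT T S.y (T.smp q)) = true →
      orderOf (mk S) = 2 := fun {S} hS =>
    orderOf_eq_prime (by rw [pow_two]; exact Subtype.ext (hT_sq_one h _))
      fun e => hT_ne_one h h2 hS (congrArg Subtype.val e)
  have hs := card_C h hd hC h2 hW hSs hps
  have ht := card_C h hd hC h2 hW hSt hpt
  refine ⟨mk Ss, mk St, hord hns, hord hnt, fun hc => ?_, fun u hu => ?_, hs, ht⟩
  · have e := card_centralizer_conj hc
    rw [hs, ht] at e
    have key : ∀ {a b : ℕ} {P R : ℕ}, a < b → Nat.Coprime (Nat.card F) P →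
        Nat.card F ^ a * P = Nat.card F ^ b * R → False := by
      intro a b P R hab hP e
      have h3 : P = Nat.card F ^ (b - a) * R := by
        refine Nat.eq_of_mul_eq_mul_left (pow_pos (by omega : 0 < Nat.card F) a) ?_
        rw [e, ← mul_assoc, ← pow_add, show a + (b - a) = b by omega]
      have h4 : Nat.card F ∣ P := h3 ▸ Dvd.dvd.mul_right (dvd_pow_self _ (by omega)) R
      have := Nat.eq_one_of_dvd_coprimes hP dvd_rfl h4
      omega
    rcases hne with hne | hne
    · exact key hne (coprime_prod (by omega) hds) e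
    · exact key hne (coprime_prod (by omega) hdt) e.symm
  · have hu2 : (u : GL D.Idx F) * u = 1 := by
      have := pow_orderOf_eq_one u
      rw [hu, pow_two] at this
      exact congrArg Subtype.val this
    obtain ⟨z, hz, hcj⟩ := exists_diag h hC hodd hreps h0 u.2 hu2
    obtain ⟨c, rfl⟩ := h.facts.mem_diagonal_iff.1 hz
    obtain ⟨m, hm, hce⟩ := torus_invol h hd hq1 (hcj.sq_eq_one hu2)
    rw [hce] at hcj
    set y := bits T.rank m with hy
    by_cases hm0 : m = 0
    · obtain ⟨g, -, hg⟩ := hcj
      have e1 : hT D (ysign F y) = 1 := by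
        rw [← h.facts.hT_one (F := F)]
        refine hT_ext' h fun q _ => Finset.prod_congr rfl fun i _ => ?_
        congr 1
        rcases lt_or_ge i T.rank with hi | hi <;>
          simp [ysign, hy, hm0, bits, List.getD_eq_getElem?_getD, hi, Nat.not_lt.2, Nat.zero_div]
      rw [e1, mul_inv_eq_iff_eq_mul, one_mul, mul_eq_left] at hg
      rw [show u = 1 from Subtype.ext hg, orderOf_one] at hu
      omega
    · have hh := allBelow_spec hcl m hm
      rw [show Nat.beq m 0 = false from Bool.eq_false_iff.2 fun e => hm0 (Nat.eq_of_beq_eq_true e),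
        cond_false, Bool.and_eq_true] at hh
      set E := L.getD (m - 1) (false, [])
      set ty := bif E.1 then Ss.y else St.y
      have hwl : ∀ i ∈ E.2, i < T.rank := all_lt h hh.1
      set n := nW D F (toW D E.2)
      have hn : n⁻¹ ∈ D.monomialSubgroup F := Subgroup.inv_mem _ (h.facts.nW_mem _)
      obtain ⟨c', hc', hchi⟩ := conj_chi h.facts (ysign F ty) hn
        (h.facts.permAct_inv (h.facts.nW_mem _) (h.facts.permAct_nW _))
      have e : hT D c' = hT D (ysign F y) := by
        refine hT_ext' h fun q hq => ?_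
        have hq' : q < T.rank := by rw [← rank_eq h.arr]; exact hq
        have h3 := hchi (sW D (toW D E.2) (h.facts.simpleFin ⟨q, hq⟩))
        rw [← Equiv.Perm.mul_apply, inv_mul_cancel, Equiv.Perm.one_apply] at h3
        rw [show D.simple q = (h.facts.simpleFin ⟨q, hq⟩).val from rfl, h3,
          chi_eq_iff' h h2 ty y (Fin.isLt _) (Fin.isLt _), act_val h hwl,
          show (h.facts.simpleFin ⟨q, hq⟩).val = T.smp q from simple_eq h.arr hq]
        exact eq_of_beq (allBelow_spec hh.2 q hq')
      have hconj : IsConj (⟨hT D (ysign F ty), hT_mem_group h.facts _⟩ : ↥(D.group F)) u := by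
        obtain ⟨g, hg, hgu⟩ := hcj
        refine isConj_iff.2 ⟨⟨g⁻¹ * n⁻¹, Subgroup.mul_mem _ (Subgroup.inv_mem _ hg)
          (h.facts.monomial_le_group hn)⟩, Subtype.ext ?_⟩
        show g⁻¹ * n⁻¹ * hT D (ysign F ty) * (g⁻¹ * n⁻¹)⁻¹ = (u : GL D.Idx F)
        calc g⁻¹ * n⁻¹ * hT D (ysign F ty) * (g⁻¹ * n⁻¹)⁻¹
            = g⁻¹ * (n⁻¹ * hT D (ysign F ty) * n⁻¹⁻¹) * g := by group
          _ = g⁻¹ * (g * (u : GL D.Idx F) * g⁻¹) * g := by rw [hc', e, hgu]
          _ = u := by group
      cases hE : E.1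
      · simp only [ty, hE, cond_false] at hconj
        exact Or.inr hconj.symm
      · simp only [ty, hE, cond_true] at hconj
        exact Or.inl hconj.symm

end CfsgLib.Chev.OddInvol
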