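import Cfsg.Agent.Lib.Known.OddInvol.Moves
import Cfsg.Agent.Lib.Chev.Poincare
import Cfsg.Agent.Lib.Known.ChevFixedPoints

/-!
# The involutions of the Weyl group

An involution other than `1` is either lengthened from a shorter one by a fundamental reflection
commuting with it or conjugate to a shorter one by a fundamental reflection; so a list of
representatives closed under adjoining reflections of fixed roots meets every class.
-/

set_option autoImplicit false

namespace CfsgLib.Chev.OddInvol

open Cfsg.Lie

variable {D : ChevalleyDatum} {co : ℕ → ℕ → ℤ} (hF : Facts D co)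
include hF

theorem flipNum_inv (l : List (Fin D.rank)) : flipNum (sW D l)⁻¹ = flipNum (sW D l) := by
  classical
  have key : ∀ l : List (Fin D.rank), flipNum (sW D l) ≤ flipNum (sW D l.reverse) := by
    intro l
    refine Finset.card_le_card_of_injOn (fun x => hF.negFin (sW D l x)) (fun x hx => ?_) ?_
    · simp only [Finset.coe_filter, Finset.mem_univ, true_and, Set.mem_setOf_eq] at hx ⊢
      refine ⟨(hF.negFin_pos _).2 hx.2, ?_⟩
      rw [hF.sW_neg, hF.sW_reverse, ← Equiv.Perm.mul_apply, inv_mul_cancel, Equiv.Perm.one_apply]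
      have := hF.negFin_pos x
      omega
    · intro x _ y _ e
      have := congrArg hF.negFin e
      simp only at this
      refine (sW D l).injective (Fin.ext ?_)
      have e' := congrArg Fin.val this
      simpa [Facts.negFin, hF.neg_neg] using e'
  rw [← hF.sW_reverse]
  refine le_antisymm ?_ (key l)
  simpa using key l.reverse

theorem flipNum_mul_lt (l : List (Fin D.rank)) (i : Fin D.rank)
    (h : (sW D l (hF.simpleFin i)).val < D.nroots / 2) :
    flipNum (sW D (l ++ [i])) < flipNum (sW D l) := by
  classical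
  have hw : ∀ x, sW D (l ++ [i]) x = sW D l (sP D i x) := fun x => by
    rw [sW_append, sW_cons, sW_nil, mul_one, Equiv.Perm.mul_apply]
  have hp : D.nroots / 2 ≤ (hF.simpleFin i).val := (hF.simple_lt i.val i.isLt).1
  have hmem : hF.simpleFin i ∈ Finset.univ.filter fun r : Fin D.nroots =>
      D.nroots / 2 ≤ r.val ∧ (sW D l r).val < D.nroots / 2 := by simp [hp, h]
  refine lt_of_le_of_lt (Finset.card_le_card_of_injOn (sP D i) (fun x hx => ?_)
    (sP D i).injective.injOn) (Finset.card_erase_lt_of_mem hmem)
  simp only [Finset.coe_filter, Finset.mem_univ, true_and, Set.mem_setOf_eq] at hx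
  rw [hw] at hx
  have hne : x.val ≠ D.simple i.val := by
    intro e
    have hx' : x = hF.simpleFin i := Fin.ext e
    rw [hx', hF.sP_simple, hF.sW_neg] at hx
    have h1 := (hF.negFin_pos (sW D l (hF.simpleFin i))).2 h
    omega
  obtain ⟨h1, h2⟩ := hF.sP_pos i hx.1 hne
  simp only [Finset.coe_erase, Finset.coe_filter, Finset.mem_univ, true_and, Set.mem_diff,
    Set.mem_setOf_eq, Set.mem_singleton_iff]
  exact ⟨⟨h1, hx.2⟩, fun e => h2 (congrArg Fin.val e)⟩

/-- Every involution is conjugate to a representative. -/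
theorem exists_rep {K : ℕ} {W : ℕ → List (Fin D.rank)} (h0 : 0 < K) (hW : sW D (W 0) = 1)
    (hext : ∀ k < K, ∀ (w : List (Fin D.rank)) (i : Fin D.rank),
      D.nroots / 2 ≤ (sW D w (hF.simpleFin i)).val →
      sW D (W k) (sW D w (hF.simpleFin i)) = sW D w (hF.simpleFin i) →
      ∃ k' < K, ∃ u : List (Fin D.rank),
        sW D u * (sW D (W k) * (sW D w * sP D i * (sW D w)⁻¹)) * (sW D u)⁻¹ = sW D (W k'))
    (l : List (Fin D.rank)) (hl : sW D l * sW D l = 1) :
    ∃ k < K, ∃ u : List (Fin D.rank), sW D u * sW D l * (sW D u)⁻¹ = sW D (W k) := by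
  suffices ∀ (n : ℕ) (l : List (Fin D.rank)), flipNum (sW D l) = n → sW D l * sW D l = 1 →
      ∃ k < K, ∃ u : List (Fin D.rank), sW D u * sW D l * (sW D u)⁻¹ = sW D (W k) from
    this _ l rfl hl
  intro n
  induction n using Nat.strong_induction_on with
  | _ n ih =>
    intro l hn hl
    by_cases h1 : sW D l = 1
    · exact ⟨0, h0, [], by rw [h1, hW, sW_nil]; simp⟩
    obtain ⟨i, hi⟩ := FixedPoints.exists_simple_neg hF l h1
    have hinv : (sW D l)⁻¹ = sW D l := inv_eq_of_mul_eq_one_right hl
    have hs : sP D i * sP D i = 1 := hF.sP_sq i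
    have hsi : (sP D i)⁻¹ = sP D i := inv_eq_of_mul_eq_one_right hs
    have e1 : sW D (l ++ [i]) = sW D l * sP D i := by rw [sW_append, sW_cons, sW_nil, mul_one]
    have hlt := flipNum_mul_lt hF l i hi
    by_cases heq : sW D l (hF.simpleFin i) = hF.negFin (hF.simpleFin i)
    · have hc : sW D l * sP D i * (sW D l)⁻¹ = sP D i := by
        have := refl_eq hF (a := l) (b := [i]) (i := i) (j := i) (by
          rw [heq, sW_cons, sW_nil, mul_one, hF.sP_simple])
        rw [this, sW_cons, sW_nil, mul_one, hsi, mul_assoc, hs, mul_one]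
      have hc' : sW D l * sP D i = sP D i * sW D l := mul_inv_eq_iff_eq_mul.1 hc
      have h2 : sW D (l ++ [i]) * sW D (l ++ [i]) = 1 := by
        rw [e1]; nth_rewrite 2 [hc']
        rw [mul_assoc, ← mul_assoc (sP D i), hs, one_mul, hl]
      obtain ⟨k, hk, u, hu⟩ := ih _ (hn ▸ hlt) (l ++ [i]) rfl h2
      rw [e1] at hu
      obtain ⟨v, hv, hpos⟩ : ∃ v : List (Fin D.rank),
          sW D v * (sW D l * sP D i) * (sW D v)⁻¹ = sW D (W k) ∧
            D.nroots / 2 ≤ (sW D v (hF.simpleFin i)).val := by
        by_cases hp : D.nroots / 2 ≤ (sW D u (hF.simpleFin i)).val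
        · exact ⟨u, hu, hp⟩
        · refine ⟨u ++ [i], ?_, ?_⟩
          · rw [sW_append, sW_cons, sW_nil, mul_one, mul_inv_rev, hsi, ← hu]
            calc sW D u * sP D i * (sW D l * sP D i) * (sP D i * (sW D u)⁻¹)
                = sW D u * (sP D i * sW D l) * (sP D i * sP D i) * (sW D u)⁻¹ := by group
              _ = _ := by rw [hs, mul_one, ← hc']
          · rw [sW_append, sW_cons, sW_nil, mul_one, Equiv.Perm.mul_apply, hF.sP_simple, hF.sW_neg]
            exact (hF.negFin_pos _).2 (by omega)
      have hfix : sW D (W k) (sW D v (hF.simpleFin i)) = sW D v (hF.simpleFin i) := by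
        rw [← hv]
        simp only [Equiv.Perm.mul_apply]
        rw [← Equiv.Perm.mul_apply (sW D v)⁻¹, inv_mul_cancel, Equiv.Perm.one_apply, hF.sP_simple,
          hF.sW_neg, heq]
        congr 1
        exact Fin.ext (hF.neg_neg (hF.simpleFin i).isLt)
      obtain ⟨k', hk', w, hw⟩ := hext k hk v i hpos hfix
      refine ⟨k', hk', w ++ v, ?_⟩
      rw [← hw, ← hv, sW_append]
      calc sW D w * sW D v * sW D l * (sW D w * sW D v)⁻¹
          = sW D w * (sW D v * (sW D l * (sP D i * sP D i)) * (sW D v)⁻¹) * (sW D w)⁻¹ := by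
            rw [hs, mul_one]; group
        _ = _ := by group
    · have hi' : (sW D (i :: l) (hF.simpleFin i)).val < D.nroots / 2 := by
        by_contra hc
        have h3 := hF.sP_pos i (s := hF.negFin (sW D l (hF.simpleFin i))) ((hF.negFin_pos _).2 hi)
          (fun e => heq (Fin.ext (by
            show (sW D l (hF.simpleFin i)).val = D.neg (D.simple i.val)
            rw [← e]
            exact (hF.neg_neg (sW D l (hF.simpleFin i)).isLt).symm)))
        rw [sW_cons, Equiv.Perm.mul_apply] at hc
        have h4 : sP D i (hF.negFin (sW D l (hF.simpleFin i))) =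
            hF.negFin (sP D i (sW D l (hF.simpleFin i))) := hF.sP_neg i _
        rw [h4] at h3
        have := (hF.negFin_pos _).1 h3.1
        omega
      have hlt2 := flipNum_mul_lt hF (i :: l) i hi'
      have h5 : flipNum (sW D (i :: l)) = flipNum (sW D (l ++ [i])) := by
        rw [← flipNum_inv hF (l ++ [i]), e1, mul_inv_rev, hsi, hinv, sW_cons]
      have e2 : sW D (i :: l ++ [i]) = sP D i * sW D l * sP D i := by
        rw [sW_append, sW_cons, sW_cons, sW_nil, mul_one]
      obtain ⟨k, hk, u, hu⟩ := ih _ (by omega) (i :: l ++ [i]) rfl (by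
        rw [e2]
        calc sP D i * sW D l * sP D i * (sP D i * sW D l * sP D i)
            = sP D i * (sW D l * (sP D i * sP D i) * sW D l) * sP D i := by group
          _ = 1 := by rw [hs, mul_one, hl, mul_one, hs])
      refine ⟨k, hk, u ++ [i], ?_⟩
      rw [← hu, e2, sW_append, sW_cons, sW_nil, mul_one, mul_inv_rev, hsi]
      group

end CfsgLib.Chev.OddInvol
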